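import Cfsg.Agent.Lib.Spor.JFourLoc.Group
import Cfsg.Agent.Lib.Spor.JFourLine

/-!
The eight elements over the isotropic line fixed by an element of order five of the centraliser of the involution.
-/

set_option autoImplicit false
set_option maxRecDepth 100000
set_option linter.unusedSectionVars false

namespace Cfsg.Agent.Spor.JFour

open Cfsg.Agent.Spor.SUSix (V6 code)
open Cfsg.Agent.Spor.SpFour (F4)
open Cfsg.Agent.Small.Unitary (herm)

attribute [local irreducible] wd gP Gam Kp Chk.app BlockKer Cmp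

/-- a power of an element of prime order generates -/
theorem zpowers_gen {H : Type*} [Group H] {g a : H} {q : ℕ} [Fact q.Prime] (hg : g ^ q = 1)
    (ha : a ∈ Subgroup.zpowers g) (h1 : a ≠ 1) : g ∈ Subgroup.zpowers a := by
  obtain ⟨i, rfl⟩ := ha
  have hg1 : g ≠ 1 := fun e => h1 (by rw [e]; exact one_zpow i)
  have ho : orderOf g = q := orderOf_eq_prime hg hg1
  have hcop : IsCoprime i (q : ℤ) := by
    rw [Int.isCoprime_iff_gcd_eq_one]
    rcases Nat.coprime_or_dvd_of_prime (Fact.out : q.Prime) i.natAbs with h | h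
    · simpa [Int.gcd, Nat.coprime_comm] using h
    · exfalso
      apply h1
      show g ^ i = 1
      rw [← orderOf_dvd_iff_zpow_eq_one, ho]
      exact Int.natCast_dvd.2 h
  obtain ⟨u, v, huv⟩ := hcop
  refine ⟨u, ?_⟩
  show (g ^ i) ^ u = g
  rw [← zpow_mul, mul_comm, show u * i = 1 - v * q by linarith, zpow_sub, zpow_one, mul_comm v, zpow_mul,
    zpow_natCast, hg, one_zpow, inv_one, mul_one]

theorem onL_smul {e u : V6} : OnL e u ↔ ∃ c : F4, c ≠ 0 ∧ u = c • e := by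
  have h : F4.w • (F4.w • e) = F4.v • e := by rw [smul_smul]; rfl
  rw [OnL, h]
  constructor
  · rintro (rfl | rfl | rfl)
    exacts [⟨1, one_ne_zero, (one_smul _ _).symm⟩, ⟨F4.w, by decide +kernel, rfl⟩, ⟨F4.v, by decide +kernel, rfl⟩]
  · rintro ⟨c, hc, rfl⟩
    rcases (show ∀ c : F4, c ≠ 0 → c = 1 ∨ c = F4.w ∨ c = F4.v by decide +kernel) c hc with rfl | rfl | rfl
    exacts [Or.inl (one_smul _ _), Or.inr (Or.inl rfl), Or.inr (Or.inr rfl)]

theorem scalar_pow {c : F4} (hc : c ≠ 0) : ∃ j : ℕ, ∀ v : V6, (gW ^ j) v = c • v := by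
  have h1 : ∀ v : V6, gW v = F4.w • v := gW_apply
  rcases (show ∀ c : F4, c ≠ 0 → c = 1 ∨ c = F4.w ∨ c = F4.w * F4.w by decide +kernel) c hc with rfl | rfl | rfl
  · exact ⟨0, fun v => by simp⟩
  · exact ⟨1, fun v => by rw [pow_one]; exact h1 v⟩
  · exact ⟨2, fun v => by rw [pow_two, Equiv.Perm.mul_apply, h1, h1, smul_smul]⟩

theorem smul_invariant {c : F4} (hc : c ≠ 0) (v : V6) : (PA (c • v) ↔ PA v) ∧ (PI (c • v) ↔ PI v) := by
  obtain ⟨j, hj⟩ := scalar_pow hc
  rw [← hj]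
  exact Gam_le_Pres (Kp_le (pow_mem gW_mem j)) v

theorem bv_smul {c : F4} (hc : c ≠ 0) (u v : V6) : bv (c • u) (c • v) = bv u v := by
  obtain ⟨j, hj⟩ := scalar_pow hc
  have hf := (Kp_le_LinG (pow_mem gW_mem j) : Lin (gW ^ j)).form
  simp only [hj] at hf
  rw [bv, bv, ← smul_add, hf, hf, hf]

theorem gD_ne : gD ≠ 1 := by
  intro e
  obtain ⟨h11, hA1, -, -, -, h, -⟩ := gA_facts
  rw [e, one_mul, inv_one, mul_one] at h
  have h2 : gA ^ 2 = 1 := by
    have e2 : gA * gA ^ 2 = gA := by rw [← pow_succ']; exact h.symm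
    simpa using e2
  apply hA1
  have := pow_gcd_eq_one.2 ⟨h2, h11⟩
  rwa [show Nat.gcd 2 11 = 1 from rfl, pow_one] at this

/-- the linear part of the centraliser of the element of order five -/
theorem cFive (hM : Mdl) {p : PV} (hp : p ∈ Kp) (hpc : Commute p gD) : ∃ i j : ℕ, p = gD ^ i * gW ^ j := by
  haveI : Fact (Nat.Prime 3) := ⟨Nat.prime_three⟩
  haveI : Fact (Nat.Prime 5) := ⟨by norm_num⟩
  have hD5 : gD ^ 5 = 1 := gA_facts.2.2.1
  have hD1 : gD ≠ 1 := gD_ne
  have hC := cent_Kp hM (Or.inl rfl) gD_mem hD5 hD1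
  have hWD : Commute gW gD := gW_comm (Kp_le_LinG gD_mem)
  set C : Subgroup PV := Kp ⊓ Subgroup.centralizer ({gD} : Set PV)
  let φ : Fin 5 × Fin 3 → C := fun t => ⟨gD ^ t.1.val * gW ^ t.2.val,
    mul_mem (pow_mem gD_mem _) (pow_mem gW_mem _),
    Subgroup.mem_centralizer_singleton_iff.2 (((Commute.refl gD).pow_left _).mul_left (hWD.pow_left _)).eq⟩
  have hinj : Function.Injective φ := by
    intro a b e
    have e' : gD ^ a.1.val * gW ^ a.2.val = gD ^ b.1.val * gW ^ b.2.val := congrArg Subtype.val e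
    have ho5 : orderOf gD = 5 := orderOf_eq_prime hD5 hD1
    have ho3 : orderOf gW = 3 := orderOf_eq_prime gW_facts.1 gW_facts.2
    have hc : Commute gD gW := hWD.symm
    have e6 := congrArg (· ^ 6) e'
    have e10 := congrArg (· ^ 10) e'
    simp only [((hc.pow_left _).pow_right _).mul_pow, ← pow_mul] at e6 e10
    have r6 : ∀ i : ℕ, gW ^ (i * 6) = 1 := fun i => by
      rw [show i * 6 = 3 * (2 * i) by ring, pow_mul, gW_facts.1, one_pow]
    have r10 : ∀ i : ℕ, gD ^ (i * 10) = 1 := fun i => by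
      rw [show i * 10 = 5 * (2 * i) by ring, pow_mul, hD5, one_pow]
    rw [r6, r6, mul_one, mul_one, pow_eq_pow_iff_modEq, ho5] at e6
    rw [r10, r10, one_mul, one_mul, pow_eq_pow_iff_modEq, ho3] at e10
    have h1 := a.1.2
    have h2 := b.1.2
    have h3 := a.2.2
    have h4 := b.2.2
    unfold Nat.ModEq at e6 e10
    exact Prod.ext (Fin.ext (by omega)) (Fin.ext (by omega))
  have hbij : Function.Bijective φ := (Nat.bijective_iff_injective_and_card φ).2 ⟨hinj, by
    rw [hC, Nat.card_prod, Nat.card_fin, Nat.card_fin]⟩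
  obtain ⟨t, ht⟩ := hbij.2 ⟨p, hp, Subgroup.mem_centralizer_singleton_iff.2 hpc.eq⟩
  exact ⟨_, _, (congrArg Subtype.val ht).symm⟩

universe u

variable {G : Type u} [Group G] [Finite G] {z : G} {Q N : Subgroup G} {x : G}

/-- the data attached to an element of order five -/
structure FiveCtx (z : G) (Q : Subgroup G) (p : G) (E : Subgroup G) : Prop where
  zE : z ∈ E
  card : Nat.card E = 8
  sq : ∀ e ∈ E, e * e = 1
  cls : ∀ e ∈ E, e ≠ 1 → IsConj z e
  com : ∀ e ∈ E, Commute e p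
  EQ : E ≤ Q
  mem : ∀ u, IsConj z u → u ∈ Q → Commute u p → u ∈ E
  ext : ∀ g u : G, g * z * g⁻¹ = u → u ∈ E → u ≠ z → ∀ e ∈ E, e ∈ Qc Q g
  norm : ∀ c, Commute c z → Commute c p → ∀ e ∈ E, c * e * c⁻¹ ∈ E
  trans : ∀ a ∈ E, ∀ b ∈ E, a ≠ 1 → a ≠ z → b ≠ 1 → b ≠ z → ∃ c, Commute c z ∧ Commute c p ∧ c * a * c⁻¹ = b
  cent : ∀ c, Commute c z → Commute c p → (∀ e ∈ E, Commute c e) → ∃ i : ℕ, ∃ e ∈ E, c = p ^ i * e
  cardH : Nat.card (Subgroup.centralizer ({z} : Set G) ⊓ Subgroup.centralizer ({p} : Set G) : Subgroup G) = 960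
  out : ∀ a b, Commute a z → Commute a p → Commute b z → Commute b p → a * a = 1 → b * b = 1 → Commute a b →
    a ∉ Q → b ∉ Q → a * b ∈ Q
  extra : ∃ v ∈ Q, Commute v p ∧ v * v = 1 ∧ v ∉ E
  nosplit : ∀ T : Subgroup G, T ≤ Q → z ∈ T → Nat.card T = 8 → (∀ a ∈ T, a * a = 1) → (∀ a ∈ T, Commute a p) →
    (∀ a ∈ T, a ∈ E → a = 1 ∨ a = z) → ∀ c t, Commute c z → Commute c p → orderOf c = 3 → Commute t z →
    Commute t p → t * t = 1 → t ∉ Q → (∀ a ∈ T, c * a * c⁻¹ ∈ T) → (∀ a ∈ T, t * a * t⁻¹ ∈ T) → False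
  cardR : Nat.card (Q ⊓ Subgroup.centralizer ({p} : Set G) : Subgroup G) = 32
  sqr : ∃ c, Commute c z ∧ c * p * c⁻¹ = p ^ 2
  three : ∃ c, orderOf c = 3 ∧ ∀ e ∈ E, Commute c e

theorem mem_map_conj {E : Subgroup G} {g a : G} :
    a ∈ E.map (MulAut.conj g).toMonoidHom ↔ g⁻¹ * a * g ∈ E := by
  rw [Subgroup.mem_map_equiv, MulAut.conj_symm_apply]

theorem Qc_Qc (g h : G) : Qc (Qc Q g) h = Qc Q (h * g) := by
  ext a
  rw [mem_map_conj, mem_map_conj, mem_map_conj]
  rw [show g⁻¹ * (h⁻¹ * a * h) * g = (h * g)⁻¹ * a * (h * g) by group]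

/-- the data moved by conjugation -/
theorem FiveCtx.conj {p : G} {E : Subgroup G} (C : FiveCtx z Q p E) (g : G) :
    FiveCtx (g * z * g⁻¹) (Qc Q g) (g * p * g⁻¹) (E.map (MulAut.conj g).toMonoidHom) := by
  have hc : ∀ {a b : G}, Commute a (g * b * g⁻¹) ↔ Commute (g⁻¹ * a * g) b := fun {a b} => by
    rw [← Commute.conj_iff g⁻¹ (a := a), inv_inv, show g⁻¹ * (g * b * g⁻¹) * g = b by group]
  have hmap : ∀ a, g * a * g⁻¹ ∈ E.map (MulAut.conj g).toMonoidHom ↔ a ∈ E := fun a => by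
    rw [mem_map_conj, show g⁻¹ * (g * a * g⁻¹) * g = a by group]
  have hsq : ∀ {a : G}, a * a = 1 ↔ (g⁻¹ * a * g) * (g⁻¹ * a * g) = 1 := fun {a} => by
    rw [show (g⁻¹ * a * g) * (g⁻¹ * a * g) = g⁻¹ * (a * a) * g⁻¹⁻¹ by group, conj_eq_one_iff]
  have hne : ∀ {a b : G}, g⁻¹ * a * g = b ↔ a = g * b * g⁻¹ := fun {a b} =>
    ⟨fun e => by rw [← e]; group, fun e => by rw [e]; group⟩
  have hone : ∀ {a : G}, a ≠ 1 → g⁻¹ * a * g ≠ 1 := fun {a} h e => h ((hne.1 e).trans (by group))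
  have hcard : ∀ K : Subgroup G, Nat.card (K.map (MulAut.conj g).toMonoidHom) = Nat.card K := fun K =>
    Subgroup.card_map_of_injective (MulAut.conj g).injective
  refine ⟨(hmap z).2 C.zE, (hcard E).trans C.card, fun e he => hsq.2 (C.sq _ (mem_map_conj.1 he)), fun e he h1 => ?_,
    fun e he => hc.2 (C.com _ (mem_map_conj.1 he)), Subgroup.map_mono C.EQ, fun u hu huQ hup => ?_, ?_, ?_, ?_, ?_,
    ?_, ?_, ?_, ?_, ?_, ?_, ?_⟩
  · refine ((isConj_iff.2 ⟨g⁻¹, by group⟩ : IsConj (g * z * g⁻¹) z).trans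
      (C.cls _ (mem_map_conj.1 he) (hone h1))).trans (isConj_iff.2 ⟨g, by group⟩)
  · exact mem_map_conj.2 (C.mem _ (((isConj_iff.2 ⟨g, rfl⟩ : IsConj z (g * z * g⁻¹)).trans hu).trans
      (isConj_iff.2 ⟨g⁻¹, by group⟩)) (mem_Qc.1 huQ) (hc.1 hup))
  · intro h u hu hue huz e he
    have := C.ext (g⁻¹ * h * g) (g⁻¹ * u * g) (by rw [← hu]; group) (mem_map_conj.1 hue)
      (fun e' => huz (hne.1 e')) _ (mem_map_conj.1 he)
    rw [Qc_Qc, mem_map_conj]
    rw [mem_map_conj] at this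
    rwa [show (g⁻¹ * h * g)⁻¹ * (g⁻¹ * e * g) * (g⁻¹ * h * g) = (h * g)⁻¹ * e * (h * g) by group] at this
  · intro c hcz hcp e he
    rw [mem_map_conj]
    rw [show g⁻¹ * (c * e * c⁻¹) * g = (g⁻¹ * c * g) * (g⁻¹ * e * g) * (g⁻¹ * c * g)⁻¹ by group]
    exact C.norm _ (hc.1 hcz) (hc.1 hcp) _ (mem_map_conj.1 he)
  · intro a ha b hb a1 a2 b1 b2
    obtain ⟨c, hcz, hcp, e⟩ := C.trans _ (mem_map_conj.1 ha) _ (mem_map_conj.1 hb) (hone a1) (fun h => a2 (hne.1 h))
      (hone b1) (fun h => b2 (hne.1 h))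
    refine ⟨g * c * g⁻¹, (Commute.conj_iff g).2 hcz, (Commute.conj_iff g).2 hcp, ?_⟩
    rw [show g * c * g⁻¹ * a * (g * c * g⁻¹)⁻¹ = g * (c * (g⁻¹ * a * g) * c⁻¹) * g⁻¹ by group, e]
    group
  · intro c hcz hcp hcE
    obtain ⟨i, e, he, h⟩ := C.cent _ (hc.1 hcz) (hc.1 hcp) fun e he => hc.1 (hcE _ ((hmap e).2 he))
    refine ⟨i, g * e * g⁻¹, (hmap e).2 he, ?_⟩
    rw [hne.1 h, conj_pow]
    group
  · rw [← C.cardH, ← hcard (Subgroup.centralizer ({z} : Set G) ⊓ Subgroup.centralizer ({p} : Set G))]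
    congr 1
    have : ∀ a, a ∈ Subgroup.centralizer ({g * z * g⁻¹} : Set G) ⊓ Subgroup.centralizer ({g * p * g⁻¹} : Set G) ↔
        a ∈ (Subgroup.centralizer ({z} : Set G) ⊓ Subgroup.centralizer ({p} : Set G)).map (MulAut.conj g).toMonoidHom := by
      intro a
      rw [mem_map_conj]
      simp only [Subgroup.mem_inf, Subgroup.mem_centralizer_singleton_iff]
      exact and_congr hc hc
    exact congrArg (fun K : Subgroup G => (K : Type u)) (Subgroup.ext this)
  · intro a b h1 h2 h3 h4 ha hb hab haQ hbQ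
    rw [mem_Qc, show g⁻¹ * (a * b) * g = (g⁻¹ * a * g) * (g⁻¹ * b * g) by group]
    have h5 := (Commute.conj_iff g⁻¹).2 hab
    rw [inv_inv] at h5
    exact C.out _ _ (hc.1 h1) (hc.1 h2) (hc.1 h3) (hc.1 h4) (hsq.1 ha) (hsq.1 hb) h5
      (fun h => haQ (mem_Qc.2 h)) (fun h => hbQ (mem_Qc.2 h))
  · obtain ⟨v, hv, hvp, hv2, hvE⟩ := C.extra
    refine ⟨g * v * g⁻¹, mem_Qc.2 (by rwa [show g⁻¹ * (g * v * g⁻¹) * g = v by group]), (Commute.conj_iff g).2 hvp,
      hsq.2 (by rwa [show g⁻¹ * (g * v * g⁻¹) * g = v by group]), fun h => hvE ((hmap v).1 h)⟩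
  · intro T hTQ hzT hT8 hT2 hTp hTE a t haz hap ha3 htz htp htt htQ haT htT
    set T' : Subgroup G := T.map (MulAut.conj g⁻¹).toMonoidHom with hT'
    have hm : ∀ b, b ∈ T' ↔ g * b * g⁻¹ ∈ T := fun b => by rw [hT', mem_map_conj, inv_inv]
    refine C.nosplit T' (fun b hb => ?_) ((hm z).2 hzT)
      (by rw [hT', Subgroup.card_map_of_injective (MulAut.conj g⁻¹).injective, hT8]) (fun b hb => ?_) (fun b hb => ?_)
      (fun b hb hbE => ?_) (g⁻¹ * a * g) (g⁻¹ * t * g) (hc.1 haz) (hc.1 hap) ?_ (hc.1 htz) (hc.1 htp) (hsq.1 htt)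
      (fun h => htQ (mem_Qc.2 h)) (fun b hb => ?_) fun b hb => ?_
    · have := mem_Qc.1 (hTQ ((hm b).1 hb))
      rwa [show g⁻¹ * (g * b * g⁻¹) * g = b by group] at this
    · have := hsq.1 (hT2 _ ((hm b).1 hb))
      rwa [show g⁻¹ * (g * b * g⁻¹) * g = b by group] at this
    · have := hc.1 (hTp _ ((hm b).1 hb))
      rwa [show g⁻¹ * (g * b * g⁻¹) * g = b by group] at this
    · rcases hTE _ ((hm b).1 hb) ((hmap b).2 hbE) with e | e
      · exact Or.inl (conj_eq_one_iff.1 e)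
      · exact Or.inr (mul_left_cancel (mul_right_cancel e))
    · rw [← ha3, show g⁻¹ * a * g = MulAut.conj g⁻¹ a by simp [mul_assoc], MulEquiv.orderOf_eq]
    · rw [hm, show g * ((g⁻¹ * a * g) * b * (g⁻¹ * a * g)⁻¹) * g⁻¹ = a * (g * b * g⁻¹) * a⁻¹ by group]
      exact haT _ ((hm b).1 hb)
    · rw [hm, show g * ((g⁻¹ * t * g) * b * (g⁻¹ * t * g)⁻¹) * g⁻¹ = t * (g * b * g⁻¹) * t⁻¹ by group]
      exact htT _ ((hm b).1 hb)
  · rw [← C.cardR, ← hcard (Q ⊓ Subgroup.centralizer ({p} : Set G))]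
    have : ∀ a, a ∈ Qc Q g ⊓ Subgroup.centralizer ({g * p * g⁻¹} : Set G) ↔
        a ∈ (Q ⊓ Subgroup.centralizer ({p} : Set G)).map (MulAut.conj g).toMonoidHom := by
      intro a
      rw [mem_map_conj]
      simp only [Subgroup.mem_inf, mem_Qc, Subgroup.mem_centralizer_singleton_iff]
      exact and_congr Iff.rfl hc
    exact congrArg (fun K : Subgroup G => Nat.card K) (Subgroup.ext this)
  · obtain ⟨c, hcz, hcp⟩ := C.sqr
    refine ⟨g * c * g⁻¹, (Commute.conj_iff g).2 hcz, ?_⟩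
    rw [show g * c * g⁻¹ * (g * p * g⁻¹) * (g * c * g⁻¹)⁻¹ = g * (c * p * c⁻¹) * g⁻¹ by group, hcp, conj_pow]
  · obtain ⟨c, hc3, hcE⟩ := C.three
    refine ⟨g * c * g⁻¹, by rw [← hc3, show g * c * g⁻¹ = MulAut.conj g c by simp, MulEquiv.orderOf_eq],
      fun e he => ?_⟩
    have := (Commute.conj_iff g).2 (hcE _ (mem_map_conj.1 he))
    rwa [show g * (g⁻¹ * e * g) * g⁻¹ = e by group] at this

variable (S : Big z Q N x)

include S

/-- every element of order five of the centraliser of the involution has its data -/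
theorem Big.five_ctx (f0 : Frame z Q x) {p : G} (h5 : p ^ 5 = 1) (h1 : p ≠ 1) (hpz : Commute p z) :
    ∃ E, FiveCtx z Q p E := by
  haveI : Fact (Nat.Prime 5) := ⟨by norm_num⟩
  set c : Subgroup.centralizer ({z} : Set G) := ⟨p, Subgroup.mem_centralizer_singleton_iff.2 hpz.eq⟩ with hc
  have hc5 : c ^ 5 = 1 := Subtype.ext (by rw [SubmonoidClass.coe_pow]; exact h5)
  have hD5 : gD ^ 5 = 1 := gA_facts.2.2.1
  have hDne : gD ≠ 1 := gD_ne
  obtain ⟨f, hfm, hf1⟩ := f0.standard S.base (Or.inl rfl) gD_mem hD5 hDne hc5 fun e => h1 (congrArg Subtype.val e)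
  obtain ⟨k, hk⟩ := hfm
  obtain ⟨l, hl⟩ := zpowers_gen hD5 ⟨k, hk⟩ hf1
  have hfix : ∀ v, f.π c v = v ↔ gD v = v := fun v => by
    have key : ∀ (g a : PV), a ∈ Subgroup.zpowers g → g v = v → a v = v := fun g a ha e =>
      (Subgroup.zpowers_le.2 (MulAction.mem_stabilizer_iff.2 e : g ∈ MulAction.stabilizer PV v)) ha
    exact ⟨key _ _ ⟨l, hl⟩, key _ _ ⟨k, hk⟩⟩
  have hcomm : ∀ t, Commute t (f.π c) ↔ Commute t gD := fun t =>
    ⟨fun h => hl ▸ h.zpow_right l, fun h => hk ▸ h.zpow_right k⟩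
  obtain ⟨⟨heD, heI, heA⟩, ⟨hFD, hFI, hFA⟩, htG, htD, ht2, htK⟩ := five_facts
  have hfp : ∀ {a : G}, a ∈ Q → (Commute a p ↔ gD (f.vec a) = f.vec a) := fun ha =>
    (Commute.symm_iff.trans (f.comm_iff_fix S.base hc5 (by decide) ha)).trans (hfix _)
  -- the subgroup
  let E : Subgroup G :=
    { carrier := {a | a ∈ Q ∧ ∃ r : F4, f.vec a = r • eA}
      one_mem' := ⟨one_mem _, 0, by rw [f.vec_one S.base, zero_smul]⟩
      mul_mem' := fun {a b} ⟨ha, r, hr⟩ ⟨hb, t, ht⟩ =>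
        ⟨mul_mem ha hb, r + t, by rw [f.vec_mul a ha b hb, hr, ht, add_smul]⟩
      inv_mem' := fun {a} ⟨ha, r, hr⟩ => ⟨inv_mem ha, r, by rw [f.vec_inv S.base ha, hr]⟩ }
  have hzE : z ∈ E := ⟨S.base.ord.xt.mem, 0, by rw [f.vec_z S.base, zero_smul]⟩
  have hpt : ∀ r : F4, r ≠ 0 → PI (r • eA) ∧ PA (r • eA) := fun r hr =>
    ⟨(smul_invariant hr eA).2.2 heI, (smul_invariant hr eA).1.2 heA⟩
  have hvne : ∀ {a}, a ∈ E → a ≠ 1 → a ≠ z → ∃ r : F4, r ≠ 0 ∧ f.vec a = r • eA := fun {a} ⟨ha, r, hr⟩ e1 e2 =>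
    ⟨r, fun h => f.vec_ne S.base ha e1 e2 (by rw [hr, h, zero_smul]), hr⟩
  have hsq : ∀ e ∈ E, e * e = 1 := by
    intro e he
    rcases eq_or_ne e 1 with rfl | e1
    · exact one_mul 1
    rcases eq_or_ne e z with rfl | e2
    · exact S.base.ord.xt.sq
    obtain ⟨r, hr, hv⟩ := hvne he e1 e2
    exact (f.sq_iff e he.1).2 (hv ▸ ((PI_iff _).1 (hpt r hr).1).2)
  have hEp : ∀ e ∈ E, Commute e p := by
    rintro e ⟨he, r, hr⟩
    rw [hfp he, hr, (Kp_le_LinG gD_mem).smul_all, heD]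
  have hmem : ∀ u, IsConj z u → u ∈ Q → Commute u p → u ∈ E := by
    intro u hu huQ hup
    rcases eq_or_ne u z with rfl | huz
    · exact hzE
    obtain ⟨g, rfl⟩ := isConj_iff.1 hu
    obtain ⟨hI, hA⟩ := S.PA_vec f huQ huz
    obtain ⟨r, -, hr⟩ := onL_smul.1 ((fixD_vec _ ((hfp huQ).1 hup)).1 hI hA)
    exact ⟨huQ, r, hr⟩
  have hcard : Nat.card E = 8 := by
    have e1 : f.vec '' (E : Set G) = Set.range (fun r : F4 => r • eA) := by
      ext v
      constructor
      · rintro ⟨a, ⟨-, r, hr⟩, rfl⟩; exact ⟨r, hr.symm⟩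
      · rintro ⟨r, rfl⟩
        obtain ⟨a, ha, e⟩ := f.vec_surj (r • eA)
        exact ⟨a, ⟨ha, r, e⟩, e⟩
    rw [f.vecCard S.base E (fun a ha => ha.1) hzE, e1, Set.ncard_range_of_injective]
    · rw [Nat.card_eq_fintype_card]; rfl
    · intro r t e
      by_contra hne
      have h0 : (r - t) • eA = 0 := by rw [sub_smul, sub_eq_zero]; exact e
      rcases smul_eq_zero.1 h0 with h | h
      · exact hne (sub_eq_zero.1 h)
      · exact ((PI_iff _).1 heI).1 h
  -- elements acting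
  have hC : ∀ a : G, Commute a z → Commute a p → ∃ a' : Subgroup.centralizer ({z} : Set G),
      (a' : G) = a ∧ Commute (f.π a') gD ∧ f.π a' ∈ Gam := fun a haz hap =>
    ⟨⟨a, Subgroup.mem_centralizer_singleton_iff.2 haz.eq⟩, rfl,
      (hcomm _).1 ((show Commute (⟨a, Subgroup.mem_centralizer_singleton_iff.2 haz.eq⟩ :
        Subgroup.centralizer ({z} : Set G)) c from Subtype.ext hap.eq).map f.π), (f.range _).2 ⟨_, rfl⟩⟩
  have hodd15 : ∀ {q : PV}, q ∈ Kp → Commute q gD → q * q = 1 → q = 1 := fun {q} hq hqD h2 => by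
    obtain ⟨i, j, rfl⟩ := cFive f.mdl hq hqD
    have h15 : (gD ^ i * gW ^ j) ^ 15 = 1 := by
      rw [(((gW_comm (Kp_le_LinG gD_mem)).symm.pow_left i).pow_right j).mul_pow, ← pow_mul, ← pow_mul,
        show i * 15 = 5 * (3 * i) by ring, show j * 15 = 3 * (5 * j) by ring, pow_mul, hD5, one_pow, one_mul,
        pow_mul, gW_facts.1, one_pow]
    rw [show (15 : ℕ) = 2 * 7 + 1 from rfl, pow_succ, pow_mul, pow_two, h2, one_pow, one_mul] at h15
    exact h15
  have hside : ∀ {q : PV}, q ∈ Gam → Commute q gD → q ∈ Kp ∨ ∃ i j : ℕ, q = tFive * (gD ^ i * gW ^ j) := by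
    intro q hq hqD
    by_cases hK : q ∈ Kp
    · exact Or.inl hK
    refine Or.inr ?_
    have h := Subgroup.mul_mem_iff_of_index_two index_Gam (a := ⟨tFive, htG⟩) (b := ⟨q, hq⟩)
    simp only [Subgroup.mem_subgroupOf, Subgroup.coe_mul, htK, hK, iff_self, iff_true] at h
    obtain ⟨i, j, e⟩ := cFive f.mdl h (htD.mul_left hqD)
    exact ⟨i, j, by rw [← e, ← mul_assoc, ht2, one_mul]⟩
  -- noncommuting elements
  have hmove : ∀ a ∈ E, a ≠ 1 → a ≠ z → ∃ y ∈ Q, Commute y p ∧ y * a * y⁻¹ = a * z := by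
    intro a ha e1 e2
    obtain ⟨r, hr, hv⟩ := hvne ha e1 e2
    by_contra hno
    push Not at hno
    have hperp : ∀ v, gD v = v → bv v (r • eA) = 0 := by
      intro v hvD
      obtain ⟨y, hy, rfl⟩ := f.vec_surj v
      rw [← hv]
      refine f.comm_bv S.base hy ha.1 ?_
      by_contra hn
      exact hno y hy ((hfp hy).2 hvD) (S.base.ord.xt.move hy ha.1 hn)
    have hperp' : ∀ t : F4, t ≠ 0 → bv eF (t • eA) = 0 := by
      intro t ht
      have hi : r * t⁻¹ ≠ 0 := mul_ne_zero hr (inv_ne_zero ht)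
      rw [← bv_smul hi, smul_smul, mul_assoc, inv_mul_cancel₀ ht, mul_one]
      refine hperp _ ?_
      rw [(Kp_le_LinG gD_mem).smul_all, hFD]
    rcases (fixD_vec eF hFD).2.1 (by simpa using hperp' 1 one_ne_zero) (hperp' F4.w (by decide +kernel)) with h | h
    · exact ((PI_iff _).1 hFI).1 h
    · obtain ⟨t, ht, e⟩ := onL_smul.1 h
      exact hFA (e ▸ (hpt t ht).2)
  refine ⟨E, hzE, hcard, hsq, ?_, hEp, fun e he => he.1, hmem, ?_, ?_, ?_, ?_, ?_, ?_, ?_, ?_, ?_, ?_, ?_⟩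
  · -- conjugates
    intro e he e1
    rcases eq_or_ne e z with rfl | e2
    · exact IsConj.refl _
    obtain ⟨r, hr, hv⟩ := hvne he e1 e2
    obtain ⟨m, hm⟩ := S.conj_of_PA f he.1 (hv ▸ (hpt r hr).1) (hv ▸ (hpt r hr).2)
    exact isConj_iff.2 ⟨m, hm⟩
  · -- contained in the adjacent subgroup
    intro g u hgu huE huz e he
    obtain ⟨r, hr, hv⟩ := hvne huE (fun h => (S.xtc g).ne (hgu.trans h)) huz
    have hgQ : g * z * g⁻¹ ∈ Q := hgu ▸ huE.1
    obtain ⟨d, hdQ, hdne, hdv⟩ := S.to_va f hgQ (hgu ▸ huz)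
    have hdz : Commute (d : G) z := Subgroup.mem_centralizer_singleton_iff.1 d.2
    have hline : f.π d (r • eA) = va := by
      rw [← hv, ← f.vec_conj d u huE.1, ← hdv]
      congr 1
      rw [← hgu]; group
    have hadd : AddP (f.π d) := Gam_addP ((f.range _).2 ⟨d, rfl⟩)
    have hA := S.inter_vec f hdQ hdne hdv
    set A : Subgroup G := Q ⊓ Qc Q ((d : G) * g) with hAdef
    have hzA : z ∈ A := ⟨S.base.ord.xt.mem, (S.pair hdQ hdne).mem⟩
    have hvaC : Chk.fCond (code va) = true := by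
      have : va ∈ f.vec '' (A : Set G) := ⟨_, ⟨hdQ, (S.xtc ((d : G) * g)).mem⟩, hdv⟩
      rw [hA] at this
      exact this
    have hwC : Chk.fCond (code (F4.w • va)) = true := by rw [code_smw, code_va]; exact fCond_count.2
    have hsum : ∀ {s t : V6}, Chk.fCond (code s) = true → Chk.fCond (code t) = true →
        Chk.fCond (code (s + t)) = true := by
      intro s t hs ht
      obtain ⟨a, ha, rfl⟩ : s ∈ f.vec '' (A : Set G) := hA.symm ▸ hs
      obtain ⟨b, hb, rfl⟩ : t ∈ f.vec '' (A : Set G) := hA.symm ▸ ht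
      have : f.vec (a * b) ∈ f.vec '' (A : Set G) := Set.mem_image_of_mem _ (mul_mem ha hb)
      rw [hA, f.vec_mul a ha.1 b hb.1] at this
      exact this
    have hall : ∀ t : F4, t • va ∈ f.vec '' (A : Set G) := by
      intro t
      rw [hA]
      show Chk.fCond (code (t • va)) = true
      rcases (show ∀ t : F4, t = 0 ∨ t = 1 ∨ t = F4.w ∨ t = 1 + F4.w by decide +kernel) t with
        rfl | rfl | rfl | rfl
      · rw [zero_smul]
        have : f.vec 1 ∈ f.vec '' (A : Set G) := Set.mem_image_of_mem _ (one_mem A)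
        rw [hA, f.vec_one S.base] at this
        exact this
      · rw [one_smul]; exact hvaC
      · exact hwC
      · rw [add_smul, one_smul]; exact hsum hvaC hwC
    obtain ⟨t, ht⟩ := he.2
    have hde : f.vec ((d : G) * e * (d : G)⁻¹) ∈ f.vec '' (A : Set G) := by
      rw [f.vec_conj d e he.1, ht]
      have e' : f.π d (t • eA) ∈ Set.range fun s : F4 => s • va := by
        -- the image of the line is the line
        have hgd := (f.range _).2 ⟨d, rfl⟩
        rw [show t • eA = (t * r⁻¹) • (r • eA) by rw [smul_smul, mul_assoc, inv_mul_cancel₀ hr, mul_one]]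
        rcases eq_or_ne (t * r⁻¹) 0 with h0 | h0
        · refine ⟨0, ?_⟩
          show (0 : F4) • va = _
          rw [h0, zero_smul, zero_smul]
          have := hadd 0 0
          simpa [eq_comm] using this
        · obtain ⟨j, hj⟩ := scalar_pow h0
          obtain ⟨j', hj'⟩ : ∃ j', f.π d * gW ^ j * (f.π d)⁻¹ = gW ^ j' := by
            have hn : f.π d * gW * (f.π d)⁻¹ ∈ Subgroup.zpowers gW := by
              have h := (f.N_iff S.base (d * S.base.xC * d⁻¹)).1 (S.base.N_normal hdz S.base.xN)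
              rwa [map_mul, map_mul, map_inv, f.pi_x S.base.xC rfl] at h
            have h2 : f.π d * gW ^ j * (f.π d)⁻¹ ∈ Subgroup.zpowers gW := conj_pow (a := f.π d) ▸ pow_mem hn j
            obtain ⟨i, hi⟩ := (mem_powers_iff_mem_zpowers (x := gW)).2 h2
            exact ⟨i, hi.symm⟩
          have e2 := Equiv.congr_fun hj' va
          rw [Equiv.Perm.mul_apply, Equiv.Perm.mul_apply, show (f.π d)⁻¹ va = r • eA by
            rw [← hline]; exact (f.π d).symm_apply_apply _, hj] at e2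
          rw [e2]
          have key : ∀ m : ℕ, ∃ s : F4, (gW ^ m) va = s • va := by
            intro m
            induction m with
            | zero => exact ⟨1, by simp⟩
            | succ m ih =>
              obtain ⟨s, hs⟩ := ih
              exact ⟨F4.w * s, by rw [pow_succ', Equiv.Perm.mul_apply, hs, gW_apply, smul_smul]⟩
          obtain ⟨s, hs⟩ := key j'
          exact ⟨s, hs.symm⟩
      obtain ⟨s, hs⟩ := e'
      rw [← hs]
      exact hall s
    obtain ⟨a, ha, hae⟩ := hde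
    have hde' : (d : G) * e * (d : G)⁻¹ ∈ A := by
      rcases (f.vec_eq a ha.1 _ (S.base.ord.normQ d hdz e he.1)).1 hae with h | h <;> rw [h]
      exacts [ha, mul_mem ha hzA]
    have := Qc_conj (d : G)⁻¹ hde'.2
    rwa [inv_inv, show (d : G)⁻¹ * ((d : G) * e * (d : G)⁻¹) * d = e by group, inv_mul_cancel_left] at this
  · -- normalised
    intro a haz hap e he
    obtain ⟨a', rfl, haD, haG⟩ := hC a haz hap
    have hae : (a' : G) * e * (a' : G)⁻¹ ∈ Q := S.base.ord.normQ _ haz e he.1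
    rcases eq_or_ne e 1 with rfl | e1
    · simp
    rcases eq_or_ne e z with rfl | e2
    · rw [haz.eq, mul_inv_cancel_right]; exact hzE
    obtain ⟨r, hr, hv⟩ := hvne he e1 e2
    obtain ⟨m, hm⟩ := S.conj_of_PA f he.1 (hv ▸ (hpt r hr).1) (hv ▸ (hpt r hr).2)
    refine hmem _ (isConj_iff.2 ⟨(a' : G) * m, by rw [← hm]; group⟩) hae ?_
    have h2 := (Commute.conj_iff (a' : G)).2 (hEp e he)
    rwa [hap.eq, mul_inv_cancel_right] at h2
  · -- transitivity
    intro a ha b hb a1 a2 b1 b2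
    obtain ⟨r, hr, hva'⟩ := hvne ha a1 a2
    obtain ⟨t, ht, hvb⟩ := hvne hb b1 b2
    obtain ⟨j, hj⟩ := scalar_pow (show t * r⁻¹ ≠ 0 from mul_ne_zero ht (inv_ne_zero hr))
    obtain ⟨h, hh, hhc⟩ := f.norm_lift S.base (q := 5) (by norm_num) hc5 (Kp_le (pow_mem gW_mem j)) (k := 1)
      (by
        rw [pow_one]
        exact mul_inv_eq_iff_eq_mul.2 ((hcomm _).2 ((gW_comm (Kp_le_LinG gD_mem)).pow_left j)).eq)
    rw [pow_one] at hhc
    have hhz : Commute (h : G) z := Subgroup.mem_centralizer_singleton_iff.1 h.2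
    have hhp : Commute (h : G) p := congrArg Subtype.val (mul_inv_eq_iff_eq_mul.1 hhc)
    have ha' := S.base.ord.normQ h hhz a ha.1
    have hvh : f.vec ((h : G) * a * (h : G)⁻¹) = f.vec b := by
      rw [f.vec_conj h a ha.1, hva', hh, hj, hvb, smul_smul, mul_assoc, inv_mul_cancel₀ hr, mul_one]
    rcases (f.vec_eq b hb.1 _ ha').1 hvh.symm with e | e
    · exact ⟨h, hhz, hhp, e⟩
    · obtain ⟨y, hy, hyp, hyb⟩ := hmove b hb b1 b2
      refine ⟨y * h, (S.base.ord.qz hy).mul_left hhz, hyp.mul_left hhp, ?_⟩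
      rw [show y * (h : G) * a * (y * (h : G))⁻¹ = y * ((h : G) * a * (h : G)⁻¹) * y⁻¹ by group, e,
        ← conj_mul, hyb, ← (S.base.ord.qz hy).eq.symm, show z * y * y⁻¹ = z by group, mul_assoc,
        S.base.ord.xt.sq, mul_one]
  · -- the centraliser
    intro a haz hap haE
    obtain ⟨a', rfl, haD, haG⟩ := hC a haz hap
    obtain ⟨e, he, hev⟩ := f.vec_surj eA
    obtain ⟨e', he', hev'⟩ := f.vec_surj (F4.w • eA)
    have heE : e ∈ E := ⟨he, 1, by rw [hev, one_smul]⟩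
    have heE' : e' ∈ E := ⟨he', F4.w, hev'⟩
    have hf1 : f.π a' eA = eA := by
      rw [← hev, ← f.vec_conj a' e he, mul_inv_eq_iff_eq_mul.2 (haE e heE).eq]
    have hf2 : f.π a' (F4.w • eA) = F4.w • eA := by
      rw [← hev', ← f.vec_conj a' e' he', mul_inv_eq_iff_eq_mul.2 (haE e' heE').eq]
    have hK : f.π a' ∈ Kp := by
      obtain ⟨q, hq, hqv⟩ := (trans heI).1 heA
      have hqL := Kp_le_LinG hq
      have h1 : q⁻¹ * f.π a' * q ∈ Kp := by
        refine fix_line_Kp (mul_mem (mul_mem (inv_mem (Kp_le hq)) haG) (Kp_le hq)) ?_ ?_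
        · rw [Equiv.Perm.mul_apply, Equiv.Perm.mul_apply, hqv, hf1, ← hqv]
          exact q.symm_apply_apply va
        · rw [Equiv.Perm.mul_apply, Equiv.Perm.mul_apply, hqL.smul, hqv, hf2, ← hqv, ← hqL.smul]
          exact q.symm_apply_apply _
      simpa [mul_assoc] using mul_mem (mul_mem hq h1) (inv_mem hq)
    obtain ⟨i, j, hij⟩ := cFive f.mdl hK haD
    have hDe : ∀ m : ℕ, (gD ^ m) eA = eA := by
      intro m
      induction m with
      | zero => rfl
      | succ m ih => rw [pow_succ', Equiv.Perm.mul_apply, ih, heD]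
    have hWj : (gW ^ j) eA = eA := by
      have e2 := hf1
      rw [hij, Equiv.Perm.mul_apply] at e2
      exact (gD ^ i).injective (e2.trans (hDe i).symm)
    have hj0 : gW ^ j = 1 := by
      rw [← Nat.mod_add_div j 3, pow_add, pow_mul, gW_facts.1, one_pow, mul_one] at hWj ⊢
      have hne := ((PI_iff _).1 heI).1
      rcases (by omega : j % 3 = 0 ∨ j % 3 = 1 ∨ j % 3 = 2) with e | e | e <;> rw [e] at hWj ⊢
      · exact pow_zero _
      · exfalso
        rw [pow_one, gW_apply] at hWj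
        have h0 : (F4.w - 1 : F4) • eA = 0 := by rw [sub_smul, one_smul, hWj, sub_self]
        exact hne ((smul_eq_zero.1 h0).resolve_left (by decide +kernel))
      · exfalso
        rw [pow_two, Equiv.Perm.mul_apply, gW_apply, gW_apply, smul_smul] at hWj
        have h0 : (F4.w * F4.w - 1 : F4) • eA = 0 := by rw [sub_smul, one_smul, hWj, sub_self]
        exact hne ((smul_eq_zero.1 h0).resolve_left (by decide +kernel))
    rw [hj0, mul_one] at hij
    obtain ⟨m, hm⟩ : ∃ m : ℕ, f.π c ^ m = gD ^ i := by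
      have : gD ^ i ∈ Subgroup.zpowers (f.π c) := pow_mem (hl ▸ Subgroup.zpow_mem_zpowers (f.π c) l) i
      exact (mem_powers_iff_mem_zpowers (x := f.π c)).2 this
    set r : G := (p ^ m)⁻¹ * (a' : G) with hr
    have hrQ : r ∈ Q := by
      have := (f.ker ((c ^ m)⁻¹ * a')).1 (by rw [map_mul, map_inv, map_pow, hm, hij, inv_mul_cancel])
      exact this
    have hrp : Commute r p := (((Commute.refl p).pow_left m).inv_left).mul_left hap
    have hre : ∀ a₀ ∈ E, Commute r a₀ := fun a₀ h₀ =>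
      ((((hEp a₀ h₀).symm).pow_left m).inv_left).mul_left (haE a₀ h₀)
    refine ⟨m, r, ⟨hrQ, ?_⟩, by rw [hr, mul_inv_cancel_left]⟩
    rcases (fixD_vec _ ((hfp hrQ).1 hrp)).2.1 (hev ▸ f.comm_bv S.base hrQ he (hre e heE))
      (hev' ▸ f.comm_bv S.base hrQ he' (hre e' heE')) with h | h
    · exact ⟨0, by rw [h, zero_smul]⟩
    · obtain ⟨t, -, ht⟩ := onL_smul.1 h
      exact ⟨t, ht⟩
  · -- the order
    rw [show ({p} : Set G) = {(c : G)} from rfl, f.card_cent S.base (q := 5) (by norm_num) hc5]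
    have e1 : Fx (f.π c) = {v : V6 | gD v = v} := Set.ext fun v => hfix v
    have e2 : Subgroup.centralizer ({f.π c} : Set PV) = Subgroup.centralizer ({gD} : Set PV) := Subgroup.ext fun t =>
      ⟨fun h => Subgroup.mem_centralizer_singleton_iff.2
          ((hcomm t).1 (Subgroup.mem_centralizer_singleton_iff.1 h)).eq,
        fun h => Subgroup.mem_centralizer_singleton_iff.2
          ((hcomm t).2 (Subgroup.mem_centralizer_singleton_iff.1 h)).eq⟩
    rw [e1, e2, fixD_card, cent_Gam f.mdl (Or.inl rfl) gD_mem hD5 hDne htG htK htD]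
  · -- two outer involutions
    intro a b haz hap hbz hbp ha2 hb2 hab haQ hbQ
    obtain ⟨a', rfl, haD, haG⟩ := hC a haz hap
    obtain ⟨b', rfl, hbD, hbG⟩ := hC b hbz hbp
    have hnot : ∀ u : Subgroup.centralizer ({z} : Set G), Commute (f.π u) gD → (u : G) * u = 1 → (u : G) ∉ Q →
        f.π u ∉ Kp := fun u hu h2 hQ hK => hQ ((f.ker u).1 (hodd15 hK hu (by
      rw [← map_mul, show u * u = 1 from Subtype.ext h2, map_one])))
    refine (f.ker (a' * b')).1 ?_
    have h := Subgroup.mul_mem_iff_of_index_two index_Gam (a := ⟨f.π a', haG⟩) (b := ⟨f.π b', hbG⟩)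
    simp only [Subgroup.mem_subgroupOf, Subgroup.coe_mul, hnot a' haD ha2 haQ, hnot b' hbD hb2 hbQ, iff_self,
      iff_true] at h
    rw [map_mul]
    refine hodd15 h (haD.mul_left hbD) ?_
    rw [← map_mul, ← map_mul, show a' * b' * (a' * b') = 1 from Subtype.ext (by
      show (a' : G) * b' * ((a' : G) * b') = 1
      rw [mul_assoc, ← mul_assoc (b' : G), ← hab.eq, mul_assoc, hb2, mul_one, ha2]), map_one]
  · -- another involution
    obtain ⟨v, hv, hvv⟩ := f.vec_surj eF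
    refine ⟨v, hv, (hfp hv).2 (hvv ▸ hFD), (f.sq_iff v hv).2 (hvv ▸ ((PI_iff _).1 hFI).2), ?_⟩
    rintro ⟨-, r, hr⟩
    rcases eq_or_ne r 0 with rfl | hr0
    · rw [zero_smul, hvv] at hr
      exact ((PI_iff _).1 hFI).1 hr
    · rw [hvv] at hr
      exact hFA (hr ▸ (hpt r hr0).2)
  · -- no invariant complement
    intro T hTQ hzT hT8 hT2 hTp hTE a t haz hap ha3 htz htp htt htQ haT htT
    obtain ⟨a', rfl, haD, haG⟩ := hC a haz hap
    obtain ⟨t', rfl, htD', htG'⟩ := hC t htz htp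
    obtain ⟨v, hv, hvne⟩ : ∃ v ∈ T, v ≠ 1 ∧ v ≠ z := by
      by_contra hno
      push Not at hno
      have hle : T ≤ Subgroup.zpowers z := fun u hu => by
        by_cases e : u = 1
        · rw [e]; exact one_mem _
        · rw [hno u hu e]; exact Subgroup.mem_zpowers z
      have := Subgroup.card_le_of_le hle
      rw [hT8, Nat.card_zpowers, S.base.zord] at this
      omega
    set v₀ := f.vec v with hv₀
    have hvD : gD v₀ = v₀ := (hfp (hTQ hv)).1 (hTp v hv)
    have hvI : PI v₀ := f.isI S.base (hTQ hv) (hT2 v hv) hvne.1 hvne.2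
    have hvA : ¬ PA v₀ := fun hA => by
      obtain ⟨r, -, hr⟩ := onL_smul.1 ((fixD_vec _ hvD).1 hvI hA)
      exact (hTE v hv ⟨hTQ hv, r, hr⟩).elim hvne.1 hvne.2
    -- the image of the element of order three is a scalar
    have haK : f.π a' ∈ Kp := f.odd_Kp S.base (n := 3)
      (Subtype.ext (by rw [SubmonoidClass.coe_pow, ← ha3]; exact pow_orderOf_eq_one _)) (by decide)
    obtain ⟨i, j, hij⟩ := cFive f.mdl haK haD
    have hDv : ∀ (m : ℕ) (s : F4), (gD ^ m) (s • v₀) = s • v₀ := by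
      intro m s
      induction m with
      | zero => rfl
      | succ m ih => rw [pow_succ', Equiv.Perm.mul_apply, ih, (Kp_le_LinG gD_mem).smul_all, hvD]
    have hWs : ∀ m : ℕ, ∃ s : F4, s ≠ 0 ∧ ∀ u : V6, (gW ^ m) u = s • u := by
      intro m
      induction m with
      | zero => exact ⟨1, one_ne_zero, fun u => by simp⟩
      | succ m ih =>
        obtain ⟨s, hs, hs'⟩ := ih
        exact ⟨F4.w * s, mul_ne_zero (by decide +kernel) hs,
          fun u => by rw [pow_succ', Equiv.Perm.mul_apply, hs', gW_apply, smul_smul]⟩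
    obtain ⟨s, hs0, hs⟩ := hWs j
    have has : f.π a' v₀ = s • v₀ := by rw [hij, Equiv.Perm.mul_apply, hs, hDv]
    have hs1 : s ≠ 1 := by
      rintro rfl
      have hj0 : gW ^ j = 1 := Equiv.ext fun u => by rw [hs, one_smul]; rfl
      rw [hj0, mul_one] at hij
      have h3 : f.π a' ^ 3 = 1 := by
        rw [← map_pow, show a' ^ 3 = 1 from Subtype.ext (by rw [SubmonoidClass.coe_pow, ← ha3]; exact pow_orderOf_eq_one _),
          map_one]
      have h5' : f.π a' ^ 5 = 1 := by rw [hij, ← pow_mul, mul_comm, pow_mul, hD5, one_pow]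
      have h1' : f.π a' = 1 := by
        have := pow_gcd_eq_one.2 ⟨h3, h5'⟩
        rwa [show Nat.gcd 3 5 = 1 from rfl, pow_one] at this
      have := f.eq_one_of_pow S.base (c := a') (n := 3)
        (Subtype.ext (by rw [SubmonoidClass.coe_pow, ← ha3]; exact pow_orderOf_eq_one _)) (by decide) h1'
      rw [this, OneMemClass.coe_one, orderOf_one] at ha3
      omega
    -- the image of the subgroup is the line
    have hTv : f.vec '' (T : Set G) = {0, v₀, s • v₀, v₀ + s • v₀} := by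
      refine (Set.eq_of_subset_of_ncard_le ?_ ?_ (Set.toFinite _)).symm
      · have e2 : s • v₀ ∈ f.vec '' (T : Set G) := ⟨_, haT v hv, by rw [f.vec_conj a' v (hTQ hv)]; exact has⟩
        obtain ⟨u, hu, hue⟩ := e2
        rintro w (rfl | rfl | rfl | rfl)
        · exact ⟨1, one_mem T, f.vec_one S.base⟩
        · exact ⟨v, hv, rfl⟩
        · exact ⟨u, hu, hue⟩
        · exact ⟨v * u, mul_mem hv hu, by rw [f.vec_mul v (hTQ hv) u (hTQ hu), hue]⟩
      · have := f.vecCard S.base T hTQ hzT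
        rw [hT8] at this
        have h0 := ((PI_iff _).1 hvI).1
        have hd1 : s • v₀ ≠ v₀ := fun e => by
          have h' : (s - 1) • v₀ = 0 := by rw [sub_smul, one_smul, e, sub_self]
          rcases smul_eq_zero.1 h' with h' | h'
          exacts [hs1 (sub_eq_zero.1 h'), h0 h']
        have hd0 : s • v₀ ≠ 0 := fun e => (smul_eq_zero.1 e).elim hs0 h0
        have hd2 : v₀ + s • v₀ ≠ 0 := fun e => hd1 (by
          have h' := v6_two v₀
          exact (add_left_cancel (e.trans h'.symm)))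
        have hd3 : v₀ + s • v₀ ≠ v₀ := fun e => hd0 (add_eq_left.1 e)
        have hd4 : v₀ + s • v₀ ≠ s • v₀ := fun e => h0 (add_eq_right.1 e)
        rw [Set.ncard_insert_of_notMem (by simp [h0.symm, hd0.symm, hd2.symm]),
          Set.ncard_insert_of_notMem (by simp [hd1.symm, hd3.symm]), Set.ncard_pair hd4.symm]
        omega
    -- the outer element moves it off the line
    have hsideT : ∀ q : PV, q = f.π t' → ∃ i j : ℕ, q = tFive * (gD ^ i * gW ^ j) := fun q hq => by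
      subst hq
      refine (hside htG' htD').resolve_left fun hK => htQ ((f.ker t').1 (hodd15 hK htD' ?_))
      rw [← map_mul, show t' * t' = 1 from Subtype.ext htt, map_one]
    obtain ⟨i', j', hij'⟩ := hsideT _ rfl
    obtain ⟨s', hs0', hs'⟩ := hWs j'
    have himg : f.π t' v₀ ∈ f.vec '' (T : Set G) := ⟨_, htT v hv, f.vec_conj t' v (hTQ hv)⟩
    rw [hij', Equiv.Perm.mul_apply, Equiv.Perm.mul_apply, hs', hDv, hTv] at himg
    set u₀ := s' • v₀ with hu₀
    have huD : gD u₀ = u₀ := by rw [hu₀, (Kp_le_LinG gD_mem).smul_all, hvD]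
    have hnot := (fixD_vec u₀ huD).2.2 ((smul_invariant hs0' v₀).2.2 hvI)
      fun h => hvA ((smul_invariant hs0' v₀).1.1 h)
    refine hnot (onL_smul.2 ?_)
    have hne0 : tFive u₀ ≠ 0 := fun e => by
      have h00 : tFive 0 = 0 := by simpa using (Gam_addP htG) 0 0
      exact (smul_eq_zero.1 (tFive.injective (e.trans h00.symm))).elim hs0' ((PI_iff _).1 hvI).1
    obtain ⟨q, hq0, hq⟩ : ∃ q : F4, q ≠ 0 ∧ tFive u₀ = q • v₀ := by
      rcases himg with e | e | e | e
      · exact absurd e hne0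
      · exact ⟨1, one_ne_zero, e.trans (one_smul _ _).symm⟩
      · exact ⟨s, hs0, e⟩
      · refine ⟨1 + s, fun h => hs1 ?_, by rw [e, add_smul, one_smul]⟩
        exact (show ∀ a : F4, 1 + a = 0 → a = 1 by decide +kernel) s h
    exact ⟨q * s'⁻¹, mul_ne_zero hq0 (inv_ne_zero hs0'),
      by rw [hq, hu₀, smul_smul, mul_assoc, inv_mul_cancel₀ hs0', mul_one]⟩
  · -- the fixed part of the kernel
    rw [show ({p} : Set G) = {(c : G)} from rfl, f.card_fix S.base hc5 (by decide),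
      show Fx (f.π c) = {v : V6 | gD v = v} from Set.ext fun v => hfix v, fixD_card]
  · -- squaring
    obtain ⟨h, hh, e⟩ := f.norm_lift S.base (q := 5) (by norm_num) hc5 (Kp_le gT_mem) (k := 2) (by
      have hTD : gT * gD * gT⁻¹ = gD ^ 2 := by
        rw [mul_inv_eq_iff_eq_mul, pow_two]
        have hD : AddP gD := (gP_spec 1).1
        have hT : AddP gT := (gP_spec 2).1
        refine eq_of_cols (hT.mul hD) ((hD.mul hD).mul hT) ?_
        rw [cols_mul hT, cols_mul (hD.mul hD), cols_mul hD, show cols gD = Chk.cD from (gP_spec 1).2.1,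
          show cols gT = Chk.cT from (gP_spec 2).2.1]
        exact gen_facts.2.2.2.2.2.2.2.2.1
      rw [← hk, ← conj_zpow, hTD, ← zpow_natCast, ← zpow_mul, ← zpow_natCast (gD ^ k), ← zpow_mul, mul_comm])
    refine ⟨h, Subgroup.mem_centralizer_singleton_iff.1 h.2, ?_⟩
    exact congrArg Subtype.val e
  · -- an element of order three
    haveI : Fact (Nat.Prime 3) := ⟨Nat.prime_three⟩
    obtain ⟨q₀, hq₀, hq₀v⟩ := (trans heI).1 heA
    have hst := card_stab (K := Kp) (v := eA) (S := {v : V6 | PI v ∧ PA v})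
      (fun g hg => ⟨(Gam_le_Pres (Kp_le hg) eA).2.2 heI, (Gam_le_Pres (Kp_le hg) eA).1.2 heA⟩)
      (fun w hw => by
        obtain ⟨g, hg, hgw⟩ := (trans hw.1).1 hw.2
        refine ⟨g * q₀⁻¹, mul_mem hg (inv_mem hq₀), ?_⟩
        rw [Equiv.Perm.mul_apply, show q₀⁻¹ eA = va from by rw [← hq₀v]; exact q₀.symm_apply_apply va, hgw])
    rw [card_Kp f.mdl, count_A.1] at hst
    obtain ⟨r₀, hr₀⟩ := exists_prime_orderOf_dvd_card' (G := (Kp ⊓ fixv eA : Subgroup PV)) 3 (by
      have : Nat.card (Kp ⊓ fixv eA : Subgroup PV) = 1920 := by omega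
      rw [this]; norm_num)
    have hr3 : orderOf (r₀ : PV) = 3 := by rw [Subgroup.orderOf_coe, hr₀]
    obtain ⟨h, hh⟩ := (f.range _).1 (Kp_le r₀.2.1)
    obtain ⟨a, l, hl, hal⟩ := Nat.exists_eq_pow_mul_and_not_dvd (orderOf_pos h).ne' 2 (by norm_num)
    have hlo : Odd l := Nat.odd_iff.2 (Nat.two_dvd_ne_zero.1 hl)
    have hπ : f.π (h ^ 4 ^ a) = r₀ := by
      rw [map_pow, hh, ← pow_mod_orderOf, hr3, Nat.pow_mod]
      norm_num
    have hl1 : (h ^ 4 ^ a) ^ l = 1 := by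
      rw [← pow_mul, show 4 ^ a * l = 2 ^ a * (2 ^ a * l) by
        rw [show (4 : ℕ) = 2 * 2 from rfl, mul_pow]; ring, ← hal, mul_comm, pow_mul, pow_orderOf_eq_one, one_pow]
    have h3' : (h ^ 4 ^ a) ^ 3 = 1 := f.eq_one_of_pow S.base (by rw [← pow_mul, mul_comm, pow_mul, hl1, one_pow]) hlo
      (by rw [map_pow, hπ, ← hr3, pow_orderOf_eq_one])
    have hne : h ^ 4 ^ a ≠ 1 := fun e => by
      rw [e, map_one] at hπ
      rw [← hπ, orderOf_one] at hr3
      norm_num at hr3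
    refine ⟨((h ^ 4 ^ a : Subgroup.centralizer ({z} : Set G)) : G), by
      rw [Subgroup.orderOf_coe]; exact orderOf_eq_prime h3' hne, ?_⟩
    rintro e ⟨he, r, hr⟩
    refine (f.comm_iff_fix S.base hl1 hlo he).2 ?_
    rw [hπ, hr, (Kp_le_LinG r₀.2.1).smul_all, show (r₀ : PV) eA = eA from r₀.2.2]

/-- an involution commuting with an element of order three and one of order five or seven -/
theorem Big.invol_cent (f : Frame z Q x) {a v p : G} {q : ℕ} (hq : q = 5 ∨ q = 7) (ha : orderOf a = 3)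
    (hp : p ^ q = 1) (hp1 : p ≠ 1) (hap : Commute a p) (hv : v * v = 1) (hv1 : v ≠ 1) (hva : Commute v a)
    (hvp : Commute v p) : IsConj z v := by
  have hodd : Odd q := by rcases hq with rfl | rfl <;> decide
  obtain ⟨h, hh⟩ := isConj_iff.1 (S.one_class f ha)
  set v' := h * v * h⁻¹ with hv'
  set p' := h * p * h⁻¹ with hp'
  have hvx : Commute v' x := hh ▸ (Commute.conj_iff h).2 hva
  have hpx : Commute p' x := hh ▸ (Commute.conj_iff h).2 hap.symm
  set vC : Subgroup.centralizer ({z} : Set G) := ⟨v', Subgroup.mem_centralizer_singleton_iff.2 (S.cent_x f hvx).eq⟩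
  set pC : Subgroup.centralizer ({z} : Set G) := ⟨p', Subgroup.mem_centralizer_singleton_iff.2 (S.cent_x f hpx).eq⟩
  have hpC : pC ^ q = 1 := Subtype.ext (by
    show (h * p * h⁻¹) ^ q = 1
    rw [conj_pow, hp, mul_one, mul_inv_cancel])
  have hvK : f.π vC ∈ Kp := S.Kp_of_comm f (Subtype.ext hvx.eq)
  have hpK : f.π pC ∈ Kp := S.Kp_of_comm f (Subtype.ext hpx.eq)
  have hp1' : f.π pC ≠ 1 := fun e => by
    have := congrArg Subtype.val (f.eq_one_of_pow S.base hpC hodd e)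
    exact hp1 (conj_eq_one_iff.1 this)
  have hC := cent_Kp f.mdl hq hpK (by rw [← map_pow, hpC, map_one]) hp1'
  have hvC : f.π vC ∈ Kp ⊓ Subgroup.centralizer ({f.π pC} : Set PV) :=
    ⟨hvK, Subgroup.mem_centralizer_singleton_iff.2 ((show Commute vC pC from
      Subtype.ext ((Commute.conj_iff h).2 hvp).eq).map f.π).eq⟩
  have hd := Subgroup.orderOf_dvd_natCard _ hvC
  rw [hC] at hd
  have h2 : f.π vC * f.π vC = 1 := by
    rw [← map_mul, show vC * vC = 1 from Subtype.ext (by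
      show h * v * h⁻¹ * (h * v * h⁻¹) = 1
      rw [conj_mul, hv, mul_one, mul_inv_cancel]), map_one]
  have h1 : f.π vC = 1 := by
    have h2' : orderOf (f.π vC) ∣ 2 := orderOf_dvd_of_pow_eq_one (by rw [pow_two]; exact h2)
    have := Nat.dvd_gcd hd h2'
    rcases hq with rfl | rfl <;> simpa using this
  rcases S.ker f ((f.ker vC).1 h1) hvx with e | e
  · exact absurd (conj_eq_one_iff.1 e) hv1
  · exact (isConj_iff.2 ⟨h, e⟩ : IsConj v z).symm

end Cfsg.Agent.Spor.JFour
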