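import Cfsg.Agent.Lib.Spor.JFourLoc.Checks
import Cfsg.Agent.Lib.Spor.JFourSylow
import Cfsg.Agent.Lib.Spor.MathieuTwentyTwoCounts

/-!
The elements of order five and seven of the model: fixed vectors and centralisers.
-/

set_option autoImplicit false
set_option maxRecDepth 100000

namespace Cfsg.Agent.Spor.JFour

open Cfsg.Agent.Spor.SUSix (V6 code code_lt vecOf_code)
open Cfsg.Agent.Spor.SpFour (F4)
open Cfsg.Agent.Small.Unitary (herm)
open Cfsg.Agent.Spor.CC

attribute [local irreducible] wd gP Gam Kp Chk.app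

local notation "G22" => Subtype (fun x => x ∈ Cfsg.Spor.M22)

/-- the nonzero points of a line -/
def OnL (e u : V6) : Prop := u = e ∨ u = F4.w • e ∨ u = F4.w • (F4.w • e)

/-- fixed vector in the shorter orbit -/
def eA : V6 := SUSix.vecOf Chk.kE
/-- fixed vector in the longer orbit -/
def eF : V6 := SUSix.vecOf Chk.kF
/-- outer involution commuting with the element of order five -/
def tFive : PV := wd Chk.wFive
/-- the element of order seven -/
def gS : PV := wd Chk.wSeven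
/-- outer involution commuting with the element of order seven -/
def tSeven : PV := wd Chk.wSevenOut

theorem onLine_iff {u e : V6} : Chk.onLine (code u) (code e) = true ↔ OnL e u := by
  simp only [Chk.onLine, Bool.or_eq_true, OnL, or_assoc]
  refine or_congr ?_ (or_congr ?_ ?_)
  · exact ⟨fun h => code_inj (Nat.eq_of_beq_eq_true h), fun h => by rw [h]; exact Nat.beq_refl _⟩
  · rw [← code_smw]
    exact ⟨fun h => code_inj (Nat.eq_of_beq_eq_true h), fun h => by rw [h]; exact Nat.beq_refl _⟩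
  · rw [show Chk.itr Chk.cW 2 (code e) = code (F4.w • (F4.w • e)) by rw [code_smw, code_smw]; rfl]
    exact ⟨fun h => code_inj (Nat.eq_of_beq_eq_true h), fun h => by rw [h]; exact Nat.beq_refl _⟩

theorem beq_fix {p : PV} (hp : AddP p) {v : V6} :
    Nat.beq (Chk.app (cols p) (code v)) (code v) = true ↔ p v = v := by
  rw [← app_cols hp]
  exact ⟨fun h => code_inj (Nat.eq_of_beq_eq_true h), fun h => by rw [h]; exact Nat.beq_refl _⟩

theorem bb_false_iff {u v : V6} : Chk.bb (code u) (code v) = false ↔ bv u v = 0 := by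
  rw [bv_code]
  cases Chk.bb (code u) (code v)
  · simp
  · simp

theorem wd_word_lt : (∀ s ∈ Chk.wFive, s < 5) ∧ (∀ s ∈ Chk.wSeven, s < 4) ∧ ∀ s ∈ Chk.wSevenOut, s < 5 := by
  decide +kernel

theorem not_Kp_of_cols {p : PV} (hp : p ∈ Gam) (h : Chk.cmul (cols p) Chk.cW ≠ Chk.cmul Chk.cW (cols p)) :
    p ∉ Kp := fun hk => h (by
  have e := ((comm_gW_iff hp).2 hk).eq
  have hW : AddP gW := (gP_spec 3).1
  have cW : cols gW = Chk.cW := (gP_spec 3).2.1
  rw [← cW, ← cols_mul (Gam_addP hp), ← cols_mul hW, e])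

theorem fixD_vec (v : V6) (hv : gD v = v) : (PI v → PA v → OnL eA v) ∧
    (bv v eA = 0 → bv v (F4.w • eA) = 0 → v = 0 ∨ OnL eA v) ∧
    (PI v → ¬ PA v → ¬ OnL v (tFive v)) := by
  have h := Chk.fiveLoc_ok
  simp only [Chk.fiveLocOK, Bool.and_eq_true, List.all_eq_true, List.mem_range] at h
  have hk := h.1.1.1.1.1.1.1.1.1.1 (code v) (code_lt v)
  have hD : AddP gD := (gP_spec 1).1
  have hf : Nat.beq (Chk.app Chk.cD (code v)) (code v) = true := by
    rw [← (show cols gD = Chk.cD from (gP_spec 1).2.1)]; exact (beq_fix hD).2 hv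
  have hE : code eA = Chk.kE := code_vecOf _ (by decide)
  have hE' : Chk.app Chk.cW Chk.kE = code (F4.w • eA) := by rw [code_smw, hE]
  have hT : Chk.app (Chk.evC Chk.wFive) (code v) = code (tFive v) := by
    rw [tFive, app_cols (wd_addP _), wd_cols _ wd_word_lt.1]
  simp only [Chk.fiveFixAt, hf, Bool.not_true, Bool.false_or, Bool.and_eq_true, Bool.or_eq_true,
    Bool.not_eq_true', Bool.and_eq_false_iff, hT, onLine_iff] at hk
  rw [hE', ← hE] at hk
  simp only [onLine_iff] at hk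
  obtain ⟨⟨h1, h2⟩, h3⟩ := hk
  refine ⟨fun hI hA => ?_, fun e1 e2 => ?_, fun hI hA hL => ?_⟩
  · rcases h1 with (h1 | h1) | h1
    · exact absurd (show Chk.isI (code v) = true from hI) (by simp [h1])
    · exact absurd (show Chk.isA (code v) = true from hA) (by simp [h1])
    · exact h1
  · rw [← bb_false_iff] at e1 e2
    rcases h2 with (h2 | h2) | h2
    · exact absurd h2 (by simp [e1])
    · exact absurd h2 (by simp [e2])
    · rcases h2 with h2 | h2
      · exact Or.inl (code_inj ((Nat.eq_of_beq_eq_true h2).trans code_zero.symm))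
      · exact Or.inr h2
  · rcases h3 with (h3 | h3) | h3
    · exact absurd (show Chk.isI (code v) = true from hI) (by simp [h3])
    · exact hA (show Chk.isA (code v) = true by simpa using h3)
    · exact Bool.false_ne_true (h3.symm.trans (onLine_iff.2 hL))

theorem fixD_card : {v : V6 | gD v = v}.ncard = 16 := by
  have h := Chk.fiveLoc_ok
  simp only [Chk.fiveLocOK, Bool.and_eq_true] at h
  have hD : AddP gD := (gP_spec 1).1
  rw [← count_code (fun k => Nat.beq (Chk.app Chk.cD k) k) (Nat.eq_of_beq_eq_true h.1.1.1.1.1.1.1.1.1.2)]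
  congr 1
  ext v
  simp only [Set.mem_setOf_eq]
  rw [← (show cols gD = Chk.cD from (gP_spec 1).2.1), beq_fix hD]

theorem five_facts : (gD eA = eA ∧ PI eA ∧ PA eA) ∧ (gD eF = eF ∧ PI eF ∧ ¬ PA eF) ∧
    tFive ∈ Gam ∧ Commute tFive gD ∧ tFive * tFive = 1 ∧ tFive ∉ Kp := by
  have h := Chk.fiveLoc_ok
  simp only [Chk.fiveLocOK, Bool.and_eq_true, Bool.not_eq_true', leq_iff] at h
  obtain ⟨⟨⟨⟨⟨⟨⟨⟨⟨⟨-, -⟩, h1⟩, h2⟩, h3⟩, h4⟩, h5⟩, h6⟩, h7⟩, h8⟩, h9⟩ := h
  have hD : AddP gD := (gP_spec 1).1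
  have hc : cols gD = Chk.cD := (gP_spec 1).2.1
  have hT : cols tFive = Chk.evC Chk.wFive := wd_cols _ wd_word_lt.1
  have hTG : tFive ∈ Gam := wd_memG _
  have hE : code eA = Chk.kE := code_vecOf _ (by decide)
  have hF : code eF = Chk.kF := code_vecOf _ (by decide)
  refine ⟨⟨(beq_fix hD).1 (by rw [hc, hE]; exact h1), ?_, ?_⟩, ⟨(beq_fix hD).1 (by rw [hc, hF]; exact h4), ?_, ?_⟩,
    hTG, eq_of_cols ((wd_addP _).mul hD) (hD.mul (wd_addP _)) ?_,
    eq_of_cols ((wd_addP _).mul (wd_addP _)) AddP.one ?_, not_Kp_of_cols hTG ?_⟩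
  · rw [PI, hE]; exact h2
  · rw [PA, hE]; exact h3
  · rw [PI, hF]; exact h5
  · rw [PA, hF, h6]; simp
  · show cols (tFive * gD) = cols (gD * tFive)
    rw [cols_mul (show AddP tFive from wd_addP _), cols_mul hD, hT, hc]; exact h7
  · show cols (tFive * tFive) = _
    rw [cols_mul (show AddP tFive from wd_addP _), hT, cols_one]; exact h8
  · rw [hT]; exact fun e => Bool.false_ne_true (h9.symm.trans (leq_iff.2 e))

theorem seven_facts : gS ∈ Kp ∧ gS ^ 7 = 1 ∧ gS ≠ 1 ∧ tSeven ∈ Gam ∧ Commute tSeven gS ∧ tSeven * tSeven = 1 ∧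
    tSeven ∉ Kp ∧ ∀ v, gS v = v → v = 0 := by
  have h := Chk.seven_ok
  simp only [Chk.sevenOK, Bool.and_eq_true, Bool.not_eq_true', leq_iff, List.all_eq_true, List.mem_range,
    Bool.or_eq_true] at h
  obtain ⟨⟨⟨⟨⟨h1, h2⟩, h3⟩, h4⟩, h5⟩, h6⟩ := h
  have hS : AddP gS := wd_addP _
  have cS : cols gS = Chk.evC Chk.wSeven := wd_cols _ fun s hs => Nat.lt_succ_of_lt (wd_word_lt.2.1 s hs)
  have cT : cols tSeven = Chk.evC Chk.wSevenOut := wd_cols _ wd_word_lt.2.2
  refine ⟨wd_mem _ wd_word_lt.2.1, eq_of_cols (cols_pow hS 7).2 AddP.one ?_, fun e => ?_, wd_memG _,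
    eq_of_cols ((wd_addP _).mul hS) (hS.mul (wd_addP _)) ?_, eq_of_cols ((wd_addP _).mul (wd_addP _)) AddP.one ?_,
    not_Kp_of_cols (wd_memG _) ?_, fun v hv => ?_⟩
  · rw [(cols_pow hS 7).1, cS, cols_one]; exact h1
  · refine Bool.false_ne_true (h2.symm.trans (leq_iff.2 ?_))
    rw [← cS, e, cols_one]
  · show cols (tSeven * gS) = cols (gS * tSeven)
    rw [cols_mul (show AddP tSeven from wd_addP _), cols_mul hS, cS, cT]; exact h3
  · show cols (tSeven * tSeven) = _
    rw [cols_mul (show AddP tSeven from wd_addP _), cT, cols_one]; exact h4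
  · rw [cT]; exact fun e => Bool.false_ne_true (h5.symm.trans (leq_iff.2 e))
  · have h7 := h6 (code v) (code_lt v)
    rw [← cS, (beq_fix hS).2 hv] at h7
    rcases h7 with h7 | h7
    · exact absurd h7 (by simp)
    · exact code_inj ((Nat.eq_of_beq_eq_true h7).trans code_zero.symm)

/-- centralisers in the linear part of elements of order five or seven -/
theorem cent_Kp (hM : Mdl) {g : PV} {q : ℕ} (hq : q = 5 ∨ q = 7) (hg : g ∈ Kp) (hgq : g ^ q = 1) (hg1 : g ≠ 1) :
    Nat.card (Kp ⊓ Subgroup.centralizer ({g} : Set PV) : Subgroup PV) = 3 * q := by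
  obtain ⟨ψ, O⟩ := hM
  haveI : Fact (Nat.Prime 3) := ⟨Nat.prime_three⟩
  have hqp : q.Prime := by rcases hq with rfl | rfl <;> norm_num
  haveI : Fact q.Prime := ⟨hqp⟩
  set C : Subgroup PV := Kp ⊓ Subgroup.centralizer ({g} : Set PV) with hC
  have hog : orderOf g = q := orderOf_eq_prime hgq hg1
  have h3 : Nat.Coprime q 3 := by rcases hq with rfl | rfl <;> norm_num
  have hne : ψ ⟨g, hg⟩ ≠ 1 := fun e => hg1 (O.unique Kp_le_LinG (a := ⟨g, hg⟩) (b := 1)
    (e.trans (map_one ψ).symm) hgq (by simp) h3)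
  have ho : orderOf (ψ ⟨g, hg⟩) = q := orderOf_eq_prime
    (by rw [← map_pow, show (⟨g, hg⟩ : Kp) ^ q = 1 from Subtype.ext (by rw [SubmonoidClass.coe_pow]; exact hgq),
      map_one]) hne
  let φ : C →* G22 := ψ.comp (Subgroup.inclusion inf_le_left)
  have hle : φ.range ≤ Subgroup.centralizer ({ψ ⟨g, hg⟩} : Set G22) := by
    rintro _ ⟨c, rfl⟩
    rw [Subgroup.mem_centralizer_singleton_iff]
    show ψ _ * ψ _ = ψ _ * ψ _
    rw [← map_mul, ← map_mul]
    exact congrArg ψ (Subtype.ext (Subgroup.mem_centralizer_singleton_iff.1 c.2.2))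
  have hr : Nat.card φ.range ≤ q := by
    refine (Subgroup.card_le_of_le hle).trans (le_of_eq ?_)
    exact M22Cent.card_centralizer_prime (by rcases hq with rfl | rfl <;> simp) ho
  have hk : Nat.card φ.ker ≤ 3 := by
    refine (Nat.card_le_card_of_injective (fun c : φ.ker => (⟨((c : C) : PV), (O.ker _).1 c.2⟩ : Subgroup.zpowers gW))
      fun a b e => Subtype.ext (Subtype.ext (congrArg Subtype.val e :))).trans (le_of_eq ?_)
    rw [Nat.card_zpowers, orderOf_eq_prime gW_facts.1 gW_facts.2]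
  have hgC : g ∈ C := ⟨hg, Subgroup.mem_centralizer_singleton_iff.2 rfl⟩
  have hwC : gW ∈ C := ⟨gW_mem, Subgroup.mem_centralizer_singleton_iff.2 (gW_comm (Kp_le_LinG hg)).eq⟩
  have hd : 3 * q ∣ Nat.card C := h3.symm.mul_dvd_of_dvd_of_dvd
    (orderOf_eq_prime gW_facts.1 gW_facts.2 ▸ Subgroup.orderOf_dvd_natCard C hwC)
    (hog ▸ Subgroup.orderOf_dvd_natCard C hgC)
  refine le_antisymm ?_ (Nat.le_of_dvd Nat.card_pos hd)
  rw [Subgroup.card_eq_card_quotient_mul_card_subgroup φ.ker, Nat.card_congr (QuotientGroup.quotientKerEquivRange φ).toEquiv,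
    mul_comm 3]
  exact Nat.mul_le_mul hr hk

theorem cent_Gam (hM : Mdl) {g t : PV} {q : ℕ} (hq : q = 5 ∨ q = 7) (hg : g ∈ Kp) (hgq : g ^ q = 1) (hg1 : g ≠ 1)
    (ht : t ∈ Gam) (htK : t ∉ Kp) (htg : Commute t g) :
    Nat.card (Gam ⊓ Subgroup.centralizer ({g} : Set PV) : Subgroup PV) = 6 * q := by
  set C : Subgroup PV := Gam ⊓ Subgroup.centralizer ({g} : Set PV) with hC
  have hi : (Kp.subgroupOf C).index = 2 := by
    rw [Subgroup.index_eq_two_iff]
    refine ⟨⟨t, ht, Subgroup.mem_centralizer_singleton_iff.2 htg.eq⟩, fun b => ?_⟩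
    have h := Subgroup.mul_mem_iff_of_index_two index_Gam (a := ⟨(b : PV), b.2.1⟩) (b := ⟨t, ht⟩)
    simp only [Subgroup.mem_subgroupOf, Subgroup.coe_mul, htK, iff_false] at h
    simp only [Subgroup.mem_subgroupOf, Subgroup.coe_mul]
    by_cases hb : (b : PV) ∈ Kp
    · exact Or.inr ⟨hb, fun e => (h.1 e) hb⟩
    · exact Or.inl ⟨h.2 hb, hb⟩
  have h1 := Subgroup.card_mul_index (Kp.subgroupOf C)
  have e : Nat.card (Kp.subgroupOf C) = 3 * q := by
    rw [← cent_Kp hM hq hg hgq hg1]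
    exact Nat.card_congr
      { toFun := fun c => ⟨c.1.1, c.2, c.1.2.2⟩
        invFun := fun c => ⟨⟨c.1, Kp_le c.2.1, c.2.2⟩, c.2.1⟩
        left_inv := fun _ => rfl
        right_inv := fun _ => rfl }
  rw [hi, e] at h1
  omega

end Cfsg.Agent.Spor.JFour
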