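import Cfsg.Agent.Lib.Spor.JFourClassThree
import Cfsg.Agent.Lib.Spor.M22UPrimeCount
import Cfsg.Agent.Lib.Spor.JFourLoc.Facts

/-!
Elements of odd prime order in the centraliser of the involution: lifts, centralisers, standard position.
-/

set_option autoImplicit false
set_option maxRecDepth 100000
set_option linter.unusedSectionVars false

namespace Cfsg.Agent.Spor.JFour

open Cfsg.Agent.Spor.SUSix (V6)
open Cfsg.Agent.Spor.SpFour (F4)
open Cfsg.Agent.Small.Unitary (herm)

attribute [local irreducible] Gam Kp Chk.app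

universe u

variable {G : Type u} [Group G] [Finite G] {z : G} {Q N : Subgroup G} {x : G}
variable (S : Setup z Q N x) (f : Frame z Q x)

include S f

theorem Frame.eq_one_of_pow {c : Subgroup.centralizer ({z} : Set G)} {n : ℕ} (hn : c ^ n = 1) (hodd : Odd n)
    (h1 : f.π c = 1) : c = 1 :=
  Subtype.ext (S.odd_Q ((f.ker c).1 h1) (congrArg Subtype.val hn) hodd)

/-- two elements of the same odd prime order and the same image are conjugate by an element of the kernel -/
theorem Frame.conj_lift {q : ℕ} [Fact q.Prime] (hq : q ≠ 2) {a b : Subgroup.centralizer ({z} : Set G)}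
    (ha : a ^ q = 1) (hb : b ^ q = 1) (he : f.π a = f.π b) :
    ∃ u : Subgroup.centralizer ({z} : Set G), f.π u = 1 ∧ u * a * u⁻¹ = b := by
  have hqp : q.Prime := Fact.out
  have hodd : Odd q := hqp.odd_of_ne_two hq
  by_cases h1 : f.π a = 1
  · exact ⟨1, map_one _, by rw [f.eq_one_of_pow S ha hodd h1, f.eq_one_of_pow S hb hodd (he ▸ h1)]; simp⟩
  set p := f.π a with hp
  have hpq : p ^ q = 1 := by rw [hp, ← map_pow, ha, map_one]
  have ho : orderOf p = q := orderOf_eq_prime hpq h1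
  set M := (Subgroup.zpowers p).comap f.π with hM
  have hMc : Nat.card M = q ^ 1 * 2 ^ 13 := by
    rw [Subgroup.card_eq_card_quotient_mul_card_subgroup (f.π.comp M.subtype).ker,
      Nat.card_congr (QuotientGroup.quotientKerEquivRange _).toEquiv, MonoidHom.range_comp, Subgroup.range_subtype,
      hM, Subgroup.map_comap_eq_self (Subgroup.zpowers_le.2 ⟨a, rfl⟩), Nat.card_zpowers, ho, pow_one, ← S.ord.cardQ]
    congr 1
    exact Nat.card_congr
      { toFun := fun k => ⟨((k.1.1 : Subgroup.centralizer ({z} : Set G)) : G), (f.ker k.1.1).1 k.2⟩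
        invFun := fun r => ⟨⟨⟨r, S.mem_C r.2⟩, by
          show f.π ⟨(r : G), S.mem_C r.2⟩ ∈ Subgroup.zpowers p
          rw [(f.ker _).2 r.2]; exact one_mem _⟩, (f.ker ⟨(r : G), S.mem_C r.2⟩).2 r.2⟩
        left_inv := fun _ => rfl
        right_inv := fun _ => rfl }
  have hnd : ¬ q ∣ 2 ^ 13 := fun h => hq ((Nat.prime_dvd_prime_iff_eq hqp Nat.prime_two).1 (hqp.dvd_of_dvd_pow h))
  have hf : (Nat.card M).factorization q = 1 := by
    rw [hMc, Nat.factorization_mul (pow_ne_zero _ hqp.ne_zero) (by norm_num), Finsupp.add_apply,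
      Nat.factorization_eq_zero_of_not_dvd hnd, add_zero, hqp.factorization_pow, Finsupp.single_eq_same]
  have haM : a ∈ M := Subgroup.mem_zpowers p
  have hbM : b ∈ M := show f.π b ∈ Subgroup.zpowers p by rw [← he]; exact Subgroup.mem_zpowers p
  have hsyl : ∀ u : M, u ^ q = 1 → f.π u = p → Nat.card (Subgroup.zpowers u) = q ^ (Nat.card M).factorization q := by
    intro u hu1 hu
    rw [hf, pow_one, Nat.card_zpowers]
    exact orderOf_eq_prime hu1 fun e => h1 (by rw [← hu, e]; exact map_one f.π)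
  let Pa : Sylow q M := Sylow.ofCard _ (hsyl ⟨a, haM⟩ (Subtype.ext ha) rfl)
  let Pb : Sylow q M := Sylow.ofCard _ (hsyl ⟨b, hbM⟩ (Subtype.ext hb) he.symm)
  obtain ⟨m, hm⟩ := MulAction.exists_smul_eq M Pa Pb
  have h2 : MulAut.conj m • (⟨a, haM⟩ : M) ∈ (m • Pa : Sylow q M) :=
    Subgroup.smul_mem_pointwise_smul _ (MulAut.conj m) _ (Subgroup.mem_zpowers _)
  rw [hm] at h2
  obtain ⟨i, hi⟩ := h2
  set c : Subgroup.centralizer ({z} : Set G) := (m : Subgroup.centralizer ({z} : Set G)) * a *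
    (m : Subgroup.centralizer ({z} : Set G))⁻¹ with hc
  have hi' : b ^ i = c := congrArg Subtype.val hi
  obtain ⟨j, hj⟩ : f.π (m : Subgroup.centralizer ({z} : Set G)) ∈ Subgroup.zpowers p := m.2
  have hπc : f.π c = p := by
    rw [hc, map_mul, map_mul, map_inv, ← hp, ← hj, ((Commute.refl p).zpow_left j).eq, mul_inv_cancel_right]
  have hcb : c = b := by
    rw [← mul_inv_eq_one]
    refine f.eq_one_of_pow S (n := q) ?_ hodd (by rw [map_mul, map_inv, hπc, ← he, mul_inv_cancel])
    rw [← hi', ← zpow_sub_one, ← zpow_natCast, ← zpow_mul, mul_comm, zpow_mul, zpow_natCast, hb, one_zpow]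
  refine ⟨(m : Subgroup.centralizer ({z} : Set G)) * (a ^ j)⁻¹, ?_, ?_⟩
  · rw [map_mul, map_inv, map_zpow, ← hp, ← hj, mul_inv_cancel]
  · rw [← hcb, hc, mul_inv_rev, inv_inv]
    calc _ = (m : Subgroup.centralizer ({z} : Set G)) * ((a ^ j)⁻¹ * (a * a ^ j)) *
        (m : Subgroup.centralizer ({z} : Set G))⁻¹ := by group
      _ = _ := by rw [((Commute.refl a).zpow_right j).eq, inv_mul_cancel_left]

/-- elements of the image acting on the element by a power lift to such elements -/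
theorem Frame.norm_lift {q : ℕ} [Fact q.Prime] (hq : q ≠ 2) {c : Subgroup.centralizer ({z} : Set G)} (hc : c ^ q = 1)
    {p : PV} (hp : p ∈ Gam) {k : ℕ} (hk : p * f.π c * p⁻¹ = f.π c ^ k) :
    ∃ h : Subgroup.centralizer ({z} : Set G), f.π h = p ∧ h * c * h⁻¹ = c ^ k := by
  obtain ⟨h, rfl⟩ := (f.range p).1 hp
  obtain ⟨u, hu, e⟩ := f.conj_lift S hq (a := h * c * h⁻¹) (b := c ^ k)
    (by rw [conj_pow, hc, mul_one, mul_inv_cancel]) (by rw [← pow_mul, mul_comm, pow_mul, hc, one_pow])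
    (by rw [map_mul, map_mul, map_inv, map_pow, hk])
  exact ⟨u * h, by rw [map_mul, hu, one_mul], by rw [← e]; group⟩

/-- elements of the kernel commuting with an element of odd order -/
theorem Frame.comm_iff_fix {c : Subgroup.centralizer ({z} : Set G)} {n : ℕ} (hn : c ^ n = 1) (hodd : Odd n) {a : G}
    (ha : a ∈ Q) : Commute (c : G) a ↔ f.π c (f.vec a) = f.vec a := by
  have hcz : Commute (c : G) z := Subgroup.mem_centralizer_singleton_iff.1 c.2
  constructor
  · intro h
    rw [← f.vec_conj c a ha, mul_inv_eq_iff_eq_mul.2 h.eq]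
  · intro h
    have ha' := S.ord.normQ c hcz a ha
    rcases (f.vec_eq a ha _ ha').1 ((f.vec_conj c a ha).trans h).symm with e | e
    · exact mul_inv_eq_iff_eq_mul.1 e
    · exfalso
      have key : ∀ m : ℕ, (c : G) ^ m * a * ((c : G) ^ m)⁻¹ = a * z ^ m := by
        intro m
        induction m with
        | zero => simp
        | succ m ih =>
          calc (c : G) ^ (m + 1) * a * ((c : G) ^ (m + 1))⁻¹
              = (c : G) * ((c : G) ^ m * a * ((c : G) ^ m)⁻¹) * (c : G)⁻¹ := by rw [pow_succ']; group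
            _ = (c : G) * (a * z ^ m) * (c : G)⁻¹ := by rw [ih]
            _ = (c : G) * a * (c : G)⁻¹ * ((c : G) * z ^ m * (c : G)⁻¹) := by group
            _ = a * z * z ^ m := by rw [e, (hcz.pow_right m).eq, mul_inv_cancel_right]
            _ = a * z ^ (m + 1) := by rw [mul_assoc, ← pow_succ']
      have h' := key n
      obtain ⟨m, rfl⟩ := hodd
      rw [show (c : G) ^ (2 * m + 1) = 1 by rw [← SubmonoidClass.coe_pow, hn, OneMemClass.coe_one], one_mul, inv_one,
        mul_one, pow_succ, pow_mul, pow_two, S.ord.xt.sq, one_pow, one_mul, left_eq_mul] at h'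
      exact S.ord.xt.ne h'

/-- the centraliser of an element of odd order inside the kernel -/
theorem Frame.card_fix {c : Subgroup.centralizer ({z} : Set G)} {n : ℕ} (hn : c ^ n = 1) (hodd : Odd n) :
    Nat.card (Q ⊓ Subgroup.centralizer ({(c : G)} : Set G) : Subgroup G) = 2 * (Fx (f.π c)).ncard := by
  rw [f.vecCard S _ inf_le_left ⟨S.ord.xt.mem, Subgroup.mem_centralizer_singleton_iff.2
    (Subgroup.mem_centralizer_singleton_iff.1 c.2).symm⟩]
  congr 2
  ext v
  constructor
  · rintro ⟨a, ⟨ha, hca⟩, rfl⟩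
    exact (f.comm_iff_fix S hn hodd ha).1 (Subgroup.mem_centralizer_singleton_iff.1 hca : Commute a (c : G)).symm
  · intro hv
    obtain ⟨a, ha, rfl⟩ := f.vec_surj v
    exact ⟨a, ⟨ha, Subgroup.mem_centralizer_singleton_iff.2 ((f.comm_iff_fix S hn hodd ha).2 hv).symm.eq⟩, rfl⟩

/-- the centraliser of an element of odd prime order in the centraliser of the involution -/
theorem Frame.card_cent {q : ℕ} [Fact q.Prime] (hq : q ≠ 2) {c : Subgroup.centralizer ({z} : Set G)}
    (hc : c ^ q = 1) :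
    Nat.card (Subgroup.centralizer ({z} : Set G) ⊓ Subgroup.centralizer ({(c : G)} : Set G) : Subgroup G) =
      2 * (Fx (f.π c)).ncard * Nat.card (Gam ⊓ Subgroup.centralizer ({f.π c} : Set PV) : Subgroup PV) := by
  set C := Subgroup.centralizer ({c} : Set (Subgroup.centralizer ({z} : Set G))) with hC
  have e1 : Nat.card (Subgroup.centralizer ({z} : Set G) ⊓ Subgroup.centralizer ({(c : G)} : Set G) : Subgroup G) =
      Nat.card C :=
    Nat.card_congr
      { toFun := fun a => ⟨⟨a.1, a.2.1⟩, Subgroup.mem_centralizer_singleton_iff.2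
          (Subtype.ext (Subgroup.mem_centralizer_singleton_iff.1 a.2.2))⟩
        invFun := fun a => ⟨a.1.1, a.1.2, Subgroup.mem_centralizer_singleton_iff.2
          (congrArg Subtype.val (Subgroup.mem_centralizer_singleton_iff.1 a.2))⟩
        left_inv := fun _ => rfl
        right_inv := fun _ => rfl }
  have e2 : (f.π.comp C.subtype).range = Gam ⊓ Subgroup.centralizer ({f.π c} : Set PV) := by
    ext p
    constructor
    · rintro ⟨a, rfl⟩
      refine ⟨(f.range _).2 ⟨a.1, rfl⟩, Subgroup.mem_centralizer_singleton_iff.2 ?_⟩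
      show f.π a.1 * f.π c = f.π c * f.π a.1
      rw [← map_mul, ← map_mul, Subgroup.mem_centralizer_singleton_iff.1 a.2]
    · rintro ⟨hpG, hpc⟩
      obtain ⟨h, hh, e⟩ := f.norm_lift S hq hc hpG (k := 1)
        (by rw [pow_one]; exact mul_inv_eq_iff_eq_mul.2 (Subgroup.mem_centralizer_singleton_iff.1 hpc))
      rw [pow_one] at e
      exact ⟨⟨h, Subgroup.mem_centralizer_singleton_iff.2 (mul_inv_eq_iff_eq_mul.1 e)⟩, hh⟩
  rw [e1, Subgroup.card_eq_card_quotient_mul_card_subgroup (f.π.comp C.subtype).ker,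
    Nat.card_congr (QuotientGroup.quotientKerEquivRange _).toEquiv, e2,
    ← f.card_fix S hc ((Fact.out : q.Prime).odd_of_ne_two hq), mul_comm]
  congr 1
  exact Nat.card_congr
    { toFun := fun k => ⟨((k.1.1 : Subgroup.centralizer ({z} : Set G)) : G), (f.ker k.1.1).1 k.2,
        Subgroup.mem_centralizer_singleton_iff.2 (congrArg Subtype.val (Subgroup.mem_centralizer_singleton_iff.1 k.1.2))⟩
      invFun := fun r => ⟨⟨⟨r, S.mem_C r.2.1⟩, Subgroup.mem_centralizer_singleton_iff.2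
        (Subtype.ext (Subgroup.mem_centralizer_singleton_iff.1 r.2.2))⟩, (f.ker ⟨(r : G), S.mem_C r.2.1⟩).2 r.2.1⟩
      left_inv := fun _ => rfl
      right_inv := fun _ => rfl }

omit S in
/-- moving the coordinates by an element of the linear part -/
theorem Frame.twist {k : PV} (hk : k ∈ Kp) :
    ∃ f' : Frame z Q x, (∀ c, f'.π c = k * f.π c * k⁻¹) ∧ ∀ a, f'.vec a = k (f.vec a) := by
  have hL := Kp_le_LinG hk
  refine ⟨⟨fun a => k (f.vec a), (MulAut.conj k).toMonoidHom.comp f.π, fun a ha b hb => ?_, fun v => ?_,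
    fun a ha b hb => ?_, fun a ha => ?_, fun c a ha => ?_, fun c => ?_, fun c hc => ?_, fun c => ?_, fun p => ?_,
    f.mdl⟩, fun c => rfl, fun a => rfl⟩
  · show k (f.vec (a * b)) = k (f.vec a) + k (f.vec b)
    rw [f.vec_mul a ha b hb, hL.add]
  · obtain ⟨a, ha, e⟩ := f.vec_surj (k⁻¹ v)
    exact ⟨a, ha, by show k (f.vec a) = v; rw [e]; exact k.apply_symm_apply v⟩
  · show k (f.vec a) = k (f.vec b) ↔ _
    rw [k.injective.eq_iff]
    exact f.vec_eq a ha b hb
  · show _ ↔ herm (k (f.vec a)) (k (f.vec a)) = 0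
    rw [hL.form]
    exact f.sq_iff a ha
  · show k (f.vec ((c : G) * a * (c : G)⁻¹)) = (k * f.π c * k⁻¹) (k (f.vec a))
    rw [f.vec_conj c a ha, Equiv.Perm.mul_apply, Equiv.Perm.mul_apply, show k⁻¹ (k (f.vec a)) = f.vec a from
      k.symm_apply_apply _]
  · show k * f.π c * k⁻¹ = 1 ↔ _
    rw [conj_eq_one_iff]
    exact f.ker c
  · show k * f.π c * k⁻¹ = gW
    rw [f.pi_x c hc, ← (gW_comm hL).eq, mul_inv_cancel_right]
  · show k * f.π c * k⁻¹ ∈ Kp ↔ Commute (k * f.π c * k⁻¹) gW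
    rw [show gW = k * gW * k⁻¹ by rw [← (gW_comm hL).eq, mul_inv_cancel_right], Commute.conj_iff, ← f.mem_Kp]
    exact ⟨fun h => by simpa [mul_assoc] using mul_mem (mul_mem (inv_mem hk) h) hk,
      fun h => mul_mem (mul_mem hk h) (inv_mem hk)⟩
  · constructor
    · intro hp
      obtain ⟨c, hc⟩ := (f.range (k⁻¹ * p * k)).1 (mul_mem (mul_mem (inv_mem (Kp_le hk)) hp) (Kp_le hk))
      exact ⟨c, by show k * f.π c * k⁻¹ = p; rw [hc]; group⟩
    · rintro ⟨c, rfl⟩
      exact mul_mem (mul_mem (Kp_le hk) ((f.range _).2 ⟨c, rfl⟩)) (inv_mem (Kp_le hk))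

/-- coordinates in which a given element of order five or seven is standard -/
theorem Frame.standard {q : ℕ} (hq : q = 5 ∨ q = 7) {g : PV} (hg : g ∈ Kp) (hgq : g ^ q = 1) (hg1 : g ≠ 1)
    {c : Subgroup.centralizer ({z} : Set G)} (hc : c ^ q = 1) (hc1 : c ≠ 1) :
    ∃ f' : Frame z Q x, f'.π c ∈ Subgroup.zpowers g ∧ f'.π c ≠ 1 := by
  have hqp : q.Prime := by rcases hq with rfl | rfl <;> norm_num
  haveI : Fact q.Prime := ⟨hqp⟩
  have hodd : Odd q := by rcases hq with rfl | rfl <;> decide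
  have hcK := f.odd_Kp S hc hodd
  have hπ1 : f.π c ≠ 1 := fun e => hc1 (f.eq_one_of_pow S hc hodd e)
  have hd : q ∣ Nat.card Kp := by
    rw [card_Kp f.mdl]; rcases hq with rfl | rfl <;> norm_num
  have hnd : ¬ q * q ∣ Nat.card Kp := by
    rw [card_Kp f.mdl]; rcases hq with rfl | rfl <;> norm_num
  have hcard : ∀ u : Kp, (u : PV) ^ q = 1 → (u : PV) ≠ 1 → Nat.card (Subgroup.zpowers u) = q := fun u h h' => by
    rw [Nat.card_zpowers]
    exact orderOf_eq_prime (Subtype.ext (by rw [SubmonoidClass.coe_pow]; exact h)) fun e => h' (congrArg Subtype.val e)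
  obtain ⟨k, hk⟩ := M22U.PrimeCount.conj_of_card hqp hd hnd
    (hcard ⟨f.π c, hcK⟩ (by show f.π c ^ q = 1; rw [← map_pow, hc, map_one]) hπ1) (hcard ⟨g, hg⟩ hgq hg1)
  obtain ⟨f', hf', -⟩ := f.twist k.2
  refine ⟨f', ?_, by rw [hf']; exact fun e => hπ1 (conj_eq_one_iff.1 e)⟩
  have : k * ⟨f.π c, hcK⟩ * k⁻¹ ∈ Subgroup.zpowers (⟨g, hg⟩ : Kp) := hk ▸ ⟨_, Subgroup.mem_zpowers _, rfl⟩
  obtain ⟨i, hi⟩ := this
  rw [hf']
  exact ⟨i, congrArg Subtype.val hi⟩

end Cfsg.Agent.Spor.JFour
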