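import Cfsg.Agent.Lib.Spor.JFourLoc.Seven
import Cfsg.Agent.Lib.Spor.JFourLoc.SevX.Count

/-!
The centraliser and normaliser of an element of order seven.
-/

set_option autoImplicit false
set_option maxRecDepth 100000
set_option linter.unusedSectionVars false

namespace Cfsg.Agent.Spor.JFour

open Cfsg.Agent.Spor.SUSix (V6)

attribute [local irreducible] wd gP Gam Kp Chk.app

universe u

variable {G : Type u} [Group G] [Finite G]

theorem mem_norm_zpowers {a g : G} :
    g ∈ Subgroup.normalizer (Subgroup.zpowers a : Set G) ↔ g * a * g⁻¹ ∈ Subgroup.zpowers a := by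
  refine ⟨fun h => (Subgroup.mem_normalizer_iff.1 h a).1 (Subgroup.mem_zpowers a), fun h => ?_⟩
  refine Subgroup.mem_normalizer_fintype ?_
  rintro _ ⟨i, rfl⟩
  show g * a ^ i * g⁻¹ ∈ Subgroup.zpowers a
  rw [← conj_zpow]
  exact zpow_mem h i

variable {z : G} {Q N : Subgroup G} {x : G}
variable (S : Big z Q N x) (f : Frame z Q x)

include S f

/-- the local structure at an element of order seven -/
theorem Big.seven_top {s : G} (h7 : s ^ 7 = 1) (h1 : s ≠ 1) (hsz : Commute s z) :
    ¬ 49 ∣ Nat.card G ∧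
    (∃ I : Subgroup G, I ≤ Subgroup.centralizer ({s} : Set G) ∧ Subgroup.zpowers s ⊓ I = ⊥ ∧
      Subgroup.zpowers s ⊔ I = Subgroup.centralizer ({s} : Set G) ∧ Nonempty (↥I ≃* Equiv.Perm (Fin 5))) ∧
    Nat.card (Subgroup.centralizer ({s} : Set G)) = 840 ∧
    Nat.card (Subgroup.normalizer (Subgroup.zpowers s : Set G)) = 2520 := by
  classical
  haveI : Fact (Nat.Prime 7) := ⟨by norm_num⟩
  have hso : orderOf s = 7 := orderOf_eq_prime h7 h1
  set CC := Subgroup.centralizer ({s} : Set G) with hCC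
  have hcc : ∀ {c}, c ∈ CC ↔ Commute c s := fun {c} => Subgroup.mem_centralizer_singleton_iff
  have hsC : s ∈ CC := hcc.2 (Commute.refl s)
  set K := (Subgroup.zpowers s).subgroupOf CC with hK
  haveI hKn : K.Normal := by
    constructor
    intro n hn g
    obtain ⟨i, hi⟩ := Subgroup.mem_subgroupOf.1 hn
    have hi' : s ^ i = (n : G) := hi
    have : g * n * g⁻¹ = n := mul_inv_eq_iff_eq_mul.2 (Subtype.ext (by
      show (g : G) * n = n * g
      rw [← hi']; exact ((hcc.1 g.2).zpow_right i).eq))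
    rw [this]; exact hn
  have hcardK : Nat.card K = 7 := by
    rw [hK, Nat.card_congr (Subgroup.subgroupOfEquivOfLe (Subgroup.zpowers_le.2 hsC)).toEquiv, Nat.card_zpowers, hso]
  set mk := QuotientGroup.mk' K with hmk
  have hsurj : Function.Surjective mk := QuotientGroup.mk'_surjective K
  -- elements of order prime to seven are determined by their image
  have absorb : ∀ {a b : CC} {m : ℕ}, a ^ m = 1 → b ^ m = 1 → Nat.Coprime 7 m → mk a = mk b → a = b := by
    intro a b m ha hb hm e
    obtain ⟨i, hi⟩ := Subgroup.mem_subgroupOf.1 (QuotientGroup.eq.1 e)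
    have hi' : s ^ i = (a : G)⁻¹ * b := hi
    have hca : Commute (a : G) (s ^ i) := (hcc.1 a.2).zpow_right i
    have hb' : ((a : G) * s ^ i) ^ m = 1 := by
      rw [hi', mul_inv_cancel_left]
      exact congrArg Subtype.val hb
    have ha' : (a : G) ^ m = 1 := congrArg Subtype.val ha
    rw [hca.mul_pow, ha', one_mul] at hb'
    have h0 := pow_gcd_eq_one.2
      ⟨(show (s ^ i) ^ 7 = 1 by rw [← zpow_natCast, ← zpow_mul, mul_comm, zpow_mul, zpow_natCast, h7, one_zpow]), hb'⟩
    rw [hm, pow_one, hi', inv_mul_eq_one] at h0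
    exact Subtype.ext h0
  have centQ : ∀ {v : CC} {m : ℕ}, v ^ m = 1 → Nat.Coprime 7 m →
      7 * Nat.card (Subgroup.centralizer ({mk v} : Set (CC ⧸ K))) =
        Nat.card (CC ⊓ Subgroup.centralizer ({(v : G)} : Set G) : Subgroup G) := by
    intro v m hv hm
    have hcm : (Subgroup.centralizer ({mk v} : Set (CC ⧸ K))).comap mk = Subgroup.centralizer ({v} : Set CC) := by
      ext c
      constructor
      · intro hc
        have hc' : mk (c * v * c⁻¹) = mk v := by
          rw [map_mul, map_mul, map_inv]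
          exact mul_inv_eq_iff_eq_mul.2 (Subgroup.mem_centralizer_singleton_iff.1 hc)
        exact Subgroup.mem_centralizer_singleton_iff.2
          (mul_inv_eq_iff_eq_mul.1 (absorb (by rw [conj_pow, hv, mul_one, mul_inv_cancel]) hv hm hc'))
      · intro hc
        exact Subgroup.mem_centralizer_singleton_iff.2
          (Commute.map (show Commute c v from Subgroup.mem_centralizer_singleton_iff.1 hc) mk).eq
    have e1 := Subgroup.card_mul_index ((Subgroup.centralizer ({mk v} : Set (CC ⧸ K))).comap mk)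
    rw [Subgroup.index_comap_of_surjective _ hsurj, hcm, Subgroup.card_eq_card_quotient_mul_card_subgroup K,
      hcardK, ← Subgroup.card_mul_index (Subgroup.centralizer ({mk v} : Set (CC ⧸ K))), mul_right_comm] at e1
    have e2 := Nat.eq_of_mul_eq_mul_right (Nat.pos_of_ne_zero Subgroup.index_ne_zero_of_finite) e1
    rw [mul_comm, ← e2]
    refine Nat.card_congr
      { toFun := fun c => ⟨((c : CC) : G), (c : CC).2, Subgroup.mem_centralizer_singleton_iff.2
          (congrArg Subtype.val (Subgroup.mem_centralizer_singleton_iff.1 c.2))⟩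
        invFun := fun r => ⟨⟨r, r.2.1⟩, Subgroup.mem_centralizer_singleton_iff.2
          (Subtype.ext (Subgroup.mem_centralizer_singleton_iff.1 r.2.2))⟩
        left_inv := fun _ => rfl
        right_inv := fun _ => rfl }
  -- the hypotheses for the quotient
  obtain ⟨p, d, hpo, hps, hds, hdp, hd4, h35, hn25⟩ := S.seven_five f h7 h1 hsz
  set pC : CC := ⟨p, hcc.2 hps⟩ with hpC
  set dC : CC := ⟨d, hcc.2 hds⟩ with hdC
  set zC : CC := ⟨z, hcc.2 hsz.symm⟩ with hzC
  set Zt : CC ⧸ K → Prop := fun u => ∃ v : CC, mk v = u ∧ IsConj z (v : G) with hZt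
  have hp5 : pC ^ 5 = 1 := Subtype.ext (by rw [SubmonoidClass.coe_pow]; exact hpo ▸ pow_orderOf_eq_one p)
  have hp1 : pC ≠ 1 := fun e => by
    rw [show p = 1 from congrArg Subtype.val e, orderOf_one] at hpo; norm_num at hpo
  have hconj2 : ∀ {v : CC}, IsConj z (v : G) → v ^ 2 = 1 := fun {v} hv => by
    obtain ⟨g, hg⟩ := isConj_iff.1 hv
    refine Subtype.ext ?_
    rw [SubmonoidClass.coe_pow, ← hg, conj_pow, pow_two, S.base.ord.xt.sq, mul_one, mul_inv_cancel]
    rfl
  have hdata : Cfsg.Agent.Spor.SevenX.SevData Zt (mk zC) (mk pC) (mk dC) := by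
    refine ⟨⟨zC, rfl, IsConj.refl z⟩, ?_, ?_, ?_, ?_, ?_, ?_, ?_, ?_, ?_, ?_⟩
    · rintro g u ⟨v, rfl, hv⟩
      obtain ⟨w, rfl⟩ := hsurj g
      exact ⟨w * v * w⁻¹, by rw [map_mul, map_mul, map_inv], hv.trans (isConj_iff.2 ⟨(w : G), rfl⟩)⟩
    · rintro u ⟨v, rfl, hv⟩
      rw [← map_mul, ← pow_two, hconj2 hv, map_one]
    · rintro u ⟨v, rfl, hv⟩ e
      have := absorb (hconj2 hv) (one_pow 2) (by norm_num) (e.trans (map_one mk).symm)
      rw [this, OneMemClass.coe_one, isConj_one_left] at hv
      exact S.base.ord.xt.ne hv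
    · rintro u ⟨v, rfl, hv⟩
      have h84 : Nat.card (CC ⊓ Subgroup.centralizer ({(v : G)} : Set G) : Subgroup G) = 84 := by
        obtain ⟨g, hg⟩ := isConj_iff.1 hv
        have hs' : Commute (g⁻¹ * s * g) z := by
          have := (Commute.conj_iff g⁻¹).2 (hcc.1 v.2).symm
          rwa [inv_inv, ← hg, show g⁻¹ * (g * z * g⁻¹) * g = z by group] at this
        obtain ⟨-, h84⟩ := S.seven_cent f (s := g⁻¹ * s * g)
          (by
            have e : (g⁻¹ * s * g) ^ 7 = g⁻¹ * s ^ 7 * g := by simpa using conj_pow (a := g⁻¹) (b := s) (i := 7)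
            rw [e, h7]; group)
          (fun e => h1 (by
            calc s = g * (g⁻¹ * s * g) * g⁻¹ := by group
              _ = 1 := by rw [e]; group)) hs'
        rw [← h84]
        refine Nat.card_congr
          { toFun := fun c => ⟨g⁻¹ * c * g, ?_, ?_⟩
            invFun := fun c => ⟨g * c * g⁻¹, ?_, ?_⟩
            left_inv := fun c => Subtype.ext (by show g * (g⁻¹ * (c : G) * g) * g⁻¹ = c; group)
            right_inv := fun c => Subtype.ext (by show g⁻¹ * (g * (c : G) * g⁻¹) * g = c; group) }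
        · have h2 := (Commute.conj_iff g⁻¹).2
            (show Commute (c : G) (v : G) from Subgroup.mem_centralizer_singleton_iff.1 c.2.2)
          rw [inv_inv, show g⁻¹ * (v : G) * g = z by rw [← hg]; group] at h2
          exact Subgroup.mem_centralizer_singleton_iff.2 h2.eq
        · have h2 := (Commute.conj_iff g⁻¹).2 (hcc.1 c.2.1)
          rw [inv_inv] at h2
          exact Subgroup.mem_centralizer_singleton_iff.2 h2.eq
        · have h2 := (Commute.conj_iff g).2
            (show Commute (c : G) (g⁻¹ * s * g) from Subgroup.mem_centralizer_singleton_iff.1 c.2.2)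
          rw [show g * (g⁻¹ * s * g) * g⁻¹ = s by group] at h2
          exact hcc.2 h2
        · have h2 := (Commute.conj_iff g).2
            (show Commute (c : G) z from Subgroup.mem_centralizer_singleton_iff.1 c.2.1)
          rw [hg] at h2
          exact Subgroup.mem_centralizer_singleton_iff.2 h2.eq
      have := centQ (hconj2 hv) (by norm_num)
      omega
    · intro b hb
      obtain ⟨w, rfl⟩ := hsurj b
      have hb3 : mk w ^ 3 = 1 := hb ▸ pow_orderOf_eq_one _
      obtain ⟨i, hi⟩ := Subgroup.mem_subgroupOf.1 ((QuotientGroup.eq_one_iff _).1 ((map_pow mk w 3).trans hb3))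
      have hv3 : (w ^ 7) ^ 3 = 1 := Subtype.ext (by
        rw [← pow_mul, mul_comm, pow_mul, SubmonoidClass.coe_pow, ← hi]
        rw [← zpow_natCast (s ^ i) 7, ← zpow_mul, mul_comm, zpow_mul, zpow_natCast, h7, one_zpow]
        rfl)
      have hmv : mk (w ^ 7) = mk w := by
        rw [map_pow, show (7 : ℕ) = 3 * 2 + 1 from rfl, pow_succ, pow_mul, hb3, one_pow, one_mul]
      have hv1 : ((w ^ 7 : CC) : G) ≠ 1 := fun e => by
        rw [show w ^ 7 = 1 from Subtype.ext e, map_one] at hmv
        rw [← hmv, orderOf_one] at hb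
        norm_num at hb
      haveI : Fact (Nat.Prime 3) := ⟨Nat.prime_three⟩
      have hvo : orderOf ((w ^ 7 : CC) : G) = 3 := orderOf_eq_prime (congrArg Subtype.val hv3) hv1
      obtain ⟨h42, u, hu, hus, huv⟩ := S.seven_three f hvo h7 h1 (hcc.1 (w ^ 7).2)
      refine ⟨?_, mk ⟨u, hcc.2 hus⟩, ⟨_, rfl, hu⟩, ?_⟩
      · have := (centQ hv3 (by norm_num)).trans h42
        rw [hmv] at this
        omega
      · rw [← hmv]
        exact Commute.map (show Commute (⟨u, hcc.2 hus⟩ : CC) (w ^ 7) from Subtype.ext huv.eq) mk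
    · haveI : Fact (Nat.Prime 5) := ⟨by norm_num⟩
      exact orderOf_eq_prime (by rw [← map_pow, hp5, map_one])
        fun e => hp1 (absorb hp5 (one_pow 5) (by norm_num) (e.trans (map_one mk).symm))
    · have := (centQ hp5 (by norm_num)).trans h35
      omega
    · rw [← map_inv, ← map_mul, ← map_mul, ← map_pow]
      exact congrArg mk (Subtype.ext hdp)
    · rw [← map_pow, show dC ^ 4 = 1 from Subtype.ext (by rw [SubmonoidClass.coe_pow]; exact hd4), map_one]
    · exact fun h => hn25 ((h.trans K.card_quotient_dvd_card).trans CC.card_subgroup_dvd_card)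
  obtain ⟨h120, ⟨φ⟩, hcl⟩ := hdata.result
  have h840 : Nat.card CC = 840 := by
    rw [Subgroup.card_eq_card_quotient_mul_card_subgroup K, h120, hcardK]
  -- no subgroup of order forty-nine
  have h49 : ¬ 49 ∣ Nat.card G := by
    intro h
    obtain ⟨P, hP, hsP⟩ := Sylow.exists_subgroup_card_pow_prime_le 7 (n := 1) (m := 2) (by norm_num; exact h)
      (Subgroup.zpowers s) (by rw [Nat.card_zpowers, hso, pow_one]) (by norm_num)
    have hcomm := IsPGroup.commutative_of_card_eq_prime_sq hP
    have hle : P ≤ CC := fun a ha => hcc.2 (congrArg Subtype.val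
      (hcomm ⟨a, ha⟩ ⟨s, hsP (Subgroup.mem_zpowers s)⟩))
    have := Subgroup.card_dvd_of_le hle
    rw [hP, h840] at this
    norm_num at this
  -- the complement
  have hidx : K.index = 120 := by rw [Subgroup.index_eq_card, h120]
  obtain ⟨I, hI⟩ := Subgroup.exists_right_complement'_of_coprime (N := K) (by rw [hcardK, hidx]; norm_num)
  have hI120 : Nat.card I = 120 := by
    have := hI.card_mul
    rw [hcardK, h840] at this
    omega
  have hiso : Nonempty (↥(I.map CC.subtype) ≃* Equiv.Perm (Fin 5)) := by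
    have hinj : Function.Injective (mk.comp I.subtype) := by
      rw [injective_iff_map_eq_one]
      intro a ha
      have haK : (a : CC) ∈ K := (QuotientGroup.eq_one_iff _).1 ha
      exact Subtype.ext ((Subgroup.disjoint_def.1 hI.disjoint) haK a.2)
    have hbij : Function.Bijective (mk.comp I.subtype) :=
      (Nat.bijective_iff_injective_and_card _).2 ⟨hinj, hI120.trans h120.symm⟩
    exact ⟨((I.equivMapOfInjective CC.subtype CC.subtype_injective).symm.trans
      (MulEquiv.ofBijective _ hbij)).trans φ⟩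
  -- the normaliser
  set H := Subgroup.centralizer ({z} : Set G) with hH
  set sH : H := ⟨s, Subgroup.mem_centralizer_singleton_iff.2 hsz.eq⟩ with hsH
  set M := Subgroup.normalizer (Subgroup.zpowers sH : Set H) with hM
  have hsHo : Nat.card (Subgroup.zpowers sH) = 7 := by rw [Nat.card_zpowers, hsH, Subgroup.orderOf_mk, hso]
  have hCH : Nat.card (Subgroup.centralizer ((Subgroup.zpowers sH : Subgroup H) : Set H)) = 84 := by
    rw [Subgroup.zpowers_eq_closure, Subgroup.centralizer_closure, ← (S.seven_cent f h7 h1 hsz).2]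
    exact Nat.card_congr
      { toFun := fun c => ⟨((c : H) : G), (c : H).2, Subgroup.mem_centralizer_singleton_iff.2
          (congrArg Subtype.val (Subgroup.mem_centralizer_singleton_iff.1 c.2))⟩
        invFun := fun r => ⟨⟨r, r.2.1⟩, Subgroup.mem_centralizer_singleton_iff.2
          (Subtype.ext (Subgroup.mem_centralizer_singleton_iff.1 r.2.2))⟩
        left_inv := fun _ => rfl
        right_inv := fun _ => rfl }
  have h252 : Nat.card M = 252 := by
    obtain ⟨m, n, hm, hn, hMc, hHc⟩ := M22U.PrimeCount.card_normalizer (G := H) (p := 7) (by norm_num)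
      (by rw [S.card_C f]; norm_num) (by rw [S.card_C f]; norm_num) hsHo
    rw [hCH, S.card_C f] at hHc
    rw [hM, hMc, hCH]
    have hm6 : m ≤ 6 := Nat.le_of_dvd (by norm_num) hm
    interval_cases m <;> omega
  set NN := Subgroup.normalizer (Subgroup.zpowers s : Set G) with hNN
  have hCN : CC ≤ NN := fun c hc => mem_norm_zpowers.2 (by
    rw [(hcc.1 hc).eq, mul_inv_cancel_right]; exact Subgroup.mem_zpowers s)
  set C' := CC.subgroupOf NN with hC'
  set M' := H.subgroupOf NN with hM'
  haveI hC'n : C'.Normal := by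
    constructor
    intro c hc n
    rw [hC', Subgroup.mem_subgroupOf, hcc] at hc ⊢
    obtain ⟨i, hi⟩ := mem_norm_zpowers.1 (inv_mem n.2)
    have hi' : s ^ i = (n : G)⁻¹ * s * (n : G) := by
      have := hi
      rwa [inv_inv] at this
    have h2 := (Commute.conj_iff (n : G)).2 (hc.zpow_right i)
    rw [hi', show (n : G) * ((n : G)⁻¹ * s * n) * (n : G)⁻¹ = s by group] at h2
    simpa using h2
  have hsup : C' ⊔ M' = ⊤ := by
    refine eq_top_iff.2 fun n _ => ?_
    obtain ⟨i, hi⟩ := mem_norm_zpowers.1 (inv_mem n.2)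
    have hi' : s ^ i = (n : G)⁻¹ * s * (n : G) := by
      have := hi
      rwa [inv_inv] at this
    have hv : Commute ((n : G) * z * (n : G)⁻¹) s := by
      have h2 := (Commute.conj_iff (n : G)).2 (hsz.symm.zpow_right i)
      rwa [hi', show (n : G) * ((n : G)⁻¹ * s * n) * (n : G)⁻¹ = s by group] at h2
    have hvc : IsConj z (((⟨(n : G) * z * (n : G)⁻¹, hcc.2 hv⟩ : CC)) : G) := isConj_iff.2 ⟨n, rfl⟩
    obtain ⟨cbar, hc⟩ := isConj_iff.1 (hcl _ ⟨_, rfl, hvc⟩)
    obtain ⟨c, rfl⟩ := hsurj cbar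
    rw [← map_mul, ← map_inv, ← map_mul] at hc
    have hzc : IsConj z ((c * zC * c⁻¹ : CC) : G) := isConj_iff.2 ⟨(c : G), rfl⟩
    have e := congrArg Subtype.val (absorb (hconj2 hzc) (hconj2 hvc) (by norm_num) hc)
    have e' : (c : G) * z * (c : G)⁻¹ = (n : G) * z * (n : G)⁻¹ := e
    have hh : (c : G)⁻¹ * n ∈ H := Subgroup.mem_centralizer_singleton_iff.2 (mul_inv_eq_iff_eq_mul.1 (by
      rw [show (c : G)⁻¹ * n * z * ((c : G)⁻¹ * n)⁻¹ = (c : G)⁻¹ * ((n : G) * z * (n : G)⁻¹) * c by group, ← e']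
      group))
    have hn : n = ⟨c, hCN c.2⟩ * (⟨c, hCN c.2⟩⁻¹ * n) := by rw [mul_inv_cancel_left]
    rw [hn]
    exact Subgroup.mul_mem_sup (show (⟨(c : G), hCN c.2⟩ : NN) ∈ C' from Subgroup.mem_subgroupOf.2 c.2)
      (Subgroup.mem_subgroupOf.2 hh)
  have hNc : Nat.card NN = 2520 := by
    have h := Solv.card_sup_mul_card_inf C' M'
    rw [hsup, Subgroup.card_top] at h
    have h84 : Nat.card (C' ⊓ M' : Subgroup NN) = 84 := by
      rw [← (S.seven_cent f h7 h1 hsz).2]
      exact Nat.card_congr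
        { toFun := fun c => ⟨((c : NN) : G), c.2.2, c.2.1⟩
          invFun := fun r => ⟨⟨r, hCN r.2.2⟩, r.2.2, r.2.1⟩
          left_inv := fun _ => rfl
          right_inv := fun _ => rfl }
    have hM'c : Nat.card M' = 252 := by
      rw [← h252]
      refine Nat.card_congr
        { toFun := fun c => ⟨⟨((c : NN) : G), c.2⟩, mem_norm_zpowers.2 ?_⟩
          invFun := fun r => ⟨⟨((r : H) : G), mem_norm_zpowers.2 ?_⟩, (r : H).2⟩
          left_inv := fun _ => rfl
          right_inv := fun _ => rfl }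
      · obtain ⟨i, hi⟩ := mem_norm_zpowers.1 (c : NN).2
        exact ⟨i, Subtype.ext (by
          show ((sH : H) : G) ^ i = _
          exact hi)⟩
      · obtain ⟨i, hi⟩ := mem_norm_zpowers.1 r.2
        exact ⟨i, congrArg Subtype.val hi⟩
    rw [h84, Nat.card_congr (Subgroup.subgroupOfEquivOfLe hCN).toEquiv, h840, hM'c] at h
    omega
  refine ⟨h49, ⟨I.map CC.subtype, ?_, ?_, ?_, hiso⟩, h840, hNc⟩
  · exact Subgroup.map_subtype_le _
  · rw [Subgroup.eq_bot_iff_forall]
    rintro a ⟨ha, b, hb, rfl⟩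
    exact congrArg Subtype.val ((Subgroup.disjoint_def.1 hI.disjoint) (Subgroup.mem_subgroupOf.2 ha) hb)
  · refine le_antisymm (sup_le (Subgroup.zpowers_le.2 hsC) (Subgroup.map_subtype_le _)) fun a ha => ?_
    obtain ⟨⟨k, i⟩, hki⟩ := hI.surjective ⟨a, ha⟩
    have e : ((k : CC) : G) * ((i : CC) : G) = a := congrArg Subtype.val hki
    rw [← e]
    exact Subgroup.mul_mem_sup (Subgroup.mem_subgroupOf.1 k.2) ⟨i, i.2, rfl⟩

end Cfsg.Agent.Spor.JFour
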