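import Mathlib

/-!
The action on an elementary abelian subgroup of order eight as matrices.
-/

set_option autoImplicit false

namespace Cfsg.Agent.Spor.ElemEight

variable {G : Type*} [Group G]

theorem exists_rep [Finite G] {E : Subgroup G} (hcard : Nat.card E = 8) (hsq : ∀ e ∈ E, e * e = 1) {L : Subgroup G}
    (hL : ∀ l ∈ L, ∀ e ∈ E, l * e * l⁻¹ ∈ E) :
    ∃ ρ : L →* Matrix.SpecialLinearGroup (Fin 3) (ZMod 2), ∀ n : L, ρ n = 1 ↔ ∀ e ∈ E, Commute (n : G) e := by
  classical
  have hinv : ∀ e ∈ E, e⁻¹ = e := fun e he => inv_eq_of_mul_eq_one_right (hsq e he)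
  have hcomm : ∀ a ∈ E, ∀ b ∈ E, Commute a b := fun a ha b hb => by
    show a * b = b * a
    rw [← hinv _ (mul_mem ha hb), mul_inv_rev, hinv a ha, hinv b hb]
  have hne : ∀ S : Finset G, S.card < 8 → ∃ e ∈ E, e ∉ S := fun S hS => by
    by_contra hno
    push Not at hno
    have h := Set.ncard_le_ncard (show (E : Set G) ⊆ S from fun e he => hno e he) (Set.toFinite _)
    rw [← Nat.card_coe_set_eq, show Nat.card (E : Set G) = 8 from hcard, Set.ncard_coe_finset] at h
    omega
  obtain ⟨a, ha, ha'⟩ := hne {1} (by simp)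
  obtain ⟨b, hb, hb'⟩ := hne {1, a} (lt_of_le_of_lt (Finset.card_le_two) (by norm_num))
  obtain ⟨c, hc, hc'⟩ := hne {1, a, b, a * b} (lt_of_le_of_lt (Finset.card_le_four) (by norm_num))
  simp only [Finset.mem_insert, Finset.mem_singleton, not_or] at ha' hb' hc'
  set ev : (Fin 3 → ZMod 2) → G := fun u => a ^ (u 0).val * b ^ (u 1).val * c ^ (u 2).val with hev
  have hmem : ∀ u, ev u ∈ E := fun u => mul_mem (mul_mem (pow_mem ha _) (pow_mem hb _)) (pow_mem hc _)
  have hpow : ∀ e ∈ E, ∀ p q : ZMod 2, e ^ (p + q).val = e ^ p.val * e ^ q.val := by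
    intro e he p q
    rw [← pow_add, ZMod.val_add, ← pow_mod_orderOf e (p.val + q.val)]
    have hd : orderOf e ∣ 2 := orderOf_dvd_of_pow_eq_one (by rw [pow_two]; exact hsq e he)
    conv_lhs => rw [← pow_mod_orderOf, Nat.mod_mod_of_dvd _ hd]
  have hadd : ∀ u v, ev (u + v) = ev u * ev v := by
    intro u v
    simp only [hev, Pi.add_apply, hpow a ha, hpow b hb, hpow c hc]
    have c1 : Commute (a ^ (v 0).val) (b ^ (u 1).val) := (hcomm a ha b hb).pow_pow _ _
    have c2 : Commute (a ^ (v 0).val * b ^ (v 1).val) (c ^ (u 2).val) :=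
      ((hcomm a ha c hc).pow_pow _ _).mul_left ((hcomm b hb c hc).pow_pow _ _)
    calc a ^ (u 0).val * a ^ (v 0).val * (b ^ (u 1).val * b ^ (v 1).val) * (c ^ (u 2).val * c ^ (v 2).val)
        = a ^ (u 0).val * (a ^ (v 0).val * b ^ (u 1).val) * b ^ (v 1).val * c ^ (u 2).val * c ^ (v 2).val := by group
      _ = a ^ (u 0).val * (b ^ (u 1).val * a ^ (v 0).val) * b ^ (v 1).val * c ^ (u 2).val * c ^ (v 2).val := by
        rw [c1.eq]
      _ = a ^ (u 0).val * b ^ (u 1).val * ((a ^ (v 0).val * b ^ (v 1).val) * c ^ (u 2).val) * c ^ (v 2).val := by group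
      _ = a ^ (u 0).val * b ^ (u 1).val * (c ^ (u 2).val * (a ^ (v 0).val * b ^ (v 1).val)) * c ^ (v 2).val := by
        rw [c2.eq]
      _ = _ := by group
  have hker : ∀ u, ev u = 1 → u = 0 := by
    intro u hu
    have hcases : ∀ p : ZMod 2, p = 0 ∨ p = 1 := by decide
    have hcb : c ≠ b * a := fun e => hc'.2.2.2 (e.trans (hcomm b hb a ha).eq)
    have hv1 : (1 : ZMod 2).val = 1 := rfl
    have hv0 : (0 : ZMod 2).val = 0 := rfl
    simp only [hev] at hu
    have e3 : u = ![u 0, u 1, u 2] := by funext i; fin_cases i <;> rfl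
    rcases hcases (u 0) with e0 | e0 <;> rcases hcases (u 1) with e1 | e1 <;> rcases hcases (u 2) with e2 | e2 <;>
      simp only [e0, e1, e2, hv0, hv1, pow_zero, pow_one, one_mul, mul_one] at hu
    · funext i; fin_cases i <;> assumption
    · exact absurd hu hc'.1
    · exact absurd hu hb'.1
    · exact absurd (by rw [eq_inv_of_mul_eq_one_right hu, hinv b hb]) hc'.2.2.1
    · exact absurd hu ha'
    · exact absurd (by rw [eq_inv_of_mul_eq_one_right hu, hinv a ha]) hc'.2.1
    · exact absurd (by rw [eq_inv_of_mul_eq_one_right hu, hinv a ha]) hb'.2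
    · exact absurd (by rw [eq_inv_of_mul_eq_one_right hu, mul_inv_rev, hinv a ha, hinv b hb]) hcb
  have inj : Function.Injective ev := fun u v e => by
    have : ev (u + v) = 1 := by rw [hadd, e, hsq _ (hmem v)]
    have h := hker _ this
    funext i
    have h2 := congrFun h i
    exact (show ∀ p q : ZMod 2, p + q = 0 → p = q by decide) _ _ h2
  have surj : ∀ e ∈ E, ∃ u, ev u = e := by
    have hbij : Function.Bijective fun u => (⟨ev u, hmem u⟩ : E) :=
      (Nat.bijective_iff_injective_and_card _).2 ⟨fun u v e => inj (congrArg Subtype.val e), by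
        rw [hcard, Nat.card_eq_fintype_card]; rfl⟩
    exact fun e he => (hbij.2 ⟨e, he⟩).imp fun u h => congrArg Subtype.val h
  choose cf hcf using fun (n : L) (v : Fin 3 → ZMod 2) => surj _ (hL n n.2 _ (hmem v))
  let lin : L → ((Fin 3 → ZMod 2) →ₗ[ZMod 2] (Fin 3 → ZMod 2)) := fun n =>
    AddMonoidHom.toZModLinearMap 2
      { toFun := cf n
        map_zero' := inj (by rw [hcf, show ev 0 = 1 by simp [hev]]; group)
        map_add' := fun u v => inj (by rw [hcf, hadd, hadd, hcf, hcf, conj_mul]) }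
  have hlin : ∀ n v, lin n v = cf n v := fun _ _ => rfl
  have hmul : ∀ a b, lin (a * b) = (lin a).comp (lin b) := fun a b => LinearMap.ext fun v => by
    rw [LinearMap.comp_apply, hlin, hlin, hlin]
    refine inj ?_
    rw [hcf, hcf, hcf, Subgroup.coe_mul]
    group
  have hone : lin 1 = LinearMap.id := LinearMap.ext fun v => inj (by
    rw [hlin, hcf, OneMemClass.coe_one, one_mul, inv_one, mul_one]; rfl)
  have hdet : ∀ n, (LinearMap.toMatrix' (lin n)).det = 1 := by
    intro n
    refine (show ∀ p : ZMod 2, p ≠ 0 → p = 1 by decide) _ fun e => ?_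
    have h := congrArg Matrix.det (congrArg LinearMap.toMatrix' (hmul n n⁻¹))
    rw [mul_inv_cancel, hone, LinearMap.toMatrix'_id, LinearMap.toMatrix'_comp, Matrix.det_mul, Matrix.det_one,
      e, zero_mul] at h
    exact one_ne_zero h
  let ρ : L →* Matrix.SpecialLinearGroup (Fin 3) (ZMod 2) :=
    { toFun := fun n => ⟨LinearMap.toMatrix' (lin n), hdet n⟩
      map_one' := Subtype.ext (by show LinearMap.toMatrix' (lin 1) = 1; rw [hone, LinearMap.toMatrix'_id])
      map_mul' := fun a b => Subtype.ext (by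
        show LinearMap.toMatrix' (lin (a * b)) = LinearMap.toMatrix' (lin a) * LinearMap.toMatrix' (lin b)
        rw [hmul, LinearMap.toMatrix'_comp]) }
  refine ⟨ρ, fun n => ⟨fun h e he => ?_, fun h => ?_⟩⟩
  · have hid : lin n = LinearMap.id := LinearMap.toMatrix'.injective (by
      rw [LinearMap.toMatrix'_id]; exact congrArg Subtype.val h)
    obtain ⟨v, rfl⟩ := surj e he
    refine mul_inv_eq_iff_eq_mul.1 ?_
    rw [← hcf, ← hlin, hid]; rfl
  · refine Subtype.ext ?_
    show LinearMap.toMatrix' (lin n) = 1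
    rw [← LinearMap.toMatrix'_id]
    refine congrArg _ (LinearMap.ext fun v => inj ?_)
    rw [hlin, hcf, LinearMap.id_apply, (h _ (hmem v)).eq, mul_inv_cancel_right]

end Cfsg.Agent.Spor.ElemEight
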