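import Cfsg.Agent.Lib.Spor.JFourLoc.Local
import Cfsg.Agent.Lib.Spor.JFourLoc.ElemEight
import Cfsg.Agent.Lib.Spor.TransvectionLarge

/-!
The structure of the centraliser and normaliser of an element of order five.
-/

set_option autoImplicit false
set_option maxRecDepth 100000
set_option linter.unusedSectionVars false

namespace Cfsg.Agent.Spor.JFour

attribute [local irreducible] Gam Kp Chk.app

universe u

theorem card_SLthree : Nat.card (Matrix.SpecialLinearGroup (Fin 3) (ZMod 2)) = 168 := by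
  rw [← Nat.card_congr (TransLarge.glEquivSL 3).toEquiv, Matrix.card_GL_field, Fin.prod_univ_three, ZMod.card]
  norm_num

theorem sq_pow_five {H : Type*} [Group H] {p d : H} (hd : d * p * d⁻¹ = p ^ 2) :
    ∀ i j : ℕ, d ^ j * p ^ i = p ^ (i * 2 ^ j) * d ^ j
  | i, 0 => by simp
  | i, j + 1 => by
    have h1 : d * p ^ (i * 2 ^ j) = p ^ (i * 2 ^ (j + 1)) * d := by
      rw [← mul_inv_eq_iff_eq_mul, ← conj_pow, hd, ← pow_mul]
      congr 1
      rw [pow_succ]; ring
    calc d ^ (j + 1) * p ^ i = d * (d ^ j * p ^ i) := by rw [pow_succ', mul_assoc]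
      _ = d * p ^ (i * 2 ^ j) * d ^ j := by rw [sq_pow_five hd i j]; group
      _ = _ := by rw [h1, mul_assoc, ← pow_succ' d j]

variable {G : Type u} [Group G] [Finite G] {z : G} {Q N : Subgroup G} {x : G}
variable (S : Big z Q N x) (f : Frame z Q x)

/-- the data of an element of order five -/
structure FiveTop (z : G) (Q : Subgroup G) (p : G) (E J : Subgroup G) (d : G) : Prop where
  loc : FiveLocal z Q p E
  n25 : ¬ 25 ∣ Nat.card G
  EJ : E ≤ J
  JC : ∀ j ∈ J, Commute j p
  cardJ : Nat.card J = 1344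
  split : ∀ c, Commute c p → ∃ i : ℕ, ∃ j ∈ J, c = p ^ i * j
  disj : ∀ i : ℕ, p ^ i ∈ J → p ^ i = 1
  ker : ∀ j ∈ J, (∀ e ∈ E, Commute j e) → j ∈ E
  dp : d * p * d⁻¹ = p ^ 2
  dE : ∀ e ∈ E, Commute d e
  d4 : d ^ 4 = 1
  cardN : Nat.card (Subgroup.normalizer (Subgroup.zpowers p : Set G)) = 4 * 6720
  quot : ∃ (_ : (E.subgroupOf J).Normal), Nonempty (↥J ⧸ E.subgroupOf J ≃* Matrix.SpecialLinearGroup (Fin 3) (ZMod 2))
  nonsplit : ∀ K : Subgroup J, ¬ (E.subgroupOf J).IsComplement' K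

include S f

theorem Big.five_top {p : G} (h5 : p ^ 5 = 1) (h1 : p ≠ 1) (hpz : Commute p z) :
    ∃ E J d, FiveTop z Q p E J d := by
  classical
  haveI : Fact (Nat.Prime 5) := ⟨by norm_num⟩
  haveI : Fact (Nat.Prime 3) := ⟨Nat.prime_three⟩
  haveI : Fact (Nat.Prime 2) := ⟨Nat.prime_two⟩
  obtain ⟨E, L⟩ := S.five_local f h5 h1 hpz
  have C := L.ctx
  have ho : orderOf p = 5 := orderOf_eq_prime h5 h1
  set P := Subgroup.zpowers p with hP
  set CC := Subgroup.centralizer ({p} : Set G) with hCC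
  have hcc : ∀ {c}, c ∈ CC ↔ Commute c p := fun {c} => Subgroup.mem_centralizer_singleton_iff
  have hcardC : Nat.card CC = 6720 := L.cardC
  have hEcomm : ∀ a ∈ E, ∀ b ∈ E, Commute a b := fun a ha b hb => by
    have hi : ∀ e ∈ E, e⁻¹ = e := fun e he => inv_eq_of_mul_eq_one_right (C.sq e he)
    show a * b = b * a
    rw [← hi _ (mul_mem ha hb), mul_inv_rev, hi a ha, hi b hb]
  have hpow5 : ∀ i : ℕ, (p ^ i) ^ 5 = 1 := fun i => by rw [← pow_mul, mul_comm, pow_mul, h5, one_pow]
  have h5' : ∀ {a : G} {n : ℕ}, a ^ 5 = 1 → a ^ n = 1 → Nat.Coprime 5 n → a = 1 := fun {a n} e e' hc => by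
    have := pow_gcd_eq_one.2 ⟨e, e'⟩
    rwa [hc, pow_one] at this
  -- the Sylow subgroup
  have hn25 : ¬ 25 ∣ Nat.card G := by
    intro h
    obtain ⟨K, hK, hPK⟩ := Sylow.exists_subgroup_card_pow_succ (p := 5) (n := 1) h (H := P)
      (by rw [hP, Nat.card_zpowers, ho, pow_one])
    have hcomm : ∀ a ∈ K, Commute a p := fun a ha => by
      letI := IsPGroup.commGroupOfCardEqPrimeSq (p := 5) (G := K) hK
      exact congrArg Subtype.val (mul_comm (G := K) ⟨a, ha⟩ ⟨p, hPK (Subgroup.mem_zpowers p)⟩)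
    have hd := Subgroup.card_dvd_of_le (show K ≤ CC from fun a ha => hcc.2 (hcomm a ha))
    rw [hK, hcardC] at hd
    norm_num at hd
  -- the normaliser
  set NP := Subgroup.normalizer (P : Set G) with hNP
  have hNPmem : ∀ n ∈ NP, ∃ k : ℕ, n * p * n⁻¹ = p ^ k := fun n hn => by
    have hm : n * p * n⁻¹ ∈ P := (Subgroup.mem_normalizer_iff.1 hn p).1 (Subgroup.mem_zpowers p)
    obtain ⟨k, hk⟩ := (mem_powers_iff_mem_zpowers (x := p)).2 hm
    exact ⟨k, hk.symm⟩
  have hNE : ∀ n ∈ NP, ∀ e ∈ E, n * e * n⁻¹ ∈ E := by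
    intro n hn e he
    refine (L.iff _).2 ?_
    rcases (L.iff e).1 he with rfl | ⟨hez, hep⟩
    · exact Or.inl (by group)
    refine Or.inr ⟨hez.trans (isConj_iff.2 ⟨n, rfl⟩), ?_⟩
    obtain ⟨k, hk⟩ := hNPmem n⁻¹ (inv_mem hn)
    have := (Commute.conj_iff n).2 (hep.pow_right k)
    rwa [← hk, show n * (n⁻¹ * p * n⁻¹⁻¹) * n⁻¹ = p by group] at this
  obtain ⟨ρ, hρ⟩ := ElemEight.exists_rep C.card C.sq hNE
  have hCN : CC ≤ NP := fun c hc => Subgroup.mem_normalizer_iff.2 fun a => by
    have hc' : Commute c p := hcc.1 hc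
    constructor
    · rintro ⟨i, rfl⟩
      exact ⟨i, by show p ^ i = c * p ^ i * c⁻¹; rw [(hc'.zpow_right i).eq, mul_inv_cancel_right]⟩
    · rintro ⟨i, hi⟩
      refine ⟨i, ?_⟩
      show p ^ i = a
      have hi' : p ^ i = c * a * c⁻¹ := hi
      rw [show a = c⁻¹ * (c * a * c⁻¹) * c by group, ← hi', mul_assoc, ← (hc'.zpow_right i).eq, inv_mul_cancel_left]
  let ρC : CC →* Matrix.SpecialLinearGroup (Fin 3) (ZMod 2) := ρ.comp (Subgroup.inclusion hCN)
  have hkerC : ∀ {c}, Commute c p → (∀ e ∈ E, Commute c e) → ∃ i : ℕ, ∃ e ∈ E, c = p ^ i * e := fun {c} hc hE =>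
    C.cent c (hE z C.zE) hc hE
  have hsurj : Function.Surjective ρC := by
    have hk : Nat.card ρC.ker ≤ 40 := by
      refine (Nat.card_le_card_of_surjective (fun t : Fin 5 × E => (⟨⟨p ^ t.1.val * (t.2 : G),
        hcc.2 (((Commute.refl p).pow_left _).mul_left (C.com _ t.2.2))⟩, MonoidHom.mem_ker.2 ((hρ _).2 fun e he =>
          (((C.com e he).symm).pow_left _).mul_left (hEcomm _ t.2.2 e he))⟩ : ρC.ker)) ?_).trans (le_of_eq ?_)
      · rintro ⟨⟨c, hc⟩, hk⟩
        obtain ⟨i, e, he, rfl⟩ := hkerC (hcc.1 hc) ((hρ _).1 (MonoidHom.mem_ker.1 hk))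
        refine ⟨(⟨i % 5, Nat.mod_lt _ (by norm_num)⟩, ⟨e, he⟩), Subtype.ext (Subtype.ext ?_)⟩
        show p ^ (i % 5) * e = p ^ i * e
        rw [← ho, pow_mod_orderOf]
      · rw [Nat.card_prod, Nat.card_fin, C.card]
    have h := Subgroup.card_eq_card_quotient_mul_card_subgroup ρC.ker
    rw [hcardC, Nat.card_congr (QuotientGroup.quotientKerEquivRange ρC).toEquiv] at h
    refine MonoidHom.range_eq_top.1 (Subgroup.eq_top_of_le_card _ ?_)
    rw [card_SLthree]
    nlinarith [Nat.mul_le_mul_left (Nat.card ρC.range) hk]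
  -- the complement
  haveI hPn : (P.subgroupOf CC).Normal := ⟨fun a ha g => by
    obtain ⟨i, hi⟩ := Subgroup.mem_subgroupOf.1 ha
    have hi' : p ^ i = (a : G) := hi
    refine Subgroup.mem_subgroupOf.2 ⟨i, ?_⟩
    show p ^ i = (g : G) * a * (g : G)⁻¹
    rw [← hi', ((hcc.1 g.2).zpow_right i).eq, mul_inv_cancel_right]⟩
  have hPle : P ≤ CC := Subgroup.zpowers_le.2 (hcc.2 (Commute.refl p))
  have hcardP : Nat.card (P.subgroupOf CC) = 5 := by
    rw [Nat.card_congr (Subgroup.subgroupOfEquivOfLe hPle).toEquiv, hP, Nat.card_zpowers, ho]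
  obtain ⟨J', hJ'⟩ := Subgroup.exists_right_complement'_of_coprime (N := P.subgroupOf CC) (by
    have := Subgroup.card_mul_index (P.subgroupOf CC)
    rw [hcardP, hcardC] at this
    rw [hcardP, show (P.subgroupOf CC).index = 1344 by omega]
    norm_num)
  set J := J'.map CC.subtype with hJ
  have hcardJ : Nat.card J = 1344 := by
    have := hJ'.card_mul
    rw [hcardP, hcardC] at this
    rw [hJ, Subgroup.card_subtype]
    omega
  have hJC : ∀ j ∈ J, Commute j p := by
    rintro _ ⟨j, -, rfl⟩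
    exact hcc.1 j.2
  have hdisj : ∀ i : ℕ, p ^ i ∈ J → p ^ i = 1 := by
    rintro i ⟨j, hj, e⟩
    have hjP : j ∈ P.subgroupOf CC := by
      refine Subgroup.mem_subgroupOf.2 ?_
      show (CC.subtype j : G) ∈ P
      rw [e]; exact pow_mem (Subgroup.mem_zpowers p) i
    have h0 := Subgroup.disjoint_def.1 hJ'.disjoint hjP hj
    rw [← e, h0]; rfl
  have hsplit : ∀ c, Commute c p → ∃ i : ℕ, ∃ j ∈ J, c = p ^ i * j := by
    intro c hc
    obtain ⟨⟨a, b⟩, hab⟩ := hJ'.2 ⟨c, hcc.2 hc⟩
    obtain ⟨i, hi⟩ := (mem_powers_iff_mem_zpowers (x := p)).2 (Subgroup.mem_subgroupOf.1 a.2)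
    refine ⟨i, ((b : CC) : G), ⟨b, b.2, rfl⟩, ?_⟩
    have e : ((a : CC) : G) * ((b : CC) : G) = c := congrArg Subtype.val hab
    rw [← e]; exact congrArg (· * _) hi.symm
  have hJn : ∀ c, Commute c p → ∀ j ∈ J, c * j * c⁻¹ ∈ J := by
    intro c hc j hj
    obtain ⟨i, k, hk, rfl⟩ := hsplit c hc
    have hkj : k * j * k⁻¹ ∈ J := mul_mem (mul_mem hk hj) (inv_mem hk)
    have hcm : Commute (p ^ i) (k * j * k⁻¹) := ((hJC _ hkj).symm).pow_left i
    rw [show p ^ i * k * j * (p ^ i * k)⁻¹ = p ^ i * (k * j * k⁻¹) * (p ^ i)⁻¹ by group, hcm.eq, mul_inv_cancel_right]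
    exact hkj
  have hcop : ∀ {c}, Commute c p → ∀ {n : ℕ}, c ^ n ∈ J → Nat.Coprime 5 n → c ∈ J := by
    intro c hc n hn hn5
    obtain ⟨i, j, hj, rfl⟩ := hsplit c hc
    rw [(((hJC j hj).symm).pow_left i).mul_pow, Subgroup.mul_mem_cancel_right J (pow_mem hj n), ← pow_mul] at hn
    have h0 := hdisj _ hn
    rw [pow_mul] at h0
    rw [h5' (hpow5 i) h0 hn5, one_mul]
    exact hj
  have hEJ : E ≤ J := fun e he => hcop (C.com e he) (n := 2) (by rw [pow_two, C.sq e he]; exact one_mem J) (by norm_num)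
  have hker : ∀ j ∈ J, (∀ e ∈ E, Commute j e) → j ∈ E := by
    intro j hj hE
    obtain ⟨i, e, he, rfl⟩ := hkerC (hJC j hj) hE
    rw [Subgroup.mul_mem_cancel_right J (hEJ he)] at hj
    rw [hdisj i hj, one_mul]
    exact he
  let ρJ : J →* Matrix.SpecialLinearGroup (Fin 3) (ZMod 2) :=
    ρC.comp (Subgroup.inclusion (fun j hj => hcc.2 (hJC j hj)))
  have hJs : Function.Surjective ρJ := by
    intro s
    obtain ⟨c, hc⟩ := hsurj s
    obtain ⟨i, j, hj, hij⟩ := hsplit c (hcc.1 c.2)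
    refine ⟨⟨j, hj⟩, ?_⟩
    have e : c = ⟨p ^ i, hcc.2 ((Commute.refl p).pow_left i)⟩ * ⟨j, hcc.2 (hJC j hj)⟩ := Subtype.ext hij
    rw [← hc, e, map_mul, show ρC ⟨p ^ i, hcc.2 ((Commute.refl p).pow_left i)⟩ = 1 from
      (hρ _).2 fun e' he' => ((C.com e' he').symm).pow_left i, one_mul]
    rfl
  have hkerJ : ρJ.ker = E.subgroupOf J := by
    ext j
    rw [MonoidHom.mem_ker, Subgroup.mem_subgroupOf]
    exact ⟨fun h => hker j j.2 ((hρ _).1 h), fun h => (hρ _).2 fun e he => hEcomm _ h e he⟩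
  have hquot : ∃ (_ : (E.subgroupOf J).Normal),
      Nonempty (↥J ⧸ E.subgroupOf J ≃* Matrix.SpecialLinearGroup (Fin 3) (ZMod 2)) := by
    haveI hn : (E.subgroupOf J).Normal := hkerJ ▸ MonoidHom.normal_ker ρJ
    exact ⟨hn, ⟨(QuotientGroup.quotientMulEquivOfEq hkerJ.symm).trans
      (QuotientGroup.quotientKerEquivOfSurjective ρJ hJs)⟩⟩
  -- no complement
  have hns : ∀ K : Subgroup J, ¬ (E.subgroupOf J).IsComplement' K := by
    intro K' hK'
    set K := K'.map J.subtype with hK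
    have hKJ : K ≤ J := Subgroup.map_subtype_le K'
    have hKE : ∀ a ∈ K, a ∈ E → a = 1 := by
      rintro _ ⟨a, ha, rfl⟩ haE
      rw [Subgroup.disjoint_def.1 hK'.disjoint (Subgroup.mem_subgroupOf.2 haE) ha, map_one]
    have hdec : ∀ j ∈ J, ∃ e ∈ E, ∃ k ∈ K, j = e * k := fun j hj => by
      obtain ⟨⟨a, b⟩, hab⟩ := hK'.2 ⟨j, hj⟩
      exact ⟨((a : J) : G), Subgroup.mem_subgroupOf.1 a.2, ((b : J) : G), ⟨b, b.2, rfl⟩, (congrArg Subtype.val hab).symm⟩
    have huniq : ∀ {e e' k k'}, e ∈ E → e' ∈ E → k ∈ K → k' ∈ K → e * k = e' * k' → e = e' ∧ k = k' := by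
      intro e e' k k' he he' hk hk' h
      have h2 : e'⁻¹ * e = k' * k⁻¹ := by
        rw [eq_mul_inv_iff_mul_eq, mul_assoc, h, inv_mul_cancel_left]
      have := hKE _ (mul_mem hk' (inv_mem hk)) (h2 ▸ mul_mem (inv_mem he') he)
      have hkk : k' = k := mul_inv_eq_one.1 this
      subst hkk
      exact ⟨mul_right_cancel h, rfl⟩
    set D := K ⊓ Subgroup.centralizer ({z} : Set G) with hD
    have hDz : ∀ a ∈ D, Commute a z := fun a ha => Subgroup.mem_centralizer_singleton_iff.1 ha.2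
    have hDp : ∀ a ∈ D, Commute a p := fun a ha => hJC a (hKJ ha.1)
    set H0 : Subgroup G := Subgroup.centralizer ({z} : Set G) ⊓ Subgroup.centralizer ({p} : Set G) with hH0
    have hD24 : Nat.card D = 24 := by
      have hb : Nat.card ((Fin 5 × E) × D) = Nat.card H0 := by
        refine Nat.card_eq_of_bijective (fun t => ⟨p ^ t.1.1.val * ((t.1.2 : G) * (t.2 : G)),
          Subgroup.mem_centralizer_singleton_iff.2 ((hpz.pow_left _).mul_left
            ((hEcomm _ t.1.2.2 z C.zE).mul_left (hDz _ t.2.2))).eq,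
          Subgroup.mem_centralizer_singleton_iff.2 (((Commute.refl p).pow_left _).mul_left
            ((C.com _ t.1.2.2).mul_left (hDp _ t.2.2))).eq⟩) ⟨?_, ?_⟩
        · rintro ⟨⟨i, e⟩, k⟩ ⟨⟨i', e'⟩, k'⟩ h
          have h' : p ^ i.val * ((e : G) * (k : G)) = p ^ i'.val * ((e' : G) * (k' : G)) := congrArg Subtype.val h
          have hi : p ^ i.val = p ^ i'.val := by
            rcases le_total i.val i'.val with hle | hle
            · have := hdisj (i'.val - i.val) (by
                rw [← Nat.add_sub_cancel' hle, pow_add, mul_assoc, mul_left_cancel_iff] at h'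
                have h2 : p ^ (i'.val - i.val) = (e : G) * (k : G) * ((e' : G) * (k' : G))⁻¹ := by rw [h']; group
                rw [h2]
                exact mul_mem (mul_mem (hEJ e.2) (hKJ k.2.1)) (inv_mem (mul_mem (hEJ e'.2) (hKJ k'.2.1))))
              conv_rhs => rw [← Nat.add_sub_cancel' hle, pow_add, this, mul_one]
            · have := hdisj (i.val - i'.val) (by
                rw [← Nat.add_sub_cancel' hle, pow_add, mul_assoc, mul_left_cancel_iff] at h'
                have h2 : p ^ (i.val - i'.val) = (e' : G) * (k' : G) * ((e : G) * (k : G))⁻¹ := by rw [← h']; group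
                rw [h2]
                exact mul_mem (mul_mem (hEJ e'.2) (hKJ k'.2.1)) (inv_mem (mul_mem (hEJ e.2) (hKJ k.2.1))))
              conv_lhs => rw [← Nat.add_sub_cancel' hle, pow_add, this, mul_one]
          rw [hi, mul_left_cancel_iff] at h'
          obtain ⟨he, hk⟩ := huniq e.2 e'.2 k.2.1 k'.2.1 h'
          rw [pow_eq_pow_iff_modEq, ho] at hi
          have := Nat.ModEq.eq_of_lt_of_lt hi i.2 i'.2
          rw [Fin.ext this, Subtype.ext he, Subtype.ext hk]
        · rintro ⟨c, hcz, hcp⟩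
          have hcz' : Commute c z := Subgroup.mem_centralizer_singleton_iff.1 hcz
          obtain ⟨i, j, hj, rfl⟩ := hsplit c (Subgroup.mem_centralizer_singleton_iff.1 hcp)
          obtain ⟨e, he, k, hk, rfl⟩ := hdec j hj
          have hkz : Commute k z := by
            have h2 := ((hpz.pow_left i).inv_left).mul_left hcz'
            rw [inv_mul_cancel_left] at h2
            have h3 := ((hEcomm e he z C.zE).inv_left).mul_left h2
            rwa [inv_mul_cancel_left] at h3
          refine ⟨((⟨i % 5, Nat.mod_lt _ (by norm_num)⟩, ⟨e, he⟩),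
            ⟨k, hk, Subgroup.mem_centralizer_singleton_iff.2 hkz.eq⟩), Subtype.ext ?_⟩
          show p ^ (i % 5) * (e * k) = p ^ i * (e * k)
          rw [← ho, pow_mod_orderOf]
      rw [Nat.card_prod, Nat.card_prod, Nat.card_fin, C.card, C.cardH] at hb
      omega
    have hqJ : ∀ a ∈ Q, Commute a p → a ∈ J := fun a ha hap => by
      refine hcop hap (n := 4) ?_ (by norm_num)
      have h0 : f.vec (a * a) = f.vec 1 := by rw [f.vec_mul a ha a ha, v6_two, f.vec_one S.base]
      rcases (f.vec_eq (a * a) (mul_mem ha ha) 1 (one_mem Q)).1 h0 with e | e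
      · rw [show a ^ 4 = (a * a) * (a * a) by rw [show (4 : ℕ) = 2 + 2 from rfl, pow_add, pow_two], ← e, one_mul]
        exact one_mem J
      · have e' : a * a = z := by
          have := congrArg (· * z) e
          simp only [one_mul, mul_assoc, S.base.ord.xt.sq, mul_one] at this
          exact this.symm
        rw [show a ^ 4 = (a * a) * (a * a) by rw [show (4 : ℕ) = 2 + 2 from rfl, pow_add, pow_two], e', S.base.ord.xt.sq]
        exact one_mem J
    set T0 := K ⊓ Q with hT0
    have hT0D : T0 ≤ D := fun a ha => ⟨ha.1, Subgroup.mem_centralizer_singleton_iff.2 (S.base.ord.qz ha.2).eq⟩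
    have hT04 : Nat.card T0 = 4 := by
      have hb : Nat.card (E × T0) = Nat.card (Q ⊓ Subgroup.centralizer ({p} : Set G) : Subgroup G) := by
        refine Nat.card_eq_of_bijective (fun t => ⟨(t.1 : G) * (t.2 : G), mul_mem (C.EQ t.1.2) t.2.2.2,
          Subgroup.mem_centralizer_singleton_iff.2 ((C.com _ t.1.2).mul_left (hJC _ (hKJ t.2.2.1))).eq⟩) ⟨?_, ?_⟩
        · rintro ⟨e, k⟩ ⟨e', k'⟩ h
          obtain ⟨he, hk⟩ := huniq e.2 e'.2 k.2.1 k'.2.1 (congrArg Subtype.val h)
          rw [Subtype.ext he, Subtype.ext hk]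
        · rintro ⟨c, hcQ, hcp⟩
          obtain ⟨e, he, k, hk, rfl⟩ := hdec c (hqJ c hcQ (Subgroup.mem_centralizer_singleton_iff.1 hcp))
          exact ⟨(⟨e, he⟩, ⟨k, hk, (Subgroup.mul_mem_cancel_left Q (C.EQ he)).1 hcQ⟩), rfl⟩
      rw [Nat.card_prod, C.card, C.cardR] at hb
      omega
    have hT0sq : ∀ a ∈ T0, a * a = 1 := fun a ha => by
      have h0 : f.vec (a * a) = f.vec 1 := by rw [f.vec_mul a ha.2 a ha.2, v6_two, f.vec_one S.base]
      rcases (f.vec_eq (a * a) (mul_mem ha.2 ha.2) 1 (one_mem Q)).1 h0 with e | e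
      · exact e.symm
      · have e' : a * a = z := by
          have := congrArg (· * z) e
          simp only [one_mul, mul_assoc, S.base.ord.xt.sq, mul_one] at this
          exact this.symm
        exact absurd (hKE z (e' ▸ mul_mem ha.1 ha.1) C.zE) S.base.ord.xt.ne
    have hT0n : ∀ g ∈ D, ∀ a ∈ T0, g * a * g⁻¹ ∈ T0 := fun g hg a ha =>
      ⟨K.mul_mem (K.mul_mem hg.1 ha.1) (K.inv_mem hg.1), S.base.ord.normQ g (hDz g hg) a ha.2⟩
    -- elements of the part in the kernel commute with no element of order three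
    have hnoC : ∀ a ∈ T0, a ≠ 1 → ∀ b ∈ D, orderOf b = 3 → ¬ Commute a b := by
      intro a ha a1 b hb hb3 hab
      have := S.invol_cent f (Or.inl rfl) hb3 h5 h1 (hDp b hb) (hT0sq a ha) a1 hab (hDp a (hT0D ha))
      exact a1 (hKE a ha.1 ((L.iff a).2 (Or.inr ⟨this, hDp a (hT0D ha)⟩)))
    obtain ⟨c, hc⟩ := exists_prime_orderOf_dvd_card' (G := D) 3 (by rw [hD24]; norm_num)
    have hc3 : orderOf (c : G) = 3 := by rw [Subgroup.orderOf_coe, hc]
    let P3 : Sylow 3 D := Sylow.ofCard (Subgroup.zpowers c) (by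
      rw [Nat.card_zpowers, hc, hD24, show (24 : ℕ) = 3 ^ 1 * 8 from rfl, Nat.factorization_mul (by norm_num) (by norm_num),
        Finsupp.add_apply, Nat.Prime.factorization_pow Nat.prime_three, Finsupp.single_eq_same,
        Nat.factorization_eq_zero_of_not_dvd (show ¬ 3 ∣ 8 by norm_num), add_zero, pow_one])
    set M := Subgroup.normalizer ((P3 : Subgroup D) : Set D) with hM
    obtain ⟨t, ht⟩ := exists_prime_orderOf_dvd_card' (G := M) 2 (by
      have h3 : 3 ∣ Nat.card M := by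
        have := Subgroup.card_dvd_of_le (Subgroup.le_normalizer (H := (P3 : Subgroup D)))
        rwa [show Nat.card (P3 : Subgroup D) = 3 by rw [show (P3 : Subgroup D) = Subgroup.zpowers c from rfl,
          Nat.card_zpowers, hc]] at this
      have hidx := Subgroup.card_mul_index M
      have hn : Nat.card (Sylow 3 D) = M.index := Sylow.card_eq_index_normalizer P3
      rw [hD24, ← hn] at hidx
      have hmod := card_sylow_modEq_one 3 D
      unfold Nat.ModEq at hmod
      by_contra hodd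
      have hM24 : Nat.card M ∣ 24 := Dvd.intro _ hidx
      have hM3 : Nat.card M = 3 := (show ∀ m ∈ Nat.divisors 24, 3 ∣ m → ¬ 2 ∣ m → m = 3 by decide +kernel) _
        (Nat.mem_divisors.2 ⟨hM24, by norm_num⟩) h3 hodd
      rw [hM3] at hidx
      omega)
    set t' : D := (t : D) with ht'
    have ht2 : orderOf t' = 2 := by rw [ht', Subgroup.orderOf_coe, ht]
    have htt : (t' : G) * t' = 1 := by
      rw [← pow_two, ← ht2, ← Subgroup.orderOf_coe, pow_orderOf_eq_one]
    have ht1 : (t' : G) ≠ 1 := fun e => by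
      rw [← Subgroup.orderOf_coe, e, orderOf_one] at ht2; norm_num at ht2
    have htn : ∃ i : ℤ, (c : G) ^ i = (t' : G) * c * (t' : G)⁻¹ := by
      have := (Subgroup.mem_normalizer_iff.1 t.2 c).1 (Subgroup.mem_zpowers c)
      obtain ⟨i, hi⟩ := this
      exact ⟨i, congrArg Subtype.val hi⟩
    have htQ : (t' : G) ∉ Q := by
      intro hQ
      have htT : (t' : G) ∈ T0 := ⟨t'.2.1, hQ⟩
      refine hnoC _ htT ht1 c c.2 hc3 ?_
      set k := (t' : G) * c * (t' : G)⁻¹ * (c : G)⁻¹ with hk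
      have hkT : k ∈ T0 := by
        rw [hk, show (t' : G) * c * (t' : G)⁻¹ * (c : G)⁻¹ = t' * ((c : G) * (t' : G)⁻¹ * (c : G)⁻¹) by group]
        exact mul_mem htT (hT0n _ c.2 _ (inv_mem htT))
      obtain ⟨i, hi⟩ := htn
      have hk3 : k ^ 3 = 1 := by
        rw [hk, ← hi, ← zpow_sub_one, ← zpow_natCast, ← zpow_mul, mul_comm, zpow_mul, zpow_natCast, ← hc3,
          pow_orderOf_eq_one, one_zpow]
      have hk2 : k ^ 2 = 1 := by rw [pow_two]; exact hT0sq k hkT
      have hk1 : k = 1 := by rw [pow_succ, hk2, one_mul] at hk3; exact hk3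
      exact mul_inv_eq_iff_eq_mul.1 (mul_inv_eq_one.1 hk1)
    -- the subgroup over the central involution
    let T : Subgroup G :=
      { carrier := {a | a ∈ T0 ∨ a * z ∈ T0}
        one_mem' := Or.inl (one_mem _)
        mul_mem' := fun {a b} ha hb => by
          have hcz : ∀ {y}, y ∈ T0 ∨ y * z ∈ T0 → Commute y z := fun {y} hy => by
            rcases hy with h | h
            · exact S.base.ord.qz h.2
            · have := (S.base.ord.qz h.2).mul_left ((Commute.refl z).inv_left)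
              rwa [mul_inv_cancel_right] at this
          rcases ha with ha | ha <;> rcases hb with hb | hb
          · exact Or.inl (mul_mem ha hb)
          · exact Or.inr (by rw [mul_assoc]; exact mul_mem ha hb)
          · refine Or.inr ?_
            rw [mul_assoc, (hcz (Or.inl hb)).eq, ← mul_assoc]; exact mul_mem ha hb
          · refine Or.inl ?_
            have e : a * z * (b * z) = a * b := by
              rw [mul_assoc, ← mul_assoc z, ← (hcz (Or.inr hb)).eq, mul_assoc b, S.base.ord.xt.sq, mul_one]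
            exact e ▸ mul_mem ha hb
        inv_mem' := fun {a} ha => ha.imp inv_mem fun h => by
          have hzi : z⁻¹ = z := inv_eq_of_mul_eq_one_right S.base.ord.xt.sq
          have hcm : Commute (a * z) z := S.base.ord.qz h.2
          have e : a⁻¹ * z = (a * z)⁻¹ := by
            have haz : Commute a z := by
              have := hcm.mul_left ((Commute.refl z).inv_left)
              rwa [mul_inv_cancel_right] at this
            rw [mul_inv_rev, hzi, haz.inv_left.eq]
          show a⁻¹ * z ∈ T0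
          rw [e]; exact inv_mem h }
    have hzT0 : z ∉ T0 := fun h => S.base.ord.xt.ne (hKE z h.1 C.zE)
    have hTdec : ∀ a ∈ T, ∃ b ∈ T0, a = b ∨ a = b * z := by
      rintro a (h | h)
      · exact ⟨a, h, Or.inl rfl⟩
      · exact ⟨a * z, h, Or.inr (by rw [mul_assoc, S.base.ord.xt.sq, mul_one])⟩
    have hTc : ∀ a ∈ T, a ∈ Q ∧ Commute a p ∧ a * a = 1 := by
      intro a ha
      obtain ⟨b, hb, rfl | rfl⟩ := hTdec a ha
      · exact ⟨hb.2, hDp _ (hT0D hb), hT0sq _ hb⟩
      · refine ⟨mul_mem hb.2 S.base.ord.xt.mem, (hDp _ (hT0D hb)).mul_left hpz.symm, ?_⟩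
        rw [(S.base.ord.qz hb.2).symm.mul_mul_mul_comm, hT0sq _ hb, S.base.ord.xt.sq, one_mul]
    have hT8 : Nat.card T = 8 := by
      have hb : Nat.card (T0 × Bool) = Nat.card T := by
        refine Nat.card_eq_of_bijective (fun t => ⟨(t.1 : G) * (if t.2 then z else 1), ?_⟩) ⟨?_, ?_⟩
        · cases t.2
          · exact Or.inl (by simpa using t.1.2)
          · refine Or.inr ?_
            simp only [if_true, mul_assoc, S.base.ord.xt.sq, mul_one]
            exact t.1.2
        · rintro ⟨a, b⟩ ⟨a', b'⟩ h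
          have h' := congrArg Subtype.val h
          simp only at h'
          cases b <;> cases b' <;> simp only [if_true, Bool.false_eq_true, if_false, mul_one] at h'
          · rw [Subtype.ext h']
          · exact absurd (by rw [show z = (a' : G)⁻¹ * a by rw [h', inv_mul_cancel_left]]; exact mul_mem (inv_mem a'.2) a.2) hzT0
          · exact absurd (by rw [show z = (a : G)⁻¹ * a' by rw [← h', inv_mul_cancel_left]]; exact mul_mem (inv_mem a.2) a'.2) hzT0
          · rw [Subtype.ext (mul_right_cancel h')]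
        · rintro ⟨a, ha⟩
          obtain ⟨b, hb, rfl | rfl⟩ := hTdec a ha
          · exact ⟨(⟨a, hb⟩, false), Subtype.ext (mul_one a)⟩
          · exact ⟨(⟨b, hb⟩, true), Subtype.ext rfl⟩
      rw [Nat.card_prod, hT04, Nat.card_eq_fintype_card, Fintype.card_bool] at hb
      exact hb.symm
    have hTn : ∀ g ∈ D, ∀ a ∈ T, g * a * g⁻¹ ∈ T := by
      rintro g hg a (h | h)
      · exact Or.inl (hT0n g hg a h)
      · refine Or.inr ?_
        have e : g * a * g⁻¹ * z = g * (a * z) * g⁻¹ := by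
          rw [mul_assoc (g * a), ((hDz g hg).inv_left).eq]; group
        exact e ▸ hT0n g hg _ h
    refine C.nosplit T (fun a ha => (hTc a ha).1) (Or.inr (by rw [S.base.ord.xt.sq]; exact one_mem _)) hT8
      (fun a ha => (hTc a ha).2.2) (fun a ha => (hTc a ha).2.1) (fun a ha haE => ?_) c t' (hDz c c.2) (hDp c c.2) hc3
      (hDz _ t'.2) (hDp _ t'.2) htt htQ (hTn c c.2) (hTn t' t'.2)
    rcases ha with h | h
    · exact Or.inl (hKE a h.1 haE)
    · refine Or.inr ?_
      have := hKE _ h.1 (mul_mem haE C.zE)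
      rw [eq_inv_of_mul_eq_one_left this, inv_eq_of_mul_eq_one_right S.base.ord.xt.sq]
  -- the element acting on the subgroup of order five
  obtain ⟨c2, hc2z, hc2⟩ := C.sqr
  have hmul2 : ∀ {g : G}, g * p * g⁻¹ = p ^ 2 → g ∈ NP := fun {g} hg => by
    refine Subgroup.mem_normalizer_iff.2 fun a => ⟨?_, ?_⟩
    · rintro ⟨i, rfl⟩
      exact ⟨2 * i, by show p ^ (2 * i) = g * p ^ i * g⁻¹; rw [← conj_zpow, hg, ← zpow_natCast, ← zpow_mul]; norm_num⟩
    · rintro ⟨i, hi⟩
      refine ⟨3 * i, ?_⟩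
      have hi' : p ^ i = g * a * g⁻¹ := hi
      show p ^ (3 * i) = a
      have e : g * p ^ (3 * i) * g⁻¹ = p ^ i := by
        rw [← conj_zpow, hg, ← zpow_natCast, ← zpow_mul, show ((2 : ℕ) : ℤ) * (3 * i) = ((5 : ℕ) : ℤ) * i + i by push_cast; ring,
          zpow_add, zpow_mul, zpow_natCast, h5, one_zpow, one_mul]
      exact mul_left_cancel (mul_right_cancel (e.trans hi'))
  obtain ⟨j, hj⟩ := hsurj (ρ ⟨c2, hmul2 hc2⟩)
  set d := (j : G)⁻¹ * c2 with hd
  have hdp : d * p * d⁻¹ = p ^ 2 := by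
    rw [hd, show (j : G)⁻¹ * c2 * p * ((j : G)⁻¹ * c2)⁻¹ = (j : G)⁻¹ * (c2 * p * c2⁻¹) * j by group, hc2, mul_assoc,
      ← ((hcc.1 j.2).pow_right 2).eq, inv_mul_cancel_left]
  have hdE : ∀ e ∈ E, Commute d e := by
    refine (hρ ⟨d, hmul2 hdp⟩).1 ?_
    rw [show (⟨d, hmul2 hdp⟩ : NP) = (Subgroup.inclusion hCN j)⁻¹ * ⟨c2, hmul2 hc2⟩ from Subtype.ext rfl, map_mul,
      map_inv, show ρ (Subgroup.inclusion hCN j) = ρC j from rfl, hj, inv_mul_cancel]
  have hd4 : d ^ 4 = 1 := by
    have hd4p : Commute (d ^ 4) p := by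
      have h := sq_pow_five hdp 1 4
      rw [pow_one, show 1 * 2 ^ 4 = 5 * 3 + 1 from rfl, pow_add, pow_mul, h5, one_pow, one_mul, pow_one] at h
      exact h
    obtain ⟨i, e, he, hie⟩ := hkerC hd4p fun e he => (hdE e he).pow_left 4
    have hpi : p ^ i = 1 := by
      have hc : Commute d (p ^ i) := by
        have := (Commute.refl d).pow_right 4
        rw [hie] at this
        have := this.mul_right ((hdE e he).inv_right)
        rwa [mul_inv_cancel_right] at this
      have h := sq_pow_five hdp i 1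
      rw [pow_one, hc.eq, mul_left_inj, pow_one, pow_mul, pow_two, left_eq_mul] at h
      exact h
    rw [hpi, one_mul] at hie
    have hfix : ∀ c, Commute c p → c * e * c⁻¹ = e := by
      intro c hc
      have hu : Commute (d⁻¹ * (c * d * c⁻¹)) p ∧ ∀ e' ∈ E, Commute (d⁻¹ * (c * d * c⁻¹)) e' := by
        refine ⟨mul_inv_eq_iff_eq_mul.1 ?_, fun e' he' => ?_⟩
        · rw [show d⁻¹ * (c * d * c⁻¹) * p * (d⁻¹ * (c * d * c⁻¹))⁻¹ = d⁻¹ * (c * (d * (c⁻¹ * p * c) * d⁻¹) * c⁻¹) * d by
            group, show c⁻¹ * p * c = p by rw [mul_assoc, ← hc.eq, inv_mul_cancel_left], hdp,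
            (hc.pow_right 2).eq, mul_inv_cancel_right, ← hdp]
          group
        · refine ((hdE e' he').inv_left).mul_left ?_
          have := (Commute.conj_iff c).2 (hdE _ (L.normal c⁻¹ hc.inv_left e' he'))
          rwa [show c * (c⁻¹ * e' * c⁻¹⁻¹) * c⁻¹ = e' by group] at this
      obtain ⟨k, e', he', hk⟩ := hkerC hu.1 hu.2
      have hcd : c * d * c⁻¹ = d * p ^ k * e' := by rw [mul_assoc d, ← hk, mul_inv_cancel_left]
      set π := p ^ (3 * k) with hπ
      have hπd : π * d * π⁻¹ = d * p ^ k := by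
        rw [mul_inv_eq_iff_eq_mul]
        have h := sq_pow_five hdp (4 * k) 1
        rw [pow_one, pow_one, show 4 * k * 2 = 5 * k + 3 * k by ring, pow_add, pow_mul p 5 k, h5, one_pow, one_mul] at h
        rw [mul_assoc d, hπ, ← pow_add, show k + 3 * k = 4 * k by ring, h]
      have hde : Commute (d * p ^ k) e' := (hdE e' he').mul_left (((C.com e' he').symm).pow_left k)
      have : c * d ^ 4 * c⁻¹ = π * d ^ 4 * π⁻¹ := by
        rw [← conj_pow, hcd, hde.mul_pow, ← hπd, conj_pow, show e' ^ 4 = 1 by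
          rw [show e' ^ 4 = (e' * e') * (e' * e') by rw [show (4 : ℕ) = 2 + 2 from rfl, pow_add, pow_two], C.sq e' he', one_mul], mul_one]
      rw [hie] at this
      rw [this, (((C.com e he).symm).pow_left (3 * k)).eq, mul_inv_cancel_right]
    by_contra hne
    have e1 : e ≠ 1 := hie ▸ hne
    obtain ⟨c1, hc1, hz1⟩ := L.transE e he e1
    have hze : e = z := by
      have h := hfix c1⁻¹ hc1.inv_left
      rw [inv_inv, ← hz1] at h
      rw [← hz1, ← h]; group
    have hsub : (E : Set G) ⊆ {1, z} := fun w hw => by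
      rcases eq_or_ne w 1 with h | h
      · exact Or.inl h
      obtain ⟨c, hc, hcw⟩ := L.transE w hw h
      refine Or.inr ?_
      have := hfix c hc
      rw [hze, hcw] at this
      exact this
    have h8 := Set.ncard_le_ncard hsub (Set.toFinite _)
    rw [← Nat.card_coe_set_eq, show Nat.card (E : Set G) = 8 from C.card] at h8
    have h2 := Set.ncard_insert_le (1 : G) ({z} : Set G)
    rw [Set.ncard_singleton] at h2
    omega
  -- the normaliser
  have hcardN : Nat.card NP = 4 * 6720 := by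
    rw [← hcardC]
    have hdN : ∀ i : ℕ, d ^ i ∈ NP := fun i => pow_mem (hmul2 hdp) i
    have hdip : ∀ i : ℕ, d ^ i * p = p ^ (2 ^ i) * d ^ i := fun i => by
      have := sq_pow_five hdp 1 i
      rwa [pow_one, one_mul] at this
    have hb : Nat.card (Fin 4 × CC) = Nat.card NP := by
      refine Nat.card_eq_of_bijective (fun t => ⟨d ^ t.1.val * (t.2 : G), mul_mem (hdN _) (hCN t.2.2)⟩) ⟨?_, ?_⟩
      · rintro ⟨i, a⟩ ⟨i', a'⟩ h
        have h' : d ^ i.val * (a : G) = d ^ i'.val * (a' : G) := congrArg Subtype.val h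
        have hconj : ∀ (i : ℕ) (a : CC), d ^ i * (a : G) * p * (d ^ i * (a : G))⁻¹ = p ^ (2 ^ i) := fun i a => by
          rw [show d ^ i * (a : G) * p * (d ^ i * (a : G))⁻¹ = d ^ i * ((a : G) * p * (a : G)⁻¹) * (d ^ i)⁻¹ by group,
            (hcc.1 a.2).eq, mul_inv_cancel_right, hdip, mul_inv_cancel_right]
        have e := hconj i a
        rw [h', hconj, pow_eq_pow_iff_modEq, ho] at e
        have hii : i = i' := by
          revert e
          revert i i'
          intro i i'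
          intros
          rename_i e
          exact (show ∀ x y : Fin 4, Nat.ModEq 5 (2 ^ x.val) (2 ^ y.val) → x = y by decide) i i' e.symm
        subst hii
        rw [Subtype.ext (mul_left_cancel h')]
      · rintro ⟨n, hn⟩
        obtain ⟨k, hk⟩ := hNPmem n hn
        obtain ⟨i, hi⟩ : ∃ i : Fin 4, Nat.ModEq 5 (2 ^ i.val) k := by
          have hk5 : k % 5 ≠ 0 := fun h => h1 (by
            have : p ^ k = 1 := by rw [← pow_mod_orderOf, ho, h, pow_zero]
            rw [this] at hk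
            exact conj_eq_one_iff.1 hk)
          obtain ⟨i, hi⟩ := (show ∀ r : Fin 5, r.val ≠ 0 → ∃ i : Fin 4, 2 ^ i.val % 5 = r.val by decide)
            ⟨k % 5, Nat.mod_lt _ (by norm_num)⟩ hk5
          exact ⟨i, hi⟩
        refine ⟨(i, ⟨(d ^ i.val)⁻¹ * n, hcc.2 (mul_inv_eq_iff_eq_mul.1 ?_)⟩), Subtype.ext (mul_inv_cancel_left _ _)⟩
        have hki : p ^ k = p ^ (2 ^ i.val) := by rw [pow_eq_pow_iff_modEq, ho]; exact hi.symm
        rw [show (d ^ i.val)⁻¹ * n * p * ((d ^ i.val)⁻¹ * n)⁻¹ = (d ^ i.val)⁻¹ * (n * p * n⁻¹) * d ^ i.val by group,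
          hk, hki, mul_assoc, ← hdip, inv_mul_cancel_left]
    rw [← hb, Nat.card_prod, Nat.card_fin]
  exact ⟨E, J, d, L, hn25, hEJ, hJC, hcardJ, hsplit, hdisj, hker, hdp, hdE, hd4, hcardN, hquot, hns⟩

end Cfsg.Agent.Spor.JFour
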