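import Cfsg.Agent.Lib.Spor.JFourSylowDefs

/-!
Checks on the fixed vectors of an element of order five of the model and on an element of order seven.
-/

set_option autoImplicit false
set_option maxRecDepth 100000

namespace Cfsg.Agent.Spor.JFour.Chk

open Cfsg.Agent.Spor.CC Dat

/-- a fixed isotropic vector in the shorter orbit -/
def kE : ℕ := 1705

/-- a fixed isotropic vector in the longer orbit -/
def kF : ℕ := 1106

/-- word of an outer involution commuting with the element of order five -/
def wFive : List ℕ := [4, 2, 0, 2, 0, 2, 0, 2, 0, 2, 0, 2, 0, 2, 0]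

/-- word of an element of order seven -/
def wSeven : List ℕ := [2, 0, 2, 0, 2, 0]

/-- word of an outer involution commuting with it -/
def wSevenOut : List ℕ := [4, 0, 2, 0, 2, 1, 0, 0, 1, 2, 1, 0, 2, 2, 2]

/-- equal or a scalar multiple -/
def onLine (u k : ℕ) : Bool := Nat.beq u k || Nat.beq u (app cW k) || Nat.beq u (itr cW 2 k)

/-- one vector fixed by the element of order five -/
def fiveFixAt (T : List ℕ) (k : ℕ) : Bool :=
  !Nat.beq (app cD k) k ||
    ((!(isI k && isA k) || onLine k kE) &&
      ((bb k kE || bb k (app cW kE)) || (Nat.beq k 0 || onLine k kE)) &&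
      (!(isI k && !isA k) || !onLine (app T k) k))

/-- facts on the element of order five -/
def fiveLocOK : Bool :=
  let T := evC wFive
  ((List.range 4096).all (fiveFixAt T)) &&
    Nat.beq ((List.range 4096).filter fun k => Nat.beq (app cD k) k).length 16 &&
    Nat.beq (app cD kE) kE && isI kE && isA kE && Nat.beq (app cD kF) kF && isI kF && !isA kF &&
    leq (cmul T cD) (cmul cD T) && leq (cmul T T) idL && !leq (cmul T cW) (cmul cW T)

/-- facts on the element of order seven -/
def sevenOK : Bool :=
  let S := evC wSeven
  let T := evC wSevenOut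
  leq (cpow S 7) idL && !leq S idL && leq (cmul T S) (cmul S T) && leq (cmul T T) idL &&
    !leq (cmul T cW) (cmul cW T) && (List.range 4096).all fun k => !Nat.beq (app S k) k || Nat.beq k 0

theorem fiveLoc_ok : fiveLocOK = true := by decide +kernel

theorem seven_ok : sevenOK = true := by decide +kernel

end Cfsg.Agent.Spor.JFour.Chk
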