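import Cfsg.Agent.Lib.Spor.JFourLoc.Five
import Cfsg.Agent.Lib.Lead.PGV.TwoConf
import Cfsg.Agent.Lib.Char.ZStar
import Cfsg.Agent.S0209

/-!
The centraliser of an element of order five normalises an elementary abelian group of order eight.
-/

set_option autoImplicit false
set_option maxRecDepth 100000
set_option linter.unusedSectionVars false

namespace Cfsg.Agent.Spor.JFour

attribute [local irreducible] Gam Kp Chk.app

universe u

variable {G : Type u} [Group G] [Finite G] {z : G} {Q N : Subgroup G} {x : G}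

/-- what the centraliser of an element of order five looks like -/
structure FiveLocal (z : G) (Q : Subgroup G) (p : G) (E : Subgroup G) : Prop where
  ctx : FiveCtx z Q p E
  iff : ∀ e, e ∈ E ↔ e = 1 ∨ (IsConj z e ∧ Commute e p)
  normal : ∀ a, Commute a p → ∀ e ∈ E, a * e * a⁻¹ ∈ E
  transE : ∀ e ∈ E, e ≠ 1 → ∃ c, Commute c p ∧ c * z * c⁻¹ = e
  cardC : Nat.card (Subgroup.centralizer ({p} : Set G)) = 7 * 960

theorem exists_commuting {E : Subgroup G} (hcard : Nat.card E = 8) (hsq : ∀ e ∈ E, e * e = 1) {y : G}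
    (hy : y * y = 1) (hn : ∀ e ∈ E, y * e * y⁻¹ ∈ E) :
    4 ≤ Nat.card (E ⊓ Subgroup.centralizer ({y} : Set G) : Subgroup G) := by
  have hcomm : ∀ a ∈ E, ∀ b ∈ E, a * b = b * a := fun a ha b hb => by
    have h1 : ∀ e ∈ E, e⁻¹ = e := fun e he => inv_eq_of_mul_eq_one_right (hsq e he)
    rw [← h1 _ (mul_mem ha hb), mul_inv_rev, h1 a ha, h1 b hb]
  have hyi : y⁻¹ = y := inv_eq_of_mul_eq_one_right hy
  let φ : E →* E :=
    { toFun := fun e => ⟨(e : G) * (y * e * y⁻¹), mul_mem e.2 (hn e e.2)⟩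
      map_one' := Subtype.ext (by show (1 : G) * (y * 1 * y⁻¹) = 1; group)
      map_mul' := fun a b => Subtype.ext (by
        show (a : G) * b * (y * (a * b) * y⁻¹) = a * (y * a * y⁻¹) * (b * (y * b * y⁻¹))
        calc (a : G) * b * (y * (a * b) * y⁻¹) = a * (b * (y * a * y⁻¹)) * (y * b * y⁻¹) := by group
          _ = a * ((y * a * y⁻¹) * b) * (y * b * y⁻¹) := by rw [hcomm _ b.2 _ (hn a a.2)]
          _ = _ := by group) }
  have hk : Nat.card φ.ker = Nat.card (E ⊓ Subgroup.centralizer ({y} : Set G) : Subgroup G) :=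
    Nat.card_congr
      { toFun := fun e => ⟨((e : E) : G), (e : E).2, Subgroup.mem_centralizer_singleton_iff.2 (by
          have h : ((e : E) : G) * (y * (e : E) * y⁻¹) = 1 := congrArg Subtype.val (MonoidHom.mem_ker.1 e.2)
          have h2 := mul_left_cancel (h.trans (hsq _ (e : E).2).symm)
          exact (mul_inv_eq_iff_eq_mul.1 h2).symm)⟩
        invFun := fun e => ⟨⟨e, e.2.1⟩, MonoidHom.mem_ker.2 (Subtype.ext (by
          show (e : G) * (y * e * y⁻¹) = 1
          rw [← Subgroup.mem_centralizer_singleton_iff.1 e.2.2, mul_inv_cancel_right, hsq _ e.2.1]))⟩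
        left_inv := fun _ => rfl
        right_inv := fun _ => rfl }
  have hle : φ.range ≤ φ.ker := by
    rintro _ ⟨e, rfl⟩
    refine MonoidHom.mem_ker.2 (Subtype.ext ?_)
    show (e : G) * (y * e * y⁻¹) * (y * ((e : G) * (y * e * y⁻¹)) * y⁻¹) = 1
    have e1 : y * ((e : G) * (y * e * y⁻¹)) * y⁻¹ = (y * e * y⁻¹) * ((y * y) * e * (y * y)⁻¹) := by group
    rw [e1, hy, one_mul, inv_one, mul_one, ← hcomm _ e.2 _ (hn e e.2), hsq _ (mul_mem e.2 (hn e e.2))]
  have h := Subgroup.card_eq_card_quotient_mul_card_subgroup φ.ker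
  rw [hcard, Nat.card_congr (QuotientGroup.quotientKerEquivRange φ).toEquiv] at h
  rw [← hk]
  have := Subgroup.card_le_of_le hle
  by_contra hlt
  push Not at hlt
  have : Nat.card φ.range * Nat.card φ.ker ≤ 3 * 3 := Nat.mul_le_mul (by omega) (by omega)
  have hd : Nat.card φ.ker ∣ 8 := ⟨_, h.trans (mul_comm _ _)⟩
  have h12 : Nat.card φ.ker ≤ 2 := by
    rcases (show Nat.card φ.ker = 1 ∨ Nat.card φ.ker = 2 ∨ Nat.card φ.ker = 3 by
      have := Nat.card_pos (α := φ.ker); omega) with e | e | e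
    · omega
    · omega
    · rw [e] at hd; norm_num at hd
  have : Nat.card φ.range * Nat.card φ.ker ≤ 2 * 2 := Nat.mul_le_mul (by omega) h12
  omega

variable (S : Big z Q N x) (f : Frame z Q x)

include S f

theorem Big.five_local {p : G} (h5 : p ^ 5 = 1) (h1 : p ≠ 1) (hpz : Commute p z) :
    ∃ E, FiveLocal z Q p E := by
  classical
  haveI : Fact (Nat.Prime 5) := ⟨by norm_num⟩
  haveI : Fact (Nat.Prime 3) := ⟨Nat.prime_three⟩
  have hat : ∀ u, IsConj z u ∧ Commute u p → ∃ g E, g * z * g⁻¹ = u ∧ FiveCtx u (Qc Q g) p E := by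
    rintro u ⟨hu, hup⟩
    obtain ⟨g, rfl⟩ := isConj_iff.1 hu
    have hp' : Commute (g⁻¹ * p * g) z := by
      have := (Commute.conj_iff g⁻¹).2 hup.symm
      rwa [inv_inv, show g⁻¹ * (g * z * g⁻¹) * g = z by group] at this
    obtain ⟨E, C⟩ := S.five_ctx f (p := g⁻¹ * p * g) (by
        rw [show g⁻¹ * p * g = MulAut.conj g⁻¹ p by simp [mul_assoc], ← map_pow, h5, map_one])
      (fun e => h1 (by
        have e2 : p = g * (g⁻¹ * p * g) * g⁻¹ := by group
        rw [e2, e]; group)) hp'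
    have := C.conj g
    rw [show g * (g⁻¹ * p * g) * g⁻¹ = p by group] at this
    exact ⟨g, _, rfl, this⟩
  choose! gg EE hgg hctx using hat
  have hcls : ∀ {u}, IsConj z u ∧ Commute u p → ∀ {e}, e ∈ EE u → e ≠ 1 → IsConj z e ∧ Commute e p :=
    fun hu _ he e1 => ⟨hu.1.trans ((hctx _ hu).cls _ he e1), (hctx _ hu).com _ he⟩
  have hsame : ∀ {u}, IsConj z u ∧ Commute u p → ∀ {v}, v ∈ EE u → v ≠ 1 → EE v = EE u := by
    intro u hu v hv hv1
    rcases eq_or_ne v u with rfl | hne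
    · rfl
    have hvZ := hcls hu hv hv1
    have hsub : EE u ≤ EE v := by
      intro e he
      rcases eq_or_ne e 1 with rfl | e1
      · exact one_mem _
      have := (hctx u hu).ext (gg v * (gg u)⁻¹) v (by
        calc gg v * (gg u)⁻¹ * u * (gg v * (gg u)⁻¹)⁻¹
            = gg v * (gg u)⁻¹ * (gg u * z * (gg u)⁻¹) * (gg v * (gg u)⁻¹)⁻¹ := by rw [hgg u hu]
          _ = gg v * z * (gg v)⁻¹ := by group
          _ = v := hgg v hvZ) hv hne e he
      rw [Qc_Qc, inv_mul_cancel_right] at this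
      exact (hctx v hvZ).mem e (hvZ.1.symm.trans (hcls hu he e1).1) this ((hctx u hu).com e he)
    exact (Subgroup.eq_of_le_of_card_ge hsub (by rw [(hctx v hvZ).card, (hctx u hu).card])).symm
  have hsymm : ∀ {a y}, IsConj z a ∧ Commute a p → IsConj z y ∧ Commute y p → a ∈ EE y → y ∈ EE a := by
    intro a y ha hy h
    rcases eq_or_ne a 1 with rfl | a1
    · exact absurd (isConj_one_left.1 ha.1) S.base.ord.xt.ne
    rw [hsame hy h a1]
    exact (hctx y hy).zE
  have hne1 : ∀ {u}, IsConj z u → u ≠ 1 := fun hu e => S.base.ord.xt.ne (isConj_one_left.1 (e ▸ hu))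
  have hsqZ : ∀ {u}, IsConj z u ∧ Commute u p → u * u = 1 := fun hu => (hctx _ hu).sq _ (hctx _ hu).zE
  -- commuting conjugates lie in one block
  have hblock : ∀ {a y}, IsConj z a ∧ Commute a p → IsConj z y ∧ Commute y p → Commute y a → y ∈ EE a := by
    intro a y ha hy hya
    by_contra hyE
    have hyQ : y ∉ Qc Q (gg a) := fun h => hyE ((hctx a ha).mem y (ha.1.symm.trans hy.1) h hy.2)
    have hn : ∀ e ∈ EE a, y * e * y⁻¹ ∈ EE a := (hctx a ha).norm y hya hy.2
    have h4 := exists_commuting (hctx a ha).card (hctx a ha).sq (hsqZ hy) hn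
    obtain ⟨b, hb, hb1, hba⟩ : ∃ b ∈ EE a ⊓ Subgroup.centralizer ({y} : Set G), b ≠ 1 ∧ b ≠ a := by
      by_contra hno
      push Not at hno
      have hle : EE a ⊓ Subgroup.centralizer ({y} : Set G) ≤ Subgroup.zpowers a := fun e he => by
        by_cases e1 : e = 1
        · rw [e1]; exact one_mem _
        · rw [hno e he e1]; exact Subgroup.mem_zpowers a
      have := Subgroup.card_le_of_le hle
      rw [Nat.card_zpowers] at this
      have : orderOf a ≤ 2 := orderOf_le_of_pow_eq_one (by norm_num) (by rw [pow_two]; exact hsqZ ha)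
      omega
    obtain ⟨hbE, hby⟩ := hb
    have hbZ := hcls ha hbE hb1
    have hby' : Commute b y := Subgroup.mem_centralizer_singleton_iff.1 hby
    have hab : Commute a b := by
      have h1 := (hctx a ha).sq _ (mul_mem (hctx a ha).zE hbE)
      have h2 : (a * b)⁻¹ = a * b := inv_eq_of_mul_eq_one_right h1
      show a * b = b * a
      rw [← h2, mul_inv_rev, inv_eq_of_mul_eq_one_right (hsqZ ha), inv_eq_of_mul_eq_one_right (hsqZ hbZ)]
    have hout : ∀ {e}, IsConj z e ∧ Commute e p → e ∈ EE a → e ∉ Qc Q (gg y) := fun {e} he heE h => by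
      have h2 := hsymm he hy ((hctx y hy).mem e (hy.1.symm.trans he.1) h he.2)
      rw [hsame ha heE (hne1 he.1)] at h2
      exact hyE h2
    have habQ := (hctx y hy).out a b hya.symm ha.2 hby' hbZ.2 (hsqZ ha) (hsqZ hbZ) hab
      (hout ha (hctx a ha).zE) (hout hbZ hbE)
    have habE : a * b ∈ EE a := mul_mem (hctx a ha).zE hbE
    have hab1 : a * b ≠ 1 := fun e => hba (by
      rw [← inv_eq_of_mul_eq_one_right e, inv_eq_of_mul_eq_one_right (hsqZ ha)])
    exact hout (hcls ha habE hab1) habE habQ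
  have hE0 : IsConj z z ∧ Commute z p := ⟨IsConj.refl z, hpz.symm⟩
  set E := EE z with hEdef
  have hgz : Qc Q (gg z) = Q := by
    have := S.Qc_eq (g := gg z) (k := 1) (by rw [hgg z hE0]; group)
    rw [this]
    ext a; exact mem_Qc_one
  have C : FiveCtx z Q p E := hgz ▸ hctx z hE0
  have hEE : ∀ {e}, e ∈ E → e ≠ 1 → EE e = E := fun he e1 => hsame hE0 he e1
  have hin : ∀ {u e}, IsConj z u ∧ Commute u p → e ∈ E → e ≠ 1 → Commute u e → u ∈ E := fun {u e} hu he e1 h =>
    hEE he e1 ▸ hblock (hcls hE0 he e1) hu h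
  have hEsq : ∀ e ∈ E, e * e = 1 := C.sq
  have hEcomm : ∀ a ∈ E, ∀ b ∈ E, Commute a b := fun a ha b hb => by
    show a * b = b * a
    have h1 : ∀ e ∈ E, e⁻¹ = e := fun e he => inv_eq_of_mul_eq_one_right (hEsq e he)
    rw [← h1 _ (mul_mem ha hb), mul_inv_rev, h1 a ha, h1 b hb]
  have hconjZ : ∀ {d e}, Commute d p → IsConj z e ∧ Commute e p →
      IsConj z (d * e * d⁻¹) ∧ Commute (d * e * d⁻¹) p := fun {d e} hd he => by
    refine ⟨he.1.trans (isConj_iff.2 ⟨d, rfl⟩), ?_⟩
    have := (Commute.conj_iff d).2 he.2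
    rwa [hd.eq, mul_inv_cancel_right] at this
  have hnorm_of : ∀ {d e}, Commute d p → e ∈ E → e ≠ 1 → d * e * d⁻¹ ∈ E → ∀ e' ∈ E, d * e' * d⁻¹ ∈ E := by
    intro d e hd he e1 h e' he'
    rcases eq_or_ne e' 1 with rfl | e1'
    · simp
    exact hin (hconjZ hd (hcls hE0 he' e1')) h (fun h' => e1 (conj_eq_one_iff.1 h'))
      ((Commute.conj_iff d).2 (hEcomm e' he' e he))
  -- involutions of the normaliser outside the block
  have hstep : ∀ {v}, v * v = 1 → v ≠ 1 → Commute v p → ¬ IsConj z v → (∀ e ∈ E, v * e * v⁻¹ ∈ E) → v ∉ E →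
      ∀ d, Commute d v → Commute d p → ∀ e ∈ E, d * e * d⁻¹ ∈ E := by
    intro v hv2 hv1 hvp hvZ hvn hvE
    set D : Subgroup G := Subgroup.centralizer ({v} : Set G) ⊓ Subgroup.centralizer ({p} : Set G) with hD
    have hD' : ∀ {d}, d ∈ D ↔ Commute d v ∧ Commute d p := fun {d} => by
      rw [hD, Subgroup.mem_inf, Subgroup.mem_centralizer_singleton_iff, Subgroup.mem_centralizer_singleton_iff]
      exact Iff.rfl
    have h3 : ¬ 3 ∣ Nat.card D := fun h => by
      obtain ⟨a, ha⟩ := exists_prime_orderOf_dvd_card' (G := D) 3 h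
      exact hvZ (S.invol_cent f (Or.inl rfl) (by rw [Subgroup.orderOf_coe, ha]) h5 h1 (hD'.1 a.2).2 hv2 hv1
        (hD'.1 a.2).1.symm hvp)
    set U : Subgroup G := E ⊓ Subgroup.centralizer ({v} : Set G) with hU
    have hU4 : 4 ≤ Nat.card U := exists_commuting C.card hEsq hv2 hvn
    have hUE : U ≠ E := fun h => by
      have hall : ∀ e ∈ E, Commute v e := fun e he =>
        (Subgroup.mem_centralizer_singleton_iff.1 (h ▸ he : e ∈ U).2 : Commute e v).symm
      obtain ⟨i, e, he, hve⟩ := C.cent v (hall z C.zE) hvp hall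
      have hcm : Commute (p ^ i) e := ((C.com e he).symm).pow_left i
      have h2 : p ^ i * p ^ i = 1 := by
        have h' := hv2
        rw [hve, hcm.symm.mul_mul_mul_comm, hEsq e he, mul_one] at h'
        exact h'
      have hpi : p ^ i = 1 := by
        have e5 : (p ^ i) ^ 5 = 1 := by rw [← pow_mul, mul_comm, pow_mul, h5, one_pow]
        rw [show 5 = 2 * 2 + 1 from rfl, pow_succ, pow_mul, pow_two (p ^ i), h2, one_pow, one_mul] at e5
        exact e5
      rw [hpi, one_mul] at hve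
      exact hvE (hve ▸ he)
    have hU4' : Nat.card U = 4 := by
      have hd : Nat.card U ∣ 8 := C.card ▸ Subgroup.card_dvd_of_le inf_le_left
      have hlt : Nat.card U ≠ 8 := fun e => hUE (Subgroup.eq_of_le_of_card_ge inf_le_left (by rw [C.card, e]))
      have := Nat.le_of_dvd (by norm_num) hd
      rcases (show Nat.card U = 4 ∨ Nat.card U = 5 ∨ Nat.card U = 6 ∨ Nat.card U = 7 by omega) with e | e | e | e <;>
        first | exact e | (rw [e] at hd; norm_num at hd)
    -- the normaliser of the block in the centraliser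
    let ND : Subgroup G :=
      { carrier := {d | d ∈ D ∧ ∀ e, e ∈ E ↔ d * e * d⁻¹ ∈ E}
        one_mem' := ⟨one_mem _, fun e => by simp⟩
        mul_mem' := fun {a b} ha hb => ⟨mul_mem ha.1 hb.1, fun e => by
          rw [hb.2, ha.2, show a * (b * e * b⁻¹) * a⁻¹ = a * b * e * (a * b)⁻¹ by group]⟩
        inv_mem' := fun {a} ha => ⟨inv_mem ha.1, fun e => by
          rw [ha.2 (a⁻¹ * e * a⁻¹⁻¹), show a * (a⁻¹ * e * a⁻¹⁻¹) * a⁻¹ = e by group]⟩ }
    have hNU : ∀ d ∈ ND, ∀ e ∈ U, d * e * d⁻¹ ∈ U := by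
      intro d hd e he
      refine ⟨(hd.2 e).1 he.1, Subgroup.mem_centralizer_singleton_iff.2 ?_⟩
      have := (Commute.conj_iff d).2 (Subgroup.mem_centralizer_singleton_iff.1 he.2 : Commute e v)
      rwa [(hD'.1 hd.1).1.eq, mul_inv_cancel_right] at this
    -- a fixed point
    obtain ⟨u₀, hu₀U, hu₀1, hfixu⟩ : ∃ u₀ ∈ U, u₀ ≠ 1 ∧ ∀ d ∈ ND, d * u₀ * d⁻¹ = u₀ := by
      letI : MulAction ND {e : U // e ≠ 1} :=
        { smul := fun d e => ⟨⟨d * (e.1 : G) * (d : G)⁻¹, hNU d d.2 _ e.1.2⟩, fun h => e.2 (Subtype.ext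
            (conj_eq_one_iff.1 (congrArg Subtype.val h)))⟩
          one_smul := fun e => Subtype.ext (Subtype.ext (by show (1 : G) * _ * (1 : G)⁻¹ = _; group))
          mul_smul := fun a b e => Subtype.ext (Subtype.ext (by
            show ((a : G) * b) * (e.1 : G) * ((a : G) * b)⁻¹ = a * (b * (e.1 : G) * (b : G)⁻¹) * (a : G)⁻¹
            group)) }
      have h3' : Nat.card {e : U // e ≠ 1} = 3 := by
        haveI := Fintype.ofFinite U
        rw [Nat.card_eq_fintype_card, Fintype.card_subtype_compl, Fintype.card_subtype_eq,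
          ← Nat.card_eq_fintype_card, hU4']
      have hfix : ∀ e : {e : U // e ≠ 1}, Nat.card (MulAction.orbit ND e) = 1 → ∀ d ∈ ND, d * (e.1 : G) * d⁻¹ = e.1 := by
        intro e he d hd
        haveI : Subsingleton (MulAction.orbit ND e) := (Nat.card_eq_one_iff_unique.1 he).1
        have := Subsingleton.elim (⟨_, MulAction.mem_orbit e (⟨d, hd⟩ : ND)⟩ : MulAction.orbit ND e)
          ⟨e, MulAction.mem_orbit_self e⟩
        exact congrArg (fun o : MulAction.orbit ND e => (o.1.1 : G)) this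
      obtain ⟨a⟩ : Nonempty {e : U // e ≠ 1} := (Nat.card_pos_iff.1 (by omega)).1
      have hdiv : ∀ e : {e : U // e ≠ 1}, Nat.card (MulAction.orbit ND e) ≠ 3 := fun e he => h3 (by
        have h := Nat.card_congr (MulAction.orbitProdStabilizerEquivGroup ND e)
        rw [Nat.card_prod, he] at h
        exact (Dvd.intro _ h).trans (Subgroup.card_dvd_of_le (show ND ≤ D from fun d hd => hd.1)))
      by_cases h : Nat.card (MulAction.orbit ND a) = 1
      · exact ⟨a.1, a.1.2, fun e => a.2 (Subtype.ext e), hfix a h⟩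
      have hle : Nat.card (MulAction.orbit ND a) ≤ 3 := h3' ▸ Nat.card_le_card_of_injective _ Subtype.val_injective
      have hpos : 0 < Nat.card (MulAction.orbit ND a) := by
        haveI : Nonempty (MulAction.orbit ND a) := ⟨⟨a, MulAction.mem_orbit_self a⟩⟩
        exact Nat.card_pos
      have h2 : Nat.card (MulAction.orbit ND a) = 2 := by have := hdiv a; omega
      obtain ⟨b, hb⟩ : ∃ b, b ∉ MulAction.orbit ND a := by
        by_contra hno
        push Not at hno
        have := Nat.card_congr (Equiv.subtypeUnivEquiv hno)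
        rw [h3'] at this
        exact absurd (h2.symm.trans this) (by norm_num)
      refine ⟨b.1, b.1.2, fun e => b.2 (Subtype.ext e), hfix b ?_⟩
      rw [Nat.card_eq_one_iff_unique]
      refine ⟨⟨fun s t => Subtype.ext ?_⟩, ⟨⟨b, MulAction.mem_orbit_self b⟩⟩⟩
      have hout : ∀ s : MulAction.orbit ND b, (s : {e : U // e ≠ 1}) ∉ MulAction.orbit ND a := fun s hs => hb (by
        rw [← MulAction.orbit_eq_iff] at hs
        rw [← MulAction.orbit_eq_iff, ← hs, MulAction.orbit_eq_iff]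
        exact (MulAction.mem_orbit_symm).1 s.2)
      have hc : (MulAction.orbit ND a)ᶜ.ncard = 1 := by
        rw [Set.ncard_compl, h3', ← Nat.card_coe_set_eq, h2]
      obtain ⟨w, hw⟩ := Set.ncard_eq_one.1 hc
      have hs' : (s : {e : U // e ≠ 1}) ∈ ({w} : Set _) := hw ▸ hout s
      have ht' : (t : {e : U // e ≠ 1}) ∈ ({w} : Set _) := hw ▸ hout t
      exact hs'.trans ht'.symm
    have hu₀ := hcls hE0 hu₀U.1 hu₀1
    have hu₀v : Commute u₀ v := Subgroup.mem_centralizer_singleton_iff.1 hu₀U.2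
    set uD : D := ⟨u₀, hD'.2 ⟨hu₀v, hu₀.2⟩⟩ with huD
    have hiso : Cfsg.IsIsolatedInvolution uD := by
      refine ⟨?_, fun d hd => Subtype.ext ?_⟩
      · rw [← Subgroup.orderOf_coe]
        exact orderOf_eq_prime (by rw [pow_two]; exact hEsq _ hu₀U.1) hu₀1
      · have hd' : Commute u₀ ((d : G) * u₀ * (d : G)⁻¹) := congrArg Subtype.val hd.eq
        show (d : G) * u₀ * (d : G)⁻¹ = u₀
        have hdp : Commute (d : G) p := (hD'.1 d.2).2
        have hmem : (d : G) * u₀ * (d : G)⁻¹ ∈ E := hin (hconjZ hdp hu₀) hu₀U.1 hu₀1 hd'.symm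
        refine hfixu d ⟨d.2, fun e => ⟨hnorm_of hdp hu₀U.1 hu₀1 hmem e, fun h => ?_⟩⟩
        have hinv : (d : G)⁻¹ * ((d : G) * u₀ * (d : G)⁻¹) * (d : G)⁻¹⁻¹ ∈ E := by
          rw [show (d : G)⁻¹ * ((d : G) * u₀ * (d : G)⁻¹) * (d : G)⁻¹⁻¹ = u₀ by group]; exact hu₀U.1
        have := hnorm_of hdp.inv_left hmem (fun h' => hu₀1 (conj_eq_one_iff.1 h')) hinv _ h
        rwa [show (d : G)⁻¹ * ((d : G) * e * (d : G)⁻¹) * (d : G)⁻¹⁻¹ = e by group] at this
    -- the odd core
    set O := Cfsg.oddCore D with hO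
    haveI hOn : O.Normal := Cfsg.pPrimeCore_normal 2 D
    have hOodd : Odd (Nat.card O) := Char.card_oddCore_odd D
    obtain ⟨a₀, ha₀, ha₀1, ha₀u⟩ : ∃ a₀ ∈ U, a₀ ≠ 1 ∧ a₀ ≠ u₀ := by
      by_contra hno
      push Not at hno
      have hle : U ≤ Subgroup.zpowers u₀ := fun e he => by
        by_cases e1 : e = 1
        · rw [e1]; exact one_mem _
        · rw [hno e he e1]; exact Subgroup.mem_zpowers u₀
      have := Subgroup.card_le_of_le hle
      rw [Nat.card_zpowers, hU4'] at this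
      have : orderOf u₀ ≤ 2 := orderOf_le_of_pow_eq_one (by norm_num) (by rw [pow_two]; exact hEsq _ hu₀U.1)
      omega
    set aD : D := ⟨a₀, hD'.2 ⟨Subgroup.mem_centralizer_singleton_iff.1 ha₀.2, (hcls hE0 ha₀.1 ha₀1).2⟩⟩ with haD
    have hPc : ∀ w, IsConj z w ∧ Commute w p → ∀ d : D, d ∈ O → Commute (d : G) w → (d : G) ∈ Subgroup.zpowers p := by
      intro w hw d hd hdw
      set H := Subgroup.centralizer ({w} : Set G) ⊓ Subgroup.centralizer ({p} : Set G)
      have hHc : Nat.card H = 960 := (hctx w hw).cardH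
      have hdH : (d : G) ∈ H := ⟨Subgroup.mem_centralizer_singleton_iff.2 hdw.eq,
        Subgroup.mem_centralizer_singleton_iff.2 (hD'.1 d.2).2.eq⟩
      have ho : orderOf (d : G) ∣ 960 := hHc ▸ Subgroup.orderOf_dvd_natCard H hdH
      have hodd : Odd (orderOf (d : G)) := by
        rw [Subgroup.orderOf_coe]
        exact hOodd.of_dvd_nat (Subgroup.orderOf_dvd_natCard O hd)
      have h5' : orderOf (d : G) ∣ 5 := by
        have h3' : ¬ 3 ∣ orderOf (d : G) := fun h => h3 (h.trans (by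
          rw [Subgroup.orderOf_coe]; exact orderOf_dvd_natCard d))
        exact (show ∀ n ∈ Nat.divisors 960, n % 2 = 1 → ¬ 3 ∣ n → n ∣ 5 by decide +kernel) _
          (Nat.mem_divisors.2 ⟨ho, by norm_num⟩) (Nat.odd_iff.1 hodd) h3'
      rcases (Nat.dvd_prime (Fact.out : Nat.Prime 5)).1 h5' with e | e
      · rw [orderOf_eq_one_iff.1 e]; exact one_mem _
      -- the Sylow subgroup is central
      by_contra hdp
      set Z := Subgroup.zpowers p
      have hpH : p ∈ H := ⟨Subgroup.mem_centralizer_singleton_iff.2 hw.2.symm.eq,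
        Subgroup.mem_centralizer_singleton_iff.2 rfl⟩
      obtain ⟨k, hk⟩ := M22U.PrimeCount.conj_of_card (G := H) (p := 5) (by norm_num) (by rw [hHc]; norm_num)
        (by rw [hHc]; norm_num) (X := Subgroup.zpowers ⟨p, hpH⟩) (Y := Subgroup.zpowers ⟨(d : G), hdH⟩)
        (by rw [Nat.card_zpowers, Subgroup.orderOf_mk]; exact orderOf_eq_prime h5 h1)
        (by rw [Nat.card_zpowers, Subgroup.orderOf_mk]; exact e)
      have hdmem : (⟨(d : G), hdH⟩ : H) ∈ (Subgroup.zpowers (⟨p, hpH⟩ : H)).map (MulAut.conj k).toMonoidHom :=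
        hk ▸ Subgroup.mem_zpowers _
      obtain ⟨m, ⟨i, rfl⟩, hm⟩ := hdmem
      refine hdp ⟨i, ?_⟩
      have hm' : (k : G) * (p ^ i) * (k : G)⁻¹ = (d : G) := congrArg Subtype.val hm
      have hkp : Commute (k : G) p := Subgroup.mem_centralizer_singleton_iff.1 k.2.2
      rw [(hkp.zpow_right i).eq, mul_inv_cancel_right] at hm'
      exact hm'
    have hOP : ∀ d : D, d ∈ O → (d : G) ∈ Subgroup.zpowers p := by
      let act : D → MulAut O := fun w =>
        { toFun := fun o => ⟨w * o * w⁻¹, hOn.conj_mem o o.2 w⟩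
          invFun := fun o => ⟨w⁻¹ * o * w⁻¹⁻¹, hOn.conj_mem o o.2 w⁻¹⟩
          left_inv := fun o => Subtype.ext (by show w⁻¹ * (w * (o : D) * w⁻¹) * w⁻¹⁻¹ = o; group)
          right_inv := fun o => Subtype.ext (by show w * (w⁻¹ * (o : D) * w⁻¹⁻¹) * w⁻¹ = o; group)
          map_mul' := fun a b => Subtype.ext (by show w * ((a : D) * b) * w⁻¹ = w * a * w⁻¹ * (w * b * w⁻¹); group) }
      have hact : ∀ w w' : D, act w * act w' = act (w * w') := fun w w' => MulEquiv.ext fun o => Subtype.ext (by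
        show w * (w' * (o : D) * w'⁻¹) * w⁻¹ = w * w' * o * (w * w')⁻¹; group)
      have hone : act 1 = 1 := MulEquiv.ext fun o => Subtype.ext (by show 1 * (o : D) * 1⁻¹ = o; group)
      have hau : Commute aD uD := Subtype.ext (hEcomm a₀ ha₀.1 u₀ hu₀U.1).eq
      have ha2 : aD * aD = 1 := Subtype.ext (hEsq _ ha₀.1)
      have hu2 : uD * uD = 1 := Subtype.ext (hEsq _ hu₀U.1)
      let M : Subgroup O := (Subgroup.zpowers p).comap (D.subtype.comp O.subtype)
      intro d hd
      refine PGV.four_generation hOodd (act aD) (act uD) (by rw [hact, ha2, hone]) (by rw [hact, hu2, hone])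
        (by show act aD * act uD = act uD * act aD; rw [hact, hact, hau.eq]) M ?_ ?_ ?_ ⟨d, hd⟩
      · intro o ho
        exact hPc a₀ (hcls hE0 ha₀.1 ha₀1) o o.2
          (mul_inv_eq_iff_eq_mul.1 (congrArg (fun t : O => ((t : D) : G)) ho) : Commute a₀ ((o : D) : G)).symm
      · intro o ho
        exact hPc u₀ hu₀ o o.2
          (mul_inv_eq_iff_eq_mul.1 (congrArg (fun t : O => ((t : D) : G)) ho) : Commute u₀ ((o : D) : G)).symm
      · intro o ho
        have e : a₀ * u₀ * ((o : D) : G) * (a₀ * u₀)⁻¹ = ((o : D) : G) := by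
          have := congrArg (fun t : O => ((t : D) : G)) ho
          change a₀ * (u₀ * ((o : D) : G) * u₀⁻¹) * a₀⁻¹ = ((o : D) : G) at this
          exact Eq.trans (by group) this
        refine hPc (a₀ * u₀) (hcls hE0 (mul_mem ha₀.1 hu₀U.1) fun e1 => ha₀u ?_) o o.2
          (mul_inv_eq_iff_eq_mul.1 e : Commute (a₀ * u₀) ((o : D) : G)).symm
        rw [← inv_eq_of_mul_eq_one_left e1, inv_eq_of_mul_eq_one_right (hEsq _ hu₀U.1)]
    intro d hdv hdp
    have hm := hOP _ (Char.zStar_isolated hiso ⟨d, hD'.2 ⟨hdv, hdp⟩⟩)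
    change u₀ * d * u₀⁻¹ * d⁻¹ ∈ Subgroup.zpowers p at hm
    have hu0i : u₀⁻¹ = u₀ := inv_eq_of_mul_eq_one_right (hEsq _ hu₀U.1)
    obtain ⟨i, hi⟩ := hm
    have hdu : d * u₀ * d⁻¹ = u₀ := by
      set k := u₀ * d * u₀⁻¹ * d⁻¹
      have hkd : d * u₀ * d⁻¹ = u₀ * k := by
        show d * u₀ * d⁻¹ = u₀ * (u₀ * d * u₀⁻¹ * d⁻¹)
        rw [hu0i, show u₀ * (u₀ * d * u₀ * d⁻¹) = (u₀ * u₀) * (d * u₀ * d⁻¹) by group, hEsq _ hu₀U.1, one_mul]
      have hcm : Commute u₀ k := by rw [← hi]; exact hu₀.2.zpow_right i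
      have h2 : k * k = 1 := by
        have : (d * u₀ * d⁻¹) * (d * u₀ * d⁻¹) = 1 := by rw [conj_mul, hEsq _ hu₀U.1, mul_one, mul_inv_cancel]
        rw [hkd, hcm.symm.mul_mul_mul_comm, hEsq _ hu₀U.1, one_mul] at this
        exact this
      have hk5 : k ^ 5 = 1 := by
        rw [← hi, ← zpow_natCast, ← zpow_mul, mul_comm, zpow_mul, zpow_natCast, h5, one_zpow]
      rw [show 5 = 2 * 2 + 1 from rfl, pow_succ, pow_mul, pow_two k, h2, one_pow, one_mul] at hk5
      rw [hkd, hk5, mul_one]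
    exact hnorm_of hdp hu₀U.1 hu₀1 (hdu.symm ▸ hu₀U.1)
  -- the block is all
  have hall : ∀ a, IsConj z a ∧ Commute a p → a ∈ E := by
    intro a ha
    obtain ⟨v, hvQ, hvp, hv2, hvE⟩ := C.extra
    have hv1 : v ≠ 1 := fun e => hvE (e ▸ one_mem E)
    have hvz : Commute v z := S.base.ord.qz hvQ
    have hvn := C.norm v hvz hvp
    have hvZ : ¬ IsConj z v := fun h => hvE (hin ⟨h, hvp⟩ C.zE S.base.ord.xt.ne hvz)
    have ha2 := hsqZ ha
    set n := orderOf (a * v) with hn
    have heven : Even n := by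
      by_contra ho
      obtain ⟨k, hk⟩ := Nat.not_even_iff_odd.1 ho
      apply hvZ
      set r := a * v with hr
      have har : a * r * a⁻¹ = r⁻¹ := by
        rw [hr, mul_inv_rev, inv_eq_of_mul_eq_one_right hv2, inv_eq_of_mul_eq_one_right ha2, ← mul_assoc, ha2,
          one_mul]
      have hpow : a * r ^ k * a⁻¹ = (r ^ k)⁻¹ := by rw [← conj_pow, har, inv_pow]
      refine ha.1.trans (isConj_iff.2 ⟨r ^ k, ?_⟩)
      have e1 : a * (r ^ k)⁻¹ = r ^ k * a := by
        rw [← hpow, show a * (a * r ^ k * a⁻¹) = (a * a) * r ^ k * a⁻¹ by group, ha2, one_mul,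
          inv_eq_of_mul_eq_one_right ha2]
      have e3 : r ^ k * r ^ k = r⁻¹ := by
        rw [eq_inv_iff_mul_eq_one, ← pow_add, ← pow_succ, show k + k + 1 = n by omega, hn, pow_orderOf_eq_one]
      rw [mul_assoc (r ^ k) a, e1, ← mul_assoc, e3, hr, mul_inv_rev, inv_eq_of_mul_eq_one_right ha2, mul_assoc, ha2,
        mul_one, inv_eq_of_mul_eq_one_right hv2]
    obtain ⟨hw2', hwa, hwv⟩ := S0209.result a v (orderOf_eq_prime (by rw [pow_two]; exact ha2) (hne1 ha.1))
      (orderOf_eq_prime (by rw [pow_two]; exact hv2) hv1) heven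
    set w := (a * v) ^ (orderOf (a * v) / 2) with hwdef
    have hw2 : w * w = 1 := by rw [← pow_two, ← hw2', pow_orderOf_eq_one]
    have hw1 : w ≠ 1 := fun e => by rw [e, orderOf_one] at hw2'; omega
    have hwp : Commute w p := (ha.2.mul_left hvp).pow_left _
    have hwn := hstep hv2 hv1 hvp hvZ hvn hvE w hwv hwp
    by_cases hwE : w ∈ E
    · exact hin ha hwE hw1 hwa.symm
    have hwZ : ¬ IsConj z w := by
      intro h
      obtain ⟨e, ⟨heE, hew⟩, e1⟩ : ∃ e ∈ E ⊓ Subgroup.centralizer ({w} : Set G), e ≠ 1 := by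
        by_contra hno
        push Not at hno
        have h4 := exists_commuting C.card hEsq hw2 hwn
        rw [(Subgroup.eq_bot_iff_forall _).2 hno, Subgroup.card_bot] at h4
        omega
      exact hwE (hin ⟨h, hwp⟩ heE e1 (Subgroup.mem_centralizer_singleton_iff.1 hew).symm)
    have han := hstep hw2 hw1 hwp hwZ hwn hwE a hwa.symm ha.2
    obtain ⟨e, ⟨heE, hea⟩, e1⟩ : ∃ e ∈ E ⊓ Subgroup.centralizer ({a} : Set G), e ≠ 1 := by
      by_contra hno
      push Not at hno
      have h4 := exists_commuting C.card hEsq ha2 han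
      rw [(Subgroup.eq_bot_iff_forall _).2 hno, Subgroup.card_bot] at h4
      omega
    exact hin ha heE e1 (Subgroup.mem_centralizer_singleton_iff.1 hea).symm
  have hiff : ∀ e, e ∈ E ↔ e = 1 ∨ (IsConj z e ∧ Commute e p) := fun e =>
    ⟨fun he => (eq_or_ne e 1).imp id fun e1 => hcls hE0 he e1,
      fun h => h.elim (fun e1 => e1 ▸ one_mem E) (hall e)⟩
  have hnorm : ∀ a, Commute a p → ∀ e ∈ E, a * e * a⁻¹ ∈ E := by
    intro a ha e he
    rcases eq_or_ne e 1 with rfl | e1
    · simp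
    exact hall _ (hconjZ ha (hcls hE0 he e1))
  have htrans : ∀ e ∈ E, e ≠ 1 → ∃ c, Commute c p ∧ c * z * c⁻¹ = e := by
    have hthird : ∀ u ∈ E, ∃ w ∈ E, w ≠ 1 ∧ w ≠ z ∧ w ≠ u := by
      intro u hu
      by_contra hno
      push Not at hno
      have hsub : (E : Set G) ⊆ {1, z, u} := fun w hw => by
        by_cases w1 : w = 1
        · exact Or.inl w1
        by_cases w2 : w = z
        · exact Or.inr (Or.inl w2)
        exact Or.inr (Or.inr (hno w hw w1 w2))
      have h8 := Set.ncard_le_ncard hsub (Set.toFinite _)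
      rw [← Nat.card_coe_set_eq, show Nat.card (E : Set G) = 8 from C.card] at h8
      have h3' := Set.ncard_insert_le (1 : G) {z, u}
      have h2' := Set.ncard_insert_le z ({u} : Set G)
      rw [Set.ncard_singleton] at h2'
      omega
    have hmv : ∀ e ∈ E, e ≠ 1 → ∀ u ∈ E, u ≠ 1 → u ≠ z → u ≠ e → e ≠ z → ∃ c, Commute c p ∧ c * z * c⁻¹ = e := by
      intro e he e1 u hu u1 uz ue ez
      have hu' := hcls hE0 hu u1
      have Cu := hctx u hu'
      have hEu : EE u = E := hEE hu u1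
      obtain ⟨c, -, hcp, hce⟩ := Cu.trans z (hEu ▸ C.zE) e (hEu ▸ he) S.base.ord.xt.ne (Ne.symm uz) e1 (Ne.symm ue)
      exact ⟨c, hcp, hce⟩
    intro e he e1
    rcases eq_or_ne e z with rfl | ez
    · exact ⟨1, Commute.one_left p, by group⟩
    obtain ⟨u, hu, u1, uz, ue⟩ := hthird e he
    exact hmv e he e1 u hu u1 uz ue ez
  refine ⟨E, C, hiff, hnorm, htrans, ?_⟩
  choose! cc hcc hcz using htrans
  set H0 : Subgroup G := Subgroup.centralizer ({z} : Set G) ⊓ Subgroup.centralizer ({p} : Set G)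
  have hH0 : ∀ {h}, h ∈ H0 ↔ Commute h z ∧ Commute h p := fun {h} => by
    rw [Subgroup.mem_inf, Subgroup.mem_centralizer_singleton_iff, Subgroup.mem_centralizer_singleton_iff]; exact Iff.rfl
  let T := {e : E // e ≠ 1}
  refine (Nat.card_eq_of_bijective (fun t : T × H0 => (⟨cc t.1.1 * (t.2 : G),
    Subgroup.mem_centralizer_singleton_iff.2 ((hcc _ t.1.1.2 fun h => t.1.2 (Subtype.ext h)).mul_left
      (hH0.1 t.2.2).2).eq⟩ : Subgroup.centralizer ({p} : Set G))) ⟨?_, ?_⟩).symm.trans ?_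
  · rintro ⟨⟨e, he⟩, h⟩ ⟨⟨e', he'⟩, h'⟩ heq
    have heq' : cc e * (h : G) = cc e' * (h' : G) := congrArg Subtype.val heq
    have key : ∀ (e : E) (h : H0), e ≠ 1 → cc e * (h : G) * z * (cc e * (h : G))⁻¹ = e := fun e h he => by
      rw [show cc e * (h : G) * z * (cc e * (h : G))⁻¹ = cc e * ((h : G) * z * (h : G)⁻¹) * (cc e)⁻¹ by group,
        (hH0.1 h.2).1.eq, mul_inv_cancel_right]
      exact hcz _ e.2 fun h => he (Subtype.ext h)
    have hee : (e : G) = e' := by rw [← key e h he, heq', key e' h' he']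
    obtain rfl : e = e' := Subtype.ext hee
    rw [Subtype.ext (mul_left_cancel heq')]
  · intro c
    have hcp : Commute (c : G) p := Subgroup.mem_centralizer_singleton_iff.1 c.2
    have hzE := hnorm c hcp z C.zE
    have hz1 : (⟨(c : G) * z * (c : G)⁻¹, hzE⟩ : E) ≠ 1 := fun h =>
      S.base.ord.xt.ne (conj_eq_one_iff.1 (congrArg Subtype.val h))
    have hz1' : (c : G) * z * (c : G)⁻¹ ≠ 1 := fun h => S.base.ord.xt.ne (conj_eq_one_iff.1 h)
    refine ⟨⟨⟨⟨_, hzE⟩, hz1⟩, ⟨(cc ((c : G) * z * (c : G)⁻¹))⁻¹ * (c : G), hH0.2 ⟨?_,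
      (hcc _ hzE hz1').inv_left.mul_left hcp⟩⟩⟩, Subtype.ext ?_⟩
    · refine mul_inv_eq_iff_eq_mul.1 ?_
      set d := cc ((c : G) * z * (c : G)⁻¹) with hd
      calc d⁻¹ * (c : G) * z * (d⁻¹ * (c : G))⁻¹ = d⁻¹ * ((c : G) * z * (c : G)⁻¹) * d := by group
        _ = d⁻¹ * (d * z * d⁻¹) * d := by rw [hd, hcz _ hzE hz1']
        _ = z := by group
    · show cc _ * ((cc _)⁻¹ * (c : G)) = (c : G)
      rw [mul_inv_cancel_left]
  · rw [Nat.card_prod]
    congr 1
    · haveI := Fintype.ofFinite E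
      rw [Nat.card_eq_fintype_card, Fintype.card_subtype_compl, Fintype.card_subtype_eq,
        ← Nat.card_eq_fintype_card, C.card]
    · exact C.cardH

end Cfsg.Agent.Spor.JFour
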