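import Cfsg.Agent.Lib.Spor.JFourLoc.SevenTop

/-!
General facts for the local subgroup of the elementary abelian group of order eight.
-/

set_option autoImplicit false
set_option maxRecDepth 100000
set_option linter.unusedSectionVars false

namespace Cfsg.Agent.Spor.JFour

open Cfsg.Agent.Spor.SUSix (V6)
open Cfsg.Agent.Spor.Large (XT Pair)

attribute [local irreducible] wd gP Gam Kp Chk.app

universe u

variable {G : Type u} [Group G] [Finite G]

/-- an element of prime order fixes an element of an invariant coset of order prime to it -/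
theorem coset_fixed {a c : G} {q : ℕ} [Fact q.Prime] (ha : a ^ q = 1) {N : Subgroup G}
    (haN : ∀ n ∈ N, a * n * a⁻¹ ∈ N) (hq : ¬ q ∣ Nat.card N) (hc : a * c * a⁻¹ * c⁻¹ ∈ N) :
    ∃ n ∈ N, Commute (n * c) a := by
  classical
  let T := {g : G // g * c⁻¹ ∈ N}
  let π : T → T := fun g => ⟨a * g.1 * a⁻¹, by
    rw [show a * g.1 * a⁻¹ * c⁻¹ = a * (g.1 * c⁻¹) * a⁻¹ * (a * c * a⁻¹ * c⁻¹) by group]
    exact mul_mem (haN _ g.2) hc⟩
  have hπ : Function.Injective π := fun g h e => Subtype.ext (by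
    have e' : a * g.1 * a⁻¹ = a * h.1 * a⁻¹ := congrArg Subtype.val e
    exact mul_left_cancel (mul_right_cancel e'))
  let P : Equiv.Perm T := Equiv.ofBijective π (Finite.injective_iff_bijective.1 hπ)
  have hP : ∀ (k : ℕ) (g : T), ((P ^ k) g).1 = a ^ k * g.1 * (a ^ k)⁻¹ := by
    intro k
    induction k with
    | zero => intro g; simp
    | succ k ih =>
      intro g
      rw [pow_succ', Equiv.Perm.mul_apply]
      show a * ((P ^ k) g).1 * a⁻¹ = _
      rw [ih]; group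
  have hPq : P ^ q = 1 := Equiv.ext fun g => Subtype.ext (by rw [hP, ha]; simp)
  have hcard : Nat.card T = Nat.card N := Nat.card_congr
    { toFun := fun g => ⟨g.1 * c⁻¹, g.2⟩
      invFun := fun n => ⟨(n : G) * c, by rw [mul_inv_cancel_right]; exact n.2⟩
      left_inv := fun g => Subtype.ext (inv_mul_cancel_right g.1 c)
      right_inv := fun n => Subtype.ext (mul_inv_cancel_right (n : G) c) }
  have hpg : IsPGroup q (Subgroup.zpowers P) := by
    rintro ⟨b, l, rfl⟩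
    refine ⟨1, Subtype.ext ?_⟩
    show (P ^ l) ^ q ^ 1 = 1
    rw [pow_one, ← zpow_natCast, ← zpow_mul, mul_comm, zpow_mul, zpow_natCast, hPq, one_zpow]
  have hmod := hpg.card_modEq_card_fixedPoints T
  have hne : Nat.card (MulAction.fixedPoints (Subgroup.zpowers P) T) ≠ 0 := fun e => by
    rw [e, hcard, Nat.modEq_zero_iff_dvd] at hmod
    exact hq hmod
  obtain ⟨⟨g, hg⟩⟩ := (Nat.card_ne_zero.1 hne).1
  refine ⟨g.1 * c⁻¹, g.2, ?_⟩
  rw [inv_mul_cancel_right]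
  have e : P g = g := hg ⟨P, Subgroup.mem_zpowers P⟩
  have e' : a * g.1 * a⁻¹ = g.1 := congrArg Subtype.val e
  exact (mul_inv_eq_iff_eq_mul.1 e').symm

section Dual

variable {z : G} {Q : Subgroup G} (X : XT z Q)
include X

theorem half_cent {A : Subgroup G} (hA : A ≤ Q) {e q : G} (he : e ∈ Q) (hq : q ∈ A) (hn : ¬ Commute q e) :
    2 * Nat.card (A ⊓ Subgroup.centralizer ({e} : Set G) : Subgroup G) = Nat.card A := by
  have key : ∀ a ∈ A, ∀ b ∈ A, ¬ Commute a e → ¬ Commute b e → Commute (a * b) e := by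
    intro a ha b hb hna hnb
    have h1 := X.move (hA ha) he hna
    have h2 := X.move (hA hb) he hnb
    have hza : a * z * a⁻¹ = z := by rw [← (X.cen a (hA ha)).eq, mul_inv_cancel_right]
    refine mul_inv_eq_iff_eq_mul.1 ?_
    rw [show a * b * e * (a * b)⁻¹ = a * (b * e * b⁻¹) * a⁻¹ by group, h2, ← conj_mul, h1, hza, mul_assoc, X.sq,
      mul_one]
  have hidx : ((Subgroup.centralizer ({e} : Set G)).subgroupOf A).index = 2 := by
    rw [Subgroup.index_eq_two_iff]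
    refine ⟨⟨q, hq⟩, fun b => ?_⟩
    simp only [Subgroup.mem_subgroupOf, Subgroup.coe_mul, Subgroup.mem_centralizer_singleton_iff]
    by_cases hb : Commute (b : G) e
    · refine Or.inr ⟨hb, fun h => hn ?_⟩
      have := hb.inv_left.mul_left (show Commute ((b : G) * q) e from h)
      rwa [inv_mul_cancel_left] at this
    · exact Or.inl ⟨key b b.2 q hq hb hn, hb⟩
  have h := Subgroup.card_mul_index ((Subgroup.centralizer ({e} : Set G)).subgroupOf A)
  rw [hidx, ← Subgroup.inf_subgroupOf_left, Nat.card_congr (Subgroup.subgroupOfEquivOfLe inf_le_left).toEquiv] at h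
  omega

theorem exists_sep {e₁ e₂ : G} (h₁ : e₁ ∈ Q) (h₂ : e₂ ∈ Q) (n₁ : e₁ ≠ 1 ∧ e₁ ≠ z)
    (n₁₂ : e₁ * e₂ ≠ 1 ∧ e₁ * e₂ ≠ z) : ∃ q ∈ Q, ¬ Commute q e₁ ∧ Commute q e₂ := by
  by_contra hno
  push Not at hno
  obtain ⟨r, hr, hr1⟩ : ∃ r ∈ Q, ¬ Commute r e₁ := by
    by_contra h
    push Not at h
    rcases X.eq_of_cen e₁ h₁ (fun b hb => (h b hb).symm) with e | e
    exacts [n₁.1 e, n₁.2 e]
  have hr2 : ¬ Commute r e₂ := fun h => hno r hr hr1 h
  refine (X.eq_of_cen (e₁ * e₂) (mul_mem h₁ h₂) fun q hq => ?_).elim n₁₂.1 n₁₂.2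
  refine (mul_inv_eq_iff_eq_mul.1 ?_ : Commute q (e₁ * e₂)).symm
  by_cases c2 : Commute q e₂
  · have c1 : Commute q e₁ := by
      by_contra h
      exact hno q hq h c2
    rw [(c1.mul_right c2).eq, mul_inv_cancel_right]
  · have c1 : ¬ Commute q e₁ := by
      intro c1
      have hn : ¬ Commute (q * r) e₁ := fun h => hr1 (by
        have := c1.inv_left.mul_left h
        rwa [inv_mul_cancel_left] at this)
      refine hno _ (mul_mem hq hr) hn (mul_inv_eq_iff_eq_mul.1 ?_)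
      have hzq : q * z * q⁻¹ = z := by rw [← (X.cen q hq).eq, mul_inv_cancel_right]
      rw [show q * r * e₂ * (q * r)⁻¹ = q * (r * e₂ * r⁻¹) * q⁻¹ by group, X.move hr h₂ hr2, ← conj_mul,
        X.move hq h₂ c2, hzq, mul_assoc, X.sq, mul_one]
    rw [← conj_mul, X.move hq h₁ c1, X.move hq h₂ c2]
    rw [mul_assoc e₁, ← mul_assoc z e₂, (X.cen e₂ h₂).eq, mul_assoc e₂, X.sq, mul_one]

theorem dual_four {e₁ e₂ : G} (h₁ : e₁ ∈ Q) (h₂ : e₂ ∈ Q) (n₁ : e₁ ≠ 1 ∧ e₁ ≠ z) (n₂ : e₂ ≠ 1 ∧ e₂ ≠ z)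
    (n₁₂ : e₁ * e₂ ≠ 1 ∧ e₁ * e₂ ≠ z) (n₂₁ : e₂ * e₁ ≠ 1 ∧ e₂ * e₁ ≠ z) (hc : Commute e₁ e₂) :
    4 * Nat.card (Q ⊓ Subgroup.centralizer ({e₁} : Set G) ⊓ Subgroup.centralizer ({e₂} : Set G) : Subgroup G) =
      Nat.card Q ∧
    ∀ A : Subgroup G, z ∈ A → e₁ ∈ A → e₂ ∈ A → ∀ y ∈ Q,
      (∀ w ∈ Q, Commute w e₁ → Commute w e₂ → Commute y w) → y ∈ A := by
  obtain ⟨q₁, hq₁, a₁, b₁⟩ := exists_sep X h₁ h₂ n₁ n₁₂
  obtain ⟨q₂, hq₂, a₂, b₂⟩ := exists_sep X h₂ h₁ n₂ n₂₁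
  refine ⟨?_, ?_⟩
  · have e1 := half_cent X le_rfl h₁ hq₁ a₁
    have e2 := half_cent X (A := Q ⊓ Subgroup.centralizer ({e₁} : Set G)) inf_le_left h₂
      (q := q₂) ⟨hq₂, Subgroup.mem_centralizer_singleton_iff.2 b₂.eq⟩ a₂
    omega
  intro A hzA h1A h2A y hy hW
  -- adjust the element to commute with the two separating elements
  have hWe : ∀ w ∈ Q, Commute w e₁ → Commute w e₂ → ∀ b : G, b = 1 ∨ b = e₁ ∨ b = e₂ ∨ b = e₁ * e₂ →
      Commute (y * b) w := by
    intro w hw w1 w2 b hb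
    refine (hW w hw w1 w2).mul_left ?_
    rcases hb with rfl | rfl | rfl | rfl
    exacts [Commute.one_left w, w1.symm, w2.symm, (w1.mul_right w2).symm]
  have hfin : ∀ b : G, b ∈ A → b ∈ Q → (b = 1 ∨ b = e₁ ∨ b = e₂ ∨ b = e₁ * e₂) → Commute (y * b) q₁ →
      Commute (y * b) q₂ → y ∈ A := by
    intro b hbA hbQ hb c1 c2
    have hall : ∀ q ∈ Q, Commute (y * b) q := by
      intro q hq
      have hzq : ∀ t ∈ Q, Commute (y * b) t → Commute (y * b) t⁻¹ := fun t _ h => h.inv_right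
      have step : ∀ q ∈ Q, Commute q e₁ → Commute (y * b) q := by
        intro q hq w1
        by_cases w2 : Commute q e₂
        · exact hWe q hq w1 w2 b hb
        · have h' := hWe (q * q₂) (mul_mem hq hq₂) (w1.mul_left b₂) (mul_inv_eq_iff_eq_mul.1 (by
            have hzq' : q * z * q⁻¹ = z := by rw [← (X.cen q hq).eq, mul_inv_cancel_right]
            rw [show q * q₂ * e₂ * (q * q₂)⁻¹ = q * (q₂ * e₂ * q₂⁻¹) * q⁻¹ by group, X.move hq₂ h₂ a₂, ← conj_mul,
              X.move hq h₂ w2, hzq', mul_assoc, X.sq, mul_one])) b hb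
          have := h'.mul_right (hzq _ hq₂ c2)
          rwa [mul_inv_cancel_right] at this
      by_cases w1 : Commute q e₁
      · exact step q hq w1
      · have h' := step (q * q₁) (mul_mem hq hq₁) (mul_inv_eq_iff_eq_mul.1 (by
          have hzq' : q * z * q⁻¹ = z := by rw [← (X.cen q hq).eq, mul_inv_cancel_right]
          rw [show q * q₁ * e₁ * (q * q₁)⁻¹ = q * (q₁ * e₁ * q₁⁻¹) * q⁻¹ by group, X.move hq₁ h₁ a₁, ← conj_mul,
            X.move hq h₁ w1, hzq', mul_assoc, X.sq, mul_one]))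
        have := h'.mul_right (hzq _ hq₁ c1)
        rwa [mul_inv_cancel_right] at this
    rcases X.eq_of_cen _ (mul_mem hy hbQ) hall with e | e
    · rw [show y = b⁻¹ from eq_inv_of_mul_eq_one_left e]; exact inv_mem hbA
    · rw [show y = z * b⁻¹ from eq_mul_inv_of_mul_eq e]; exact mul_mem hzA (inv_mem hbA)
  have flip : ∀ {q e : G}, q ∈ Q → e ∈ Q → ¬ Commute q e → ¬ Commute y q → Commute (y * e) q := by
    intro q e hq he hqe hyq
    refine (mul_inv_eq_iff_eq_mul.1 ?_ : Commute q (y * e)).symm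
    have h1 : q * y * q⁻¹ = y * z := X.move hq hy (fun h => hyq h.symm)
    have h2 : q * e * q⁻¹ = e * z := X.move hq he hqe
    rw [← conj_mul, h1, h2, mul_assoc y, ← mul_assoc z, (X.cen e he).eq, mul_assoc e, X.sq, mul_one]
  by_cases c1 : Commute y q₁ <;> by_cases c2 : Commute y q₂
  · exact hfin 1 (one_mem A) (one_mem Q) (Or.inl rfl) (by rwa [mul_one]) (by rwa [mul_one])
  · exact hfin e₂ h2A h₂ (Or.inr (Or.inr (Or.inl rfl))) (c1.mul_left b₁.symm) (flip hq₂ h₂ a₂ c2)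
  · exact hfin e₁ h1A h₁ (Or.inr (Or.inl rfl)) (flip hq₁ h₁ a₁ c1) (c2.mul_left b₂.symm)
  · refine hfin (e₁ * e₂) (mul_mem h1A h2A) (mul_mem h₁ h₂) (Or.inr (Or.inr (Or.inr rfl))) ?_ ?_
    · rw [← mul_assoc]; exact (flip hq₁ h₁ a₁ c1).mul_left b₁.symm
    · rw [hc.eq, ← mul_assoc]; exact (flip hq₂ h₂ a₂ c2).mul_left b₂.symm

end Dual

variable {z : G} {Q N : Subgroup G} {x : G}
variable (S : Big z Q N x) (f : Frame z Q x)

include S

theorem Qc_eq_of_center {g h : G} (e : g * z * g⁻¹ = h * z * h⁻¹) : Qc Q g = Qc Q h := by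
  have key : ∀ g h : G, g * z * g⁻¹ = h * z * h⁻¹ → Qc Q g ≤ Qc Q h := by
    intro g h e a ha
    rw [mem_Qc] at ha ⊢
    have hc : Commute (h⁻¹ * g) z := mul_inv_eq_iff_eq_mul.1 (by
      rw [show h⁻¹ * g * z * (h⁻¹ * g)⁻¹ = h⁻¹ * (g * z * g⁻¹) * h by group, e]; group)
    have := S.base.ord.normQ _ hc _ ha
    rwa [show h⁻¹ * g * (g⁻¹ * a * g) * (h⁻¹ * g)⁻¹ = h⁻¹ * a * h by group] at this
  exact le_antisymm (key g h e) (key h g e.symm)

include f

/-- adjacent extraspecial subgroups meet in order 128 -/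
theorem Big.card_adj {g : G} (hgQ : g * z * g⁻¹ ∈ Q) (hne : g * z * g⁻¹ ≠ z) :
    Nat.card (Q ⊓ Qc Q g : Subgroup G) = 2 ^ 7 := by
  obtain ⟨hI, hA⟩ := S.PA_vec f hgQ hne
  obtain ⟨p, hp, hpv⟩ := (trans hI).1 hA
  obtain ⟨c, hc⟩ := (f.range _).1 (Kp_le (inv_mem hp))
  have hcz : Commute (c : G) z := Subgroup.mem_centralizer_singleton_iff.1 c.2
  have e : (c : G) * g * z * ((c : G) * g)⁻¹ = (c : G) * (g * z * g⁻¹) * (c : G)⁻¹ := by group
  have hgQ' : (c : G) * g * z * ((c : G) * g)⁻¹ ∈ Q := by rw [e]; exact S.base.ord.normQ c hcz _ hgQ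
  have hne' : (c : G) * g * z * ((c : G) * g)⁻¹ ≠ z := fun h => hne (by
    rw [e] at h
    refine mul_left_cancel (mul_right_cancel (h.trans ?_))
    rw [hcz.eq, mul_inv_cancel_right])
  have hv : f.vec ((c : G) * g * z * ((c : G) * g)⁻¹) = va := by
    rw [e, f.vec_conj c _ hgQ, hc, ← hpv, show p⁻¹ (p va) = va from p.symm_apply_apply va]
  obtain ⟨-, h128⟩ := S.core f hgQ' hne' hv
  rw [← h128]
  refine Nat.card_congr
    { toFun := fun a => ⟨(c : G) * a * (c : G)⁻¹, S.base.ord.normQ c hcz _ a.2.1, Qc_conj _ a.2.2⟩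
      invFun := fun b => ⟨(c : G)⁻¹ * b * (c : G), ?_, ?_⟩
      left_inv := fun a => Subtype.ext (by show (c : G)⁻¹ * ((c : G) * a * (c : G)⁻¹) * c = a; group)
      right_inv := fun b => Subtype.ext (by show (c : G) * ((c : G)⁻¹ * b * c) * (c : G)⁻¹ = b; group) }
  · have := S.base.ord.normQ _ hcz.inv_left _ b.2.1
    rwa [inv_inv] at this
  · have := Qc_conj (Q := Q) (c : G)⁻¹ b.2.2
    rwa [inv_inv, inv_mul_cancel_left] at this

end Cfsg.Agent.Spor.JFour
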