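import Cfsg.Agent.Lib.Spor.JFourLoc.PentBase

/-!
The largest normal 2-subgroup of the centraliser of the elementary abelian group of order eight.
-/

set_option autoImplicit false
set_option maxRecDepth 100000
set_option linter.unusedSectionVars false

namespace Cfsg.Agent.Spor.JFour

open Cfsg.Agent.Spor.SUSix (V6)
open Cfsg.Agent.Spor.Large (XT Pair)

attribute [local irreducible] wd gP Gam Kp Chk.app

universe u

variable {G : Type u} [Group G] [Finite G]

/-- the part of a conjugate extraspecial subgroup centralising the group of order eight -/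
abbrev Mc (Q E : Subgroup G) (g : G) : Subgroup G := Qc Q g ⊓ Subgroup.centralizer (E : Set G)

/-- an element of prime order fixes an element of an invariant set of size prime to it -/
theorem set_fixed {a : G} {q : ℕ} [Fact q.Prime] (ha : a ^ q = 1) (T : Set G)
    (hT : ∀ g ∈ T, a * g * a⁻¹ ∈ T) (hq : ¬ q ∣ T.ncard) : ∃ g ∈ T, Commute g a := by
  classical
  let π : T → T := fun g => ⟨a * g.1 * a⁻¹, hT _ g.2⟩
  have hπ : Function.Injective π := fun g h e => Subtype.ext (by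
    have e' : a * g.1 * a⁻¹ = a * h.1 * a⁻¹ := congrArg Subtype.val e
    exact mul_left_cancel (mul_right_cancel e'))
  let P : Equiv.Perm T := Equiv.ofBijective π (Finite.injective_iff_bijective.1 hπ)
  have hP : ∀ (k : ℕ) (g : T), ((P ^ k) g).1 = a ^ k * g.1 * (a ^ k)⁻¹ := by
    intro k
    induction k with
    | zero => intro g; simp
    | succ k ih =>
      intro g
      rw [pow_succ', Equiv.Perm.mul_apply]
      show a * ((P ^ k) g).1 * a⁻¹ = _
      rw [ih]; group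
  have hPq : P ^ q = 1 := Equiv.ext fun g => Subtype.ext (by rw [hP, ha]; simp)
  have hpg : IsPGroup q (Subgroup.zpowers P) := by
    rintro ⟨b, l, rfl⟩
    refine ⟨1, Subtype.ext ?_⟩
    show (P ^ l) ^ q ^ 1 = 1
    rw [pow_one, ← zpow_natCast, ← zpow_mul, mul_comm, zpow_mul, zpow_natCast, hPq, one_zpow]
  have hmod := hpg.card_modEq_card_fixedPoints T
  have hne : Nat.card (MulAction.fixedPoints (Subgroup.zpowers P) T) ≠ 0 := fun e => by
    rw [e, Nat.card_coe_set_eq, Nat.modEq_zero_iff_dvd] at hmod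
    exact hq hmod
  obtain ⟨⟨g, hg⟩⟩ := (Nat.card_ne_zero.1 hne).1
  refine ⟨g.1, g.2, ?_⟩
  have e : P g = g := hg ⟨P, Subgroup.mem_zpowers P⟩
  have e' : a * g.1 * a⁻¹ = g.1 := congrArg Subtype.val e
  exact (mul_inv_eq_iff_eq_mul.1 e').symm

theorem card_sup_of_normalizes {A B : Subgroup G} (h : ∀ b ∈ B, ∀ a ∈ A, b * a * b⁻¹ ∈ A) :
    Nat.card (A ⊔ B : Subgroup G) * Nat.card (A ⊓ B : Subgroup G) = Nat.card A * Nat.card B := by
  set K := Subgroup.normalizer (A : Set G) with hK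
  have hAK : A ≤ K := Subgroup.le_normalizer
  have hBK : B ≤ K := fun b hb => Subgroup.mem_normalizer_iff.2 fun a => ⟨h b hb a, fun ha => by
    have := h b⁻¹ (inv_mem hb) _ ha
    rwa [inv_inv, show b⁻¹ * (b * a * b⁻¹) * b = a by group] at this⟩
  haveI : (A.subgroupOf K).Normal := Subgroup.normal_in_normalizer
  have hcs : Nat.card (A.subgroupOf K ⊔ B.subgroupOf K : Subgroup K) = Nat.card (A ⊔ B : Subgroup G) := by
    rw [← Subgroup.card_map_of_injective (f := K.subtype) K.subtype_injective, Subgroup.map_sup,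
      Subgroup.map_subgroupOf_eq_of_le hAK, Subgroup.map_subgroupOf_eq_of_le hBK]
  have hci : Nat.card (A.subgroupOf K ⊓ B.subgroupOf K : Subgroup K) = Nat.card (A ⊓ B : Subgroup G) := by
    rw [← Subgroup.card_map_of_injective (f := K.subtype) K.subtype_injective,
      Subgroup.map_inf _ _ _ K.subtype_injective,
      Subgroup.map_subgroupOf_eq_of_le hAK, Subgroup.map_subgroupOf_eq_of_le hBK]
  have := Solv.card_sup_mul_card_inf (A.subgroupOf K) (B.subgroupOf K)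
  rwa [hcs, hci, Nat.card_congr (Subgroup.subgroupOfEquivOfLe hAK).toEquiv,
    Nat.card_congr (Subgroup.subgroupOfEquivOfLe hBK).toEquiv] at this

variable {z : G} {Q N : Subgroup G} {x : G}

/-- the data of the largest normal 2-subgroup -/
structure Core (z : G) (Q : Subgroup G) (p : G) (E L : Subgroup G) : Prop where
  le : L ≤ Subgroup.centralizer (E : Set G)
  cardL : Nat.card L = 2 ^ 15
  cardCE : Nat.card (Subgroup.centralizer (E : Set G)) = 2 ^ 15 * 120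
  norm : ∀ c ∈ Subgroup.centralizer (E : Set G), ∀ l ∈ L, c * l * c⁻¹ ∈ L
  max : ∀ W : Subgroup G, W ≤ Subgroup.centralizer (E : Set G) → IsPGroup 2 W →
    (∀ c ∈ Subgroup.centralizer (E : Set G), ∀ w ∈ W, c * w * c⁻¹ ∈ W) → W ≤ L
  EL : E ≤ L
  self : ∀ c ∈ Subgroup.centralizer (E : Set G), p * c * p⁻¹ * c⁻¹ ∈ L → ∃ i : ℕ, ∃ l ∈ L, c = p ^ i * l
  part : ∀ g, g * z * g⁻¹ ∈ E → Mc Q E g ≤ L ∧ Nat.card (Mc Q E g) = 2 ^ 11 ∧ E ≤ Mc Q E g
  pair : ∀ g h, g * z * g⁻¹ ∈ E → h * z * h⁻¹ ∈ E → g * z * g⁻¹ ≠ h * z * h⁻¹ →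
    Mc Q E g ⊔ Mc Q E h = L ∧ Nat.card (Mc Q E g ⊓ Mc Q E h : Subgroup G) = 2 ^ 7
  dual : ∀ y ∈ Mc Q E 1, (∀ w ∈ Mc Q E 1, Commute y w) → y ∈ E

variable (S : Big z Q N x) (f : Frame z Q x)

include S f

theorem Big.pent_core {p : G} {E J : Subgroup G} {d : G} (hp : orderOf p = 5) (T : FiveTop z Q p E J d) :
    ∃ L, Core z Q p E L := by
  classical
  haveI : Fact (Nat.Prime 5) := ⟨by norm_num⟩
  haveI : Fact (Nat.Prime 2) := ⟨Nat.prime_two⟩
  have C := T.loc.ctx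
  have X := S.base.ord.xt
  have hp5 : p ^ 5 = 1 := hp ▸ pow_orderOf_eq_one p
  set CE := Subgroup.centralizer (E : Set G) with hCE
  have hce : ∀ {c}, c ∈ CE ↔ ∀ e ∈ E, Commute c e := fun {c} => by
    rw [hCE, Subgroup.mem_centralizer_iff]
    exact ⟨fun h e he => (h e he).symm, fun h e he => (h e he).eq.symm⟩
  have hinv : ∀ e ∈ E, e⁻¹ = e := fun e he => inv_eq_of_mul_eq_one_right (C.sq e he)
  have hEcomm : ∀ a ∈ E, ∀ b ∈ E, Commute a b := fun a ha b hb => by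
    show a * b = b * a
    rw [← hinv _ (mul_mem ha hb), mul_inv_rev, hinv a ha, hinv b hb]
  have hEone : Qc Q (1 : G) = Q := by ext a; exact mem_Qc_one
  -- two generators over the involution
  obtain ⟨e₁, he₁, e₁1, e₁z⟩ : ∃ e ∈ E, e ≠ 1 ∧ e ≠ z := by
    by_contra h
    push Not at h
    have hsub : (E : Set G) ⊆ {1, z} := fun e he => by
      rcases eq_or_ne e 1 with r | r
      exacts [Or.inl r, Or.inr (h e he r)]
    have := (Set.ncard_le_ncard hsub (Set.toFinite _)).trans (Set.ncard_insert_le _ _)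
    rw [← Nat.card_coe_set_eq, Set.ncard_singleton] at this
    exact absurd (C.card.symm.trans_le this) (by norm_num)
  obtain ⟨e₂, he₂, e₂1, e₂z, e₂a, e₂b⟩ : ∃ e ∈ E, e ≠ 1 ∧ e ≠ z ∧ e ≠ e₁ ∧ e ≠ e₁ * z := by
    by_contra h
    push Not at h
    have hsub : (E : Set G) ⊆ ({1, z, e₁, e₁ * z} : Set G) := fun e he => by
      rcases eq_or_ne e 1 with r | r
      · exact Or.inl r
      rcases eq_or_ne e z with r2 | r2
      · exact Or.inr (Or.inl r2)
      rcases eq_or_ne e e₁ with r3 | r3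
      exacts [Or.inr (Or.inr (Or.inl r3)), Or.inr (Or.inr (Or.inr (h e he r r2 r3)))]
    have := (Set.ncard_le_ncard hsub (Set.toFinite _)).trans ((Set.ncard_insert_le _ _).trans
      (Nat.succ_le_succ ((Set.ncard_insert_le _ _).trans (Nat.succ_le_succ (Set.ncard_insert_le _ _)))))
    rw [← Nat.card_coe_set_eq, Set.ncard_singleton] at this
    exact absurd (C.card.symm.trans_le this) (by norm_num)
  have n12 : e₁ * e₂ ≠ 1 ∧ e₁ * e₂ ≠ z := by
    refine ⟨fun e => e₂a ?_, fun e => e₂b ?_⟩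
    · rw [eq_inv_of_mul_eq_one_right e, hinv e₁ he₁]
    · rw [← e, ← mul_assoc, C.sq e₁ he₁, one_mul]
  have n21 : e₂ * e₁ ≠ 1 ∧ e₂ * e₁ ≠ z := by rw [(hEcomm e₂ he₂ e₁ he₁).eq]; exact n12
  have hgen : ∀ w, Commute w z → Commute w e₁ → Commute w e₂ → w ∈ CE := by
    intro w wz w1 w2
    refine hce.2 fun e he => ?_
    set F := E ⊓ Subgroup.centralizer ({w} : Set G) with hF
    have hm : ∀ a ∈ E, Commute w a → a ∈ F := fun a ha hc => ⟨ha, Subgroup.mem_centralizer_singleton_iff.2 hc.symm.eq⟩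
    have h5 : 5 ≤ Nat.card F := by
      have hsub : ({1, z, e₁, e₂, e₁ * z} : Set G) ⊆ F := by
        rintro a (rfl | rfl | rfl | rfl | rfl)
        exacts [one_mem F, hm _ C.zE wz, hm _ he₁ w1, hm _ he₂ w2, hm _ (mul_mem he₁ C.zE) (w1.mul_right wz)]
      refine le_of_eq_of_le ?_ ((Set.ncard_le_ncard hsub (Set.toFinite _)).trans_eq (Nat.card_coe_set_eq _).symm)
      have a1 : z ≠ e₁ * z := fun e => e₁1 (mul_eq_right.1 e.symm)
      have a2 : e₁ ≠ e₁ * z := fun e => X.ne (mul_eq_left.1 e.symm)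
      have a3 : (1 : G) ≠ e₁ * z := fun e => e₁z (by rw [eq_inv_of_mul_eq_one_left e.symm, hinv z C.zE])
      rw [Set.ncard_insert_of_notMem (by simp [X.ne.symm, e₁1.symm, e₂1.symm, a3]),
        Set.ncard_insert_of_notMem (by simp [e₁z.symm, e₂z.symm, a1]),
        Set.ncard_insert_of_notMem (by simp [e₂a.symm, a2]), Set.ncard_pair e₂b]
    have hd : Nat.card F ∣ 8 := C.card ▸ Subgroup.card_dvd_of_le inf_le_left
    have h8 : Nat.card F = 8 := by
      have := Nat.le_of_dvd (by norm_num) hd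
      interval_cases h : Nat.card F <;> simp_all
    have hFE : F = E := Subgroup.eq_of_le_of_card_ge inf_le_left (by rw [h8, C.card])
    have : e ∈ F := hFE ▸ he
    exact (Subgroup.mem_centralizer_singleton_iff.1 this.2 : Commute e w).symm
  obtain ⟨h4, hdual⟩ := dual_four X (C.EQ he₁) (C.EQ he₂) ⟨e₁1, e₁z⟩ ⟨e₂1, e₂z⟩ n12 n21 (hEcomm e₁ he₁ e₂ he₂)
  have hM1 : Mc Q E 1 = Q ⊓ Subgroup.centralizer ({e₁} : Set G) ⊓ Subgroup.centralizer ({e₂} : Set G) := by
    ext w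
    simp only [Mc, hEone, Subgroup.mem_inf, ← hCE]
    constructor
    · exact fun h => ⟨⟨h.1, Subgroup.mem_centralizer_singleton_iff.2 ((hce.1 h.2) e₁ he₁).eq⟩,
        Subgroup.mem_centralizer_singleton_iff.2 ((hce.1 h.2) e₂ he₂).eq⟩
    · exact fun h => ⟨h.1.1, hgen w (S.base.ord.qz h.1.1) (Subgroup.mem_centralizer_singleton_iff.1 h.1.2)
        (Subgroup.mem_centralizer_singleton_iff.1 h.2)⟩
  have hM1c : Nat.card (Mc Q E 1) = 2 ^ 11 := by
    rw [hM1]; rw [S.base.ord.cardQ] at h4; omega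
  -- moving inside the normaliser
  have hmove : ∀ e ∈ E, e ≠ 1 → ∃ c, c * z * c⁻¹ = e ∧ (∀ a, c * a * c⁻¹ ∈ CE ↔ a ∈ CE) ∧
      ∀ e ∈ E, c⁻¹ * e * c ∈ E := by
    intro e he e1
    obtain ⟨c, hc, hce'⟩ := T.loc.transE e he e1
    have hn : ∀ c, Commute c p → ∀ a ∈ CE, c * a * c⁻¹ ∈ CE := fun c hc a ha => hce.2 fun e he => by
      have h1 := T.loc.normal c⁻¹ hc.inv_left e he
      have := (Commute.conj_iff c).2 ((hce.1 ha) _ h1)
      rwa [show c * (c⁻¹ * e * c⁻¹⁻¹) * c⁻¹ = e by group] at this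
    exact ⟨c, hce', fun a => ⟨fun h => by
      have := hn c⁻¹ hc.inv_left _ h
      rwa [show c⁻¹ * (c * a * c⁻¹) * c⁻¹⁻¹ = a by group] at this, hn c hc a⟩, fun e he => by
      have := T.loc.normal c⁻¹ hc.inv_left e he
      rwa [inv_inv] at this⟩
  have hEQc : ∀ g, g * z * g⁻¹ ∈ E → E ≤ Mc Q E g := by
    intro g hg e he
    refine ⟨?_, hce.2 fun e' he' => hEcomm e he e' he'⟩
    rcases eq_or_ne (g * z * g⁻¹) z with r | r
    · rw [Qc_eq_of_center S (h := (1 : G)) (by rw [r]; group), hEone]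
      exact C.EQ he
    · exact C.ext g _ rfl hg r e he
  have hMcard : ∀ g, g * z * g⁻¹ ∈ E → Nat.card (Mc Q E g) = 2 ^ 11 := by
    intro g hg
    obtain ⟨c, hcz, hcn, hcE⟩ := hmove _ hg fun e => X.ne (conj_eq_one_iff.1 e)
    rw [← hM1c]
    have hQ : Qc Q g = Qc Q c := Qc_eq_of_center S hcz.symm
    refine Nat.card_congr
      { toFun := fun a => ⟨c⁻¹ * a * c, ?_, ?_⟩
        invFun := fun b => ⟨c * b * c⁻¹, ?_, (hcn _).2 b.2.2⟩
        left_inv := fun a => Subtype.ext (by show c * (c⁻¹ * (a : G) * c) * c⁻¹ = a; group)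
        right_inv := fun b => Subtype.ext (by show c⁻¹ * (c * (b : G) * c⁻¹) * c = b; group) }
    · have h1 : (a : G) ∈ Qc Q c := hQ ▸ a.2.1
      rw [hEone]; exact mem_Qc.1 h1
    · refine (hcn _).1 ?_
      rw [show c * (c⁻¹ * (a : G) * c) * c⁻¹ = a by group]
      exact a.2.2
    · show c * (b : G) * c⁻¹ ∈ Qc Q g
      rw [hQ, mem_Qc, show c⁻¹ * (c * (b : G) * c⁻¹) * c = b by group]
      exact mem_Qc_one.1 b.2.1
  have hnormM : ∀ g, g * z * g⁻¹ ∈ E → ∀ c ∈ CE, ∀ a ∈ Mc Q E g, c * a * c⁻¹ ∈ Mc Q E g := by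
    intro g hg c hc a ha
    refine ⟨?_, CE.mul_mem (CE.mul_mem hc ha.2) (CE.inv_mem hc)⟩
    rw [Qc_eq_of_center S (g := g) (h := c * g) (by
      rw [show c * g * z * (c * g)⁻¹ = c * (g * z * g⁻¹) * c⁻¹ by group, ((hce.1 hc) _ hg).eq, mul_inv_cancel_right])]
    exact Qc_conj c ha.1
  have hpair : ∀ g h, g * z * g⁻¹ ∈ E → h * z * h⁻¹ ∈ E → g * z * g⁻¹ ≠ h * z * h⁻¹ →
      Nat.card (Mc Q E g ⊓ Mc Q E h : Subgroup G) = 2 ^ 7 ∧ Nat.card (Mc Q E g ⊔ Mc Q E h : Subgroup G) = 2 ^ 15 := by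
    intro g h hg hh hne
    obtain ⟨c, hcz, hcn, hcE⟩ := hmove _ hg fun e => X.ne (conj_eq_one_iff.1 e)
    have hQ : Qc Q g = Qc Q c := Qc_eq_of_center S hcz.symm
    set k := c⁻¹ * h with hk
    have hkz : k * z * k⁻¹ = c⁻¹ * (h * z * h⁻¹) * c := by rw [hk]; group
    have hkE : k * z * k⁻¹ ∈ E := by rw [hkz]; exact hcE _ hh
    have hk1 : k * z * k⁻¹ ≠ z := fun e => hne (by
      rw [hkz] at e
      calc g * z * g⁻¹ = c * z * c⁻¹ := hcz.symm
        _ = c * (c⁻¹ * (h * z * h⁻¹) * c) * c⁻¹ := by rw [e]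
        _ = h * z * h⁻¹ := by group)
    have P := S.pair (C.EQ hkE) hk1
    have hDin : ∀ b ∈ Q ⊓ Qc Q k, b ∈ CE := fun b hb => hce.2 fun e he => by
      refine P.inter_comm hb ⟨C.EQ he, ?_⟩
      exact C.ext k _ rfl hkE hk1 e he
    have hi : Nat.card (Mc Q E g ⊓ Mc Q E h : Subgroup G) = 2 ^ 7 := by
      rw [← S.card_adj f (C.EQ hkE) hk1]
      refine Nat.card_congr
        { toFun := fun a => ⟨c⁻¹ * a * c, ?_, ?_⟩
          invFun := fun b => ⟨c * b * c⁻¹, ⟨?_, (hcn _).2 (hDin b b.2)⟩, ⟨?_, (hcn _).2 (hDin b b.2)⟩⟩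
          left_inv := fun a => Subtype.ext (by show c * (c⁻¹ * (a : G) * c) * c⁻¹ = a; group)
          right_inv := fun b => Subtype.ext (by show c⁻¹ * (c * (b : G) * c⁻¹) * c = b; group) }
      · have h1 : (a : G) ∈ Qc Q c := hQ ▸ a.2.1.1
        exact mem_Qc.1 h1
      · have h1 := Qc_conj (Q := Q) c⁻¹ a.2.2.1
        rwa [inv_inv] at h1
      · show c * (b : G) * c⁻¹ ∈ Qc Q g
        rw [hQ, mem_Qc, show c⁻¹ * (c * (b : G) * c⁻¹) * c = b by group]
        exact b.2.1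
      · have h1 := Qc_conj (Q := Q) c b.2.2
        rwa [show c * k = h by rw [hk, mul_inv_cancel_left]] at h1
    refine ⟨hi, ?_⟩
    have := card_sup_of_normalizes (A := Mc Q E g) (B := Mc Q E h) fun b hb a ha => hnormM g hg b hb.2 a ha
    rw [hi, hMcard g hg, hMcard h hh] at this
    omega
  -- one product
  have hzz : (1 : G) * z * (1 : G)⁻¹ ∈ E := by simpa using C.zE
  obtain ⟨c₁, -, hc₁z⟩ := T.loc.transE e₁ he₁ e₁1
  have hc₁E : c₁ * z * c₁⁻¹ ∈ E := hc₁z ▸ he₁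
  set L := Mc Q E 1 ⊔ Mc Q E c₁ with hL
  have hLc : Nat.card L = 2 ^ 15 :=
    (hpair 1 c₁ hzz hc₁E (by rw [hc₁z]; simpa using e₁z.symm)).2
  have hLle : L ≤ CE := sup_le inf_le_right inf_le_right
  have hLn : ∀ c ∈ CE, ∀ l ∈ L, c * l * c⁻¹ ∈ L := by
    intro c hc l hl
    have : L ≤ L.comap (MulAut.conj c).toMonoidHom := by
      refine sup_le (fun a ha => ?_) (fun a ha => ?_)
      · exact Subgroup.mem_sup_left (hnormM 1 hzz c hc a ha)
      · exact Subgroup.mem_sup_right (hnormM c₁ hc₁E c hc a ha)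
    exact this hl
  have hpCE : p ∈ CE := hce.2 fun e he => (C.com e he).symm
  have hcop : ¬ 5 ∣ Nat.card L := by rw [hLc]; norm_num
  have hEL : E ≤ L := (hEQc 1 hzz).trans le_sup_left
  have hself : ∀ c ∈ CE, p * c * p⁻¹ * c⁻¹ ∈ L → ∃ i : ℕ, ∃ l ∈ L, c = p ^ i * l := by
    intro c hc hcl
    obtain ⟨n, hn, hnc⟩ := coset_fixed hp5 (hLn p hpCE) hcop hcl
    have hncE : n * c ∈ CE := mul_mem (hLle hn) hc
    obtain ⟨i, e, he, hi⟩ := C.cent _ ((hce.1 hncE) z C.zE) hnc (hce.1 hncE)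
    refine ⟨i, (p ^ i)⁻¹ * n⁻¹ * (p ^ i) * e, mul_mem ?_ (hEL he), ?_⟩
    · have := hLn (p ^ i)⁻¹ (inv_mem (pow_mem hpCE i)) n⁻¹ (inv_mem hn)
      rwa [inv_inv] at this
    · calc c = n⁻¹ * (n * c) := by group
        _ = n⁻¹ * (p ^ i * e) := by rw [hi]
        _ = p ^ i * ((p ^ i)⁻¹ * n⁻¹ * p ^ i * e) := by group
  -- the order
  set L' := L.subgroupOf CE with hL'
  haveI : L'.Normal := ⟨fun n hn g => hLn g g.2 _ hn⟩
  set mk := QuotientGroup.mk' L' with hmk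
  set pC : CE := ⟨p, hpCE⟩ with hpC
  have hpq : orderOf (mk pC) = 5 := by
    refine orderOf_eq_prime (by rw [← map_pow, show pC ^ 5 = 1 from Subtype.ext hp5, map_one]) fun e => hcop ?_
    exact hp ▸ Subgroup.orderOf_dvd_natCard L (Subgroup.mem_subgroupOf.1 ((QuotientGroup.eq_one_iff (N := L') pC).1 e))
  have hcent : Subgroup.centralizer ({mk pC} : Set (CE ⧸ L')) = Subgroup.zpowers (mk pC) := by
    refine le_antisymm ?_ (Subgroup.zpowers_le.2 (Subgroup.mem_centralizer_singleton_iff.2 rfl))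
    intro y hy
    obtain ⟨c, rfl⟩ : ∃ c, mk c = y := QuotientGroup.mk'_surjective L' y
    have h1 : mk (pC * c * pC⁻¹ * c⁻¹) = 1 := by
      rw [map_mul, map_mul, map_mul, map_inv, map_inv, ← Subgroup.mem_centralizer_singleton_iff.1 hy]
      group
    obtain ⟨i, l, hl, hi⟩ := hself c c.2 (Subgroup.mem_subgroupOf.1 ((QuotientGroup.eq_one_iff (N := L') (pC * c * pC⁻¹ * c⁻¹)).1 h1))
    rw [show c = pC ^ i * ⟨l, hLle hl⟩ from Subtype.ext hi, map_mul, map_pow,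
      show mk ⟨l, hLle hl⟩ = 1 from (QuotientGroup.eq_one_iff (N := L') _).2 hl, mul_one]
    exact pow_mem (Subgroup.mem_zpowers _) i
  have hcardQ' : Nat.card (CE ⧸ L') * 2 ^ 15 = Nat.card CE := by
    rw [Subgroup.card_eq_card_quotient_mul_card_subgroup L', hL',
      Nat.card_congr (Subgroup.subgroupOfEquivOfLe hLle).toEquiv, hLc]
  have hbound : Nat.card (CE ⧸ L') ≤ 240 := by
    have hCEH : CE ≤ Subgroup.centralizer ({z} : Set G) := fun c hc =>
      Subgroup.mem_centralizer_singleton_iff.2 ((hce.1 hc) z C.zE).eq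
    set φ := f.π.comp (Subgroup.inclusion hCEH) with hφ
    set v := f.vec (c₁ * z * c₁⁻¹) with hv
    obtain ⟨hI, hA⟩ := S.PA_vec f (C.EQ hc₁E) (by rw [hc₁z]; exact e₁z)
    have hst := card_stab (K := Gam) (v := v) (S := {w : V6 | PI w ∧ PA w})
      (fun g hg => ⟨(Gam_le_Pres hg v).2.2 hI, (Gam_le_Pres hg v).1.2 hA⟩)
      (fun w hw => by
        obtain ⟨g, hg, hgw⟩ := (trans hw.1).1 hw.2
        obtain ⟨q₀, hq₀, hq₀v⟩ := (trans hI).1 hA
        refine ⟨g * q₀⁻¹, mul_mem (Kp_le hg) (inv_mem (Kp_le hq₀)), ?_⟩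
        rw [Equiv.Perm.mul_apply, show q₀⁻¹ v = va from by rw [hv, ← hq₀v]; exact q₀.symm_apply_apply va, hgw])
    rw [card_Gam f.mdl, count_A.1] at hst
    have hr : φ.range ≤ Gam ⊓ fixv v := by
      rintro _ ⟨c, rfl⟩
      refine ⟨(f.range _).2 ⟨_, rfl⟩, ?_⟩
      show f.π _ ∈ fixv v
      rw [mem_fixv, hv, ← f.vec_conj _ _ (C.EQ hc₁E)]
      congr 1
      show (c : G) * (c₁ * z * c₁⁻¹) * (c : G)⁻¹ = _
      rw [((hce.1 c.2) _ hc₁E).eq, mul_inv_cancel_right]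
    have hk : Nat.card φ.ker = 2 ^ 11 := by
      rw [← hM1c]
      exact Nat.card_congr
        { toFun := fun k => ⟨((k : CE) : G), mem_Qc_one.2 ((f.ker _).1 k.2), (k : CE).2⟩
          invFun := fun r => ⟨⟨r, r.2.2⟩, (f.ker _).2 (mem_Qc_one.1 r.2.1)⟩
          left_inv := fun _ => rfl
          right_inv := fun _ => rfl }
    have h := Subgroup.card_eq_card_quotient_mul_card_subgroup φ.ker
    rw [hk, Nat.card_congr (QuotientGroup.quotientKerEquivRange φ).toEquiv, ← hcardQ'] at h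
    have := Subgroup.card_le_of_le hr
    omega
  have h120 : Nat.card (CE ⧸ L') = 120 := by
    have hdC : d ∈ CE := hce.2 T.dE
    have hdp : mk ⟨d, hdC⟩ * mk pC * (mk ⟨d, hdC⟩)⁻¹ = mk pC ^ 2 := by
      rw [← map_mul, ← map_inv, ← map_mul, ← map_pow]
      exact congrArg mk (Subtype.ext T.dp)
    set D := mk ⟨d, hdC⟩ with hD
    set Pb := mk pC with hPb
    have hP5 : Pb ^ 5 = 1 := hpq ▸ pow_orderOf_eq_one Pb
    have hD4 : D ^ 4 = 1 := by
      rw [hD, ← map_pow, show (⟨d, hdC⟩ : CE) ^ 4 = 1 from Subtype.ext T.d4, map_one]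
    have hPne : Pb ≠ 1 := fun e => by rw [e, orderOf_one] at hpq; norm_num at hpq
    have hDo : orderOf D = 4 := by
      refine orderOf_eq_prime_pow (p := 2) (n := 1) (fun e => hPne ?_) hD4
      have h2 : D ^ 2 * Pb * (D ^ 2)⁻¹ = Pb ^ 4 := by
        rw [pow_two, show D * D * Pb * (D * D)⁻¹ = D * (D * Pb * D⁻¹) * D⁻¹ by group, hdp, ← conj_pow, hdp, ← pow_mul]
      rw [pow_one] at e
      rw [e, inv_one, mul_one, one_mul] at h2
      have h3 : Pb ^ 3 = 1 := by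
        rw [pow_succ' Pb 3] at h2
        exact mul_left_cancel (a := Pb) (by rw [mul_one]; exact h2.symm)
      calc Pb = (Pb ^ 3) ^ 2 * (Pb ^ 5)⁻¹ := by group
        _ = 1 := by rw [h3, hP5]; group
    have h5 : 5 ∣ Nat.card (CE ⧸ L') := hpq ▸ orderOf_dvd_natCard Pb
    have h25 : ¬ 5 * 5 ∣ Nat.card (CE ⧸ L') := fun h => T.n25
      ((h.trans (Subgroup.card_quotient_dvd_card L')).trans CE.card_subgroup_dvd_card)
    obtain ⟨m, n, hm, hn, hNc, hYc⟩ := M22U.PrimeCount.card_normalizer (G := CE ⧸ L') (p := 5) (by norm_num) h5 h25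
      (X := Subgroup.zpowers Pb) (by rw [Nat.card_zpowers, hpq])
    have hC5 : Nat.card (Subgroup.centralizer ((Subgroup.zpowers Pb : Subgroup (CE ⧸ L')) : Set (CE ⧸ L'))) = 5 := by
      rw [Subgroup.zpowers_eq_closure, Subgroup.centralizer_closure, hcent, Nat.card_zpowers, hpq]
    rw [hC5] at hNc hYc
    have hDN : D ∈ Subgroup.normalizer (Subgroup.zpowers Pb : Set (CE ⧸ L')) := mem_norm_zpowers.2 (by
      rw [hdp]; exact pow_mem (Subgroup.mem_zpowers _) 2)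
    have h4d := hDo ▸ Subgroup.orderOf_dvd_natCard _ hDN
    rw [hNc] at h4d
    have hm4 : m ≤ 4 := Nat.le_of_dvd (by norm_num) hm
    have h3 : 3 ∣ Nat.card (CE ⧸ L') := by
      obtain ⟨r, hr3, hrE⟩ := C.three
      have hrC : r ∈ CE := hce.2 hrE
      haveI : Fact (Nat.Prime 3) := ⟨Nat.prime_three⟩
      have : orderOf (mk ⟨r, hrC⟩) = 3 := orderOf_eq_prime
        (by rw [← map_pow, show (⟨r, hrC⟩ : CE) ^ 3 = 1 from Subtype.ext (hr3 ▸ pow_orderOf_eq_one r), map_one])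
        fun e => by
          have := hr3 ▸ Subgroup.orderOf_dvd_natCard L (Subgroup.mem_subgroupOf.1 ((QuotientGroup.eq_one_iff (N := L') (⟨r, hrC⟩ : CE)).1 e))
          rw [hLc] at this
          norm_num at this
      exact this ▸ orderOf_dvd_natCard _
    have : m = 4 := by interval_cases m <;> omega
    subst this
    omega
  have hmax : ∀ W : Subgroup G, W ≤ CE → IsPGroup 2 W → (∀ c ∈ CE, ∀ w ∈ W, c * w * c⁻¹ ∈ W) → W ≤ L := by
    intro W hW hW2 hWn
    set Wb := (W.subgroupOf CE).map mk with hWb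
    have hWb2 : IsPGroup 2 Wb := (hW2.of_equiv (Subgroup.subgroupOfEquivOfLe hW).symm).map mk
    obtain ⟨k, hk⟩ := IsPGroup.iff_card.1 hWb2
    have hk3 : k ≤ 3 := by
      by_contra h
      push Not at h
      have : 2 ^ 4 ∣ 120 := (pow_dvd_pow 2 h).trans (hk ▸ h120 ▸ Wb.card_subgroup_dvd_card)
      norm_num at this
    by_contra hno
    obtain ⟨w, hw, hwL⟩ := SetLike.not_le_iff_exists.1 hno
    have hne : Wb ≠ ⊥ := fun e => by
      have hm : mk ⟨w, hW hw⟩ ∈ Wb := ⟨⟨w, hW hw⟩, hw, rfl⟩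
      rw [e, Subgroup.mem_bot] at hm
      exact hwL (Subgroup.mem_subgroupOf.1 ((QuotientGroup.eq_one_iff (N := L') (⟨w, hW hw⟩ : CE)).1 hm))
    have hP5 : mk pC ^ 5 = 1 := hpq ▸ pow_orderOf_eq_one (mk pC)
    obtain ⟨y, ⟨hy, hy1⟩, hyp⟩ := set_fixed (q := 5) hP5 ((Wb : Set (CE ⧸ L')) \ {1})
      (by
        rintro y ⟨⟨a, ha, rfl⟩, h1⟩
        exact ⟨⟨pC * a * pC⁻¹, hWn p hpCE _ ha, by rw [map_mul, map_mul, map_inv]⟩,
          fun e => h1 (conj_eq_one_iff.1 e)⟩)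
      (by
        have hc : ((Wb : Set (CE ⧸ L')) \ {1}).ncard + 1 = 2 ^ k := by
          rw [Set.ncard_diff_singleton_add_one (one_mem Wb) (Set.toFinite _), ← hk, ← Nat.card_coe_set_eq]
          rfl
        have hk0 : k ≠ 0 := fun e => hne (Subgroup.eq_bot_of_card_eq _ (by rw [hk, e, pow_zero]))
        intro h5
        rcases (show k = 1 ∨ k = 2 ∨ k = 3 by omega) with rfl | rfl | rfl <;> simp only [Nat.reducePow] at hc <;> omega)
    have hyc : y ∈ Subgroup.zpowers (mk pC) := hcent ▸ Subgroup.mem_centralizer_singleton_iff.2 hyp.eq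
    have hd1 := Subgroup.orderOf_dvd_natCard _ hyc
    have hd2 := Subgroup.orderOf_dvd_natCard _ hy
    rw [Nat.card_zpowers, hpq] at hd1
    rw [hk] at hd2
    exact hy1 (orderOf_eq_one_iff.1 (Nat.eq_one_of_dvd_coprimes
      ((show Nat.Coprime 5 2 by norm_num).pow_right k) hd1 hd2))
  have hML : ∀ g, g * z * g⁻¹ ∈ E → Mc Q E g ≤ L := fun g hg =>
    hmax _ inf_le_right (IsPGroup.of_card (n := 11) (hMcard g hg)) fun c hc w hw => hnormM g hg c hc w hw
  refine ⟨L, hLle, hLc, by rw [← hcardQ', h120]; ring, hLn, hmax, hEL, hself,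
    fun g hg => ⟨hML g hg, hMcard g hg, hEQc g hg⟩, fun g h hg hh hne => ⟨?_, (hpair g h hg hh hne).1⟩, ?_⟩
  · exact Subgroup.eq_of_le_of_card_ge (sup_le (hML g hg) (hML h hh)) (by rw [hLc, (hpair g h hg hh hne).2])
  · intro y hy hw
    refine hdual E C.zE he₁ he₂ y (mem_Qc_one.1 hy.1) fun w hwQ w1 w2 => hw w ?_
    rw [hM1]
    exact ⟨⟨hwQ, Subgroup.mem_centralizer_singleton_iff.2 w1.eq⟩, Subgroup.mem_centralizer_singleton_iff.2 w2.eq⟩

end Cfsg.Agent.Spor.JFour
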