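import Cfsg.Agent.Lib.Spor.MathieuOutTwo
import Cfsg.Agent.Lib.Small.PSLn.Simple

/-!
Automorphisms of M22 as the stabiliser of a pair of points, and simplicity of the group of order 168
(light copies, to avoid heavy imports).
-/

set_option autoImplicit false
set_option maxRecDepth 100000

namespace Cfsg.Agent.Spor.JFour.Pent

open Cfsg Cfsg.Agent.Spor
open scoped Pointwise
open Cfsg.Agent.Spor.MathieuOutTwo (o₀ actM22 stab_M22_inj aut_M22_conj)

theorem zmod2_ne : ∀ c : ZMod 2, c ≠ 0 → c = 1 := by decide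

theorem sl_three_two_simple : IsSimpleGroup (Matrix.SpecialLinearGroup (Fin 3) (ZMod 2)) := by
  haveI : Fact (Nat.Prime 2) := ⟨Nat.prime_two⟩
  haveI := Small.PSLn.psl_simple (F := ZMod 2) (n := 3) le_rfl
  let q : Matrix.SpecialLinearGroup (Fin 3) (ZMod 2) ≃* Matrix.ProjectiveSpecialLinearGroup (Fin 3) (ZMod 2) :=
    MulEquiv.ofBijective (QuotientGroup.mk' _) ⟨(injective_iff_map_eq_one _).2 fun A hA => by
      obtain ⟨r, hr, hA'⟩ := Matrix.SpecialLinearGroup.mem_center_iff.1 ((QuotientGroup.eq_one_iff A).1 hA)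
      have hr1 : r = 1 := zmod2_ne r fun e => by
        rw [e, zero_pow Fintype.card_ne_zero] at hr
        exact zero_ne_one hr
      refine Subtype.ext ?_
      rw [← hA', hr1, map_one]
      rfl, QuotientGroup.mk'_surjective _⟩
  exact q.isSimpleGroup

/-- the two fixed points -/
def pair0 : Finset GolayPt := {none, o₀}

/-- the stabiliser of the pair -/
def StP : Subgroup (Equiv.Perm GolayPt) := Cfsg.M24 ⊓ MulAction.stabilizer (Equiv.Perm GolayPt) pair0

theorem pair0_ne : (none : GolayPt) ≠ o₀ := Option.some_ne_none _ ∘ Eq.symm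

theorem pair0_card : pair0.card = 2 := Finset.card_pair pair0_ne

theorem StP_cases {v : Equiv.Perm GolayPt} (h : v • pair0 = pair0) :
    (v none = none ∧ v o₀ = o₀) ∨ (v none = o₀ ∧ v o₀ = none) := by
  have hm : ∀ a ∈ pair0, v a = none ∨ v a = o₀ := fun a ha => by
    have := Finset.smul_mem_smul_finset (a := v) ha
    rw [h] at this
    simpa [pair0] using this
  rcases hm none (by simp [pair0]) with e | e <;> rcases hm o₀ (by simp [pair0]) with e' | e'
  · exact absurd (v.injective (e.trans e'.symm)) pair0_ne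
  · exact Or.inl ⟨e, e'⟩
  · exact Or.inr ⟨e, e'⟩
  · exact absurd (v.injective (e.trans e'.symm)) pair0_ne

theorem StP_norm {u : Equiv.Perm GolayPt} (hu : u ∈ StP) {g : Equiv.Perm GolayPt} (hg : g ∈ Cfsg.Spor.M22) :
    u * g * u⁻¹ ∈ Cfsg.Spor.M22 := by
  have hfix : ∀ a ∈ pair0, g a = a := fun a ha => by
    simp only [pair0, Finset.mem_insert, Finset.mem_singleton] at ha
    rcases ha with rfl | rfl
    exacts [hg.1.2, hg.2]
  have key : ∀ a ∈ pair0, (u * g * u⁻¹) a = a := fun a ha => by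
    have h1 : u⁻¹ a ∈ pair0 := by
      have := Finset.smul_mem_smul_finset (a := u⁻¹) ha
      rwa [inv_smul_eq_iff.2 (show u • pair0 = pair0 from hu.2).symm] at this
    rw [Equiv.Perm.mul_apply, Equiv.Perm.mul_apply, hfix _ h1]
    exact u.apply_symm_apply a
  exact ⟨⟨Subgroup.mul_mem _ (Subgroup.mul_mem _ hu.1 hg.1.1) (Subgroup.inv_mem _ hu.1), key none (by simp [pair0])⟩,
    key o₀ (by simp [pair0])⟩

/-- conjugation -/
def toAutM22 : StP →* MulAut Cfsg.Spor.M22 where
  toFun u :=
    { toFun := fun g => ⟨(u : Equiv.Perm GolayPt) * g * (u : Equiv.Perm GolayPt)⁻¹, StP_norm u.2 g.2⟩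
      invFun := fun g => ⟨(u : Equiv.Perm GolayPt)⁻¹ * g * (u : Equiv.Perm GolayPt)⁻¹⁻¹, StP_norm (inv_mem u.2) g.2⟩
      left_inv := fun g => Subtype.ext (by simp [mul_assoc])
      right_inv := fun g => Subtype.ext (by simp [mul_assoc])
      map_mul' := fun g h => Subtype.ext (by simp [mul_assoc]) }
  map_one' := MulEquiv.ext fun g => Subtype.ext (by simp)
  map_mul' u v := MulEquiv.ext fun g => Subtype.ext (by simp [mul_assoc])

theorem toAutM22_bij : Function.Bijective toAutM22 := by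
  refine ⟨?_, fun α => ?_⟩
  · rw [← MonoidHom.ker_eq_bot_iff, eq_bot_iff]
    intro u hu
    rw [Subgroup.mem_bot]
    refine Subtype.ext ?_
    have hvc : ∀ g : Cfsg.Spor.M22,
        (u : Equiv.Perm GolayPt) * g * (u : Equiv.Perm GolayPt)⁻¹ = (g : Equiv.Perm GolayPt) :=
      fun g => congrArg Subtype.val (MulEquiv.congr_fun (MonoidHom.mem_ker.1 hu) g)
    set v : Equiv.Perm GolayPt := (u : Equiv.Perm GolayPt)
    have hcase := StP_cases (show v • pair0 = pair0 from u.2.2)
    letI := actM22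
    refine eq_one_of_fix_ten u.2.1 (F := pair0ᶜ) (by
      rw [Finset.card_compl, pair0_card, Fintype.card_option, ZMod.card]; norm_num) fun p hp => ?_
    simp only [pair0, Finset.mem_compl, Finset.mem_insert, Finset.mem_singleton, not_or] at hp
    have hv1 : v p ≠ none ∧ v p ≠ o₀ := by
      rcases hcase with ⟨a, b⟩ | ⟨a, b⟩
      · exact ⟨fun e => hp.1 (v.injective (e.trans a.symm)), fun e => hp.2 (v.injective (e.trans b.symm))⟩
      · exact ⟨fun e => hp.2 (v.injective (e.trans b.symm)), fun e => hp.1 (v.injective (e.trans a.symm))⟩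
    have := stab_M22_inj ⟨v p, hv1⟩ ⟨p, hp⟩ (by
      ext g
      rw [MulAction.mem_stabilizer_iff, MulAction.mem_stabilizer_iff, Subtype.ext_iff, Subtype.ext_iff]
      show (g : Equiv.Perm GolayPt) (v p) = v p ↔ (g : Equiv.Perm GolayPt) p = p
      conv_lhs => rw [← hvc g]
      rw [Equiv.Perm.mul_apply, Equiv.Perm.mul_apply, show v⁻¹ (v p) = p from v.symm_apply_apply p]
      exact v.injective.eq_iff)
    exact congrArg Subtype.val this
  · obtain ⟨τ, hτ, hcase, hτg⟩ := aut_M22_conj α
    refine ⟨⟨τ, hτ, ?_⟩, MulEquiv.ext fun g => Subtype.ext (hτg g)⟩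
    show τ • pair0 = pair0
    rw [pair0, Finset.smul_finset_def, Finset.image_insert, Finset.image_singleton]
    show ({τ none, τ o₀} : Finset GolayPt) = _
    rcases hcase with ⟨a, b⟩ | ⟨a, b⟩ <;> rw [a, b]
    exact Finset.pair_comm _ _

end Cfsg.Agent.Spor.JFour.Pent
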