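import Cfsg.Agent.Lib.Classical.SymSix
import Cfsg.Agent.Lib.Spor.M22UPrimeCount

/-!
A normal subgroup of order 120 with a self-centralising subgroup of order five splits off as a symmetric group.
-/

set_option autoImplicit false
set_option linter.unusedSectionVars false

namespace Cfsg.Agent.Spor.JFour.Pent

open Cfsg.Agent.Classical.SymSix (G6 exists_auto)
open scoped Pointwise

universe u

/-- the stabiliser of a point among six is the symmetric group on the other five -/
theorem stab_six_iso : Nonempty (↥(MulAction.stabilizer G6 (0 : Fin 6)) ≃* Equiv.Perm (Fin 5)) := by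
  classical
  let e : Option (Fin 5) ≃ Fin 6 := (finSuccEquiv 5).symm
  let φ : Equiv.Perm (Fin 5) →* G6 :=
    { toFun := fun s => e.permCongr (Equiv.optionCongr s)
      map_one' := by ext a; simp
      map_mul' := fun s t => by
        ext a
        simp only [Equiv.Perm.mul_apply, Equiv.permCongr_apply, Equiv.symm_apply_apply]
        rcases e.symm a with _ | b <;> rfl }
  have hφ : Function.Injective φ := fun s t h =>
    Equiv.optionCongr_injective (e.permCongr.injective h)
  have hle : ∀ s, φ s ∈ MulAction.stabilizer G6 (0 : Fin 6) := fun s => by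
    rw [MulAction.mem_stabilizer_iff]
    show e (Equiv.optionCongr s (e.symm 0)) = 0
    have h0 : e.symm 0 = none := by simp [e]
    rw [h0]
    show e none = 0
    simp [e]
  let ψ : Equiv.Perm (Fin 5) →* MulAction.stabilizer G6 (0 : Fin 6) := φ.codRestrict _ hle
  have hψ : Function.Injective ψ := fun s t h => hφ (congrArg Subtype.val h)
  refine ⟨(MulEquiv.ofBijective ψ ((Nat.bijective_iff_injective_and_card ψ).2 ⟨hψ, ?_⟩)).symm⟩
  have h := MulAction.index_stabilizer G6 (0 : Fin 6)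
  have ho : MulAction.orbit G6 (0 : Fin 6) = Set.univ :=
    Set.eq_univ_of_forall fun b => ⟨Equiv.swap 0 b, by simp⟩
  rw [ho, Set.ncard_univ, Nat.card_fin] at h
  have h2 := Subgroup.card_mul_index (MulAction.stabilizer G6 (0 : Fin 6))
  rw [h, Nat.card_perm, Nat.card_fin] at h2
  rw [Nat.card_perm, Nat.card_fin]
  simp only [Nat.factorial] at h2 ⊢
  omega

/-- the splitting -/
theorem sym_five_split {W : Type u} [Group W] [Finite W] (Y : Subgroup W) [Y.Normal] (hY : Nat.card Y = 120)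
    (P : Subgroup Y) (hP : Nat.card P = 5) (hC : Subgroup.centralizer (P : Set Y) = P) :
    ∃ Θ : W →* Equiv.Perm (Fin 5), Function.Bijective (Θ.comp Y.subtype) := by
  classical
  haveI : Fact (Nat.Prime 5) := ⟨by norm_num⟩
  have h1 : 5 ∣ Nat.card Y := by rw [hY]; norm_num
  have h2 : ¬ 5 * 5 ∣ Nat.card Y := by rw [hY]; norm_num
  obtain ⟨m, n, hm, hn, hN, hc⟩ := M22U.PrimeCount.card_normalizer (G := Y) (by norm_num) h1 h2 hP
  rw [hC, hP] at hN hc
  obtain ⟨P₀, hP₀⟩ := M22U.PrimeCount.sylow_of_card (G := Y) (by norm_num) h1 h2 hP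
  have h6 : Nat.card (Sylow 5 Y) = 6 := by
    rw [Sylow.card_eq_index_normalizer P₀, show (P₀ : Set Y) = (P : Set Y) from congrArg SetLike.coe hP₀]
    have hi := Subgroup.card_mul_index (Subgroup.normalizer (P : Set Y))
    rw [hN, hY] at hi
    rw [hY] at hc
    have hm4 : m ≤ 4 := Nat.le_of_dvd (by norm_num) hm
    interval_cases m <;> omega
  haveI : Fintype (Sylow 5 Y) := Fintype.ofFinite _
  let e : Sylow 5 Y ≃ Fin 6 := Fintype.equivFinOfCardEq (by rw [← Nat.card_eq_fintype_card, h6])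
  let Φ : W →* G6 := e.permCongrHom.toMonoidHom.comp
    ((MulAction.toPermHom (MulAut Y) (Sylow 5 Y)).comp MulAut.conjNormal)
  have hΦ : ∀ (y : Y) (Q : Sylow 5 Y), e (y • Q) = Φ (y : W) (e Q) := by
    intro y Q
    show _ = e ((MulAut.conjNormal (y : W) : MulAut Y) • (e.symm (e Q)))
    rw [e.symm_apply_apply, Sylow.smul_def]
    congr 2
  have hinj : Function.Injective (Φ.comp Y.subtype) := by
    rw [← MonoidHom.ker_eq_bot_iff]
    set K := (Φ.comp Y.subtype).ker with hK
    have hfix : ∀ y ∈ K, ∀ Q : Sylow 5 Y, y • Q = Q := fun y hy Q => e.injective (by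
      rw [hΦ y Q, show Φ (y : W) = 1 from hy, Equiv.Perm.one_apply])
    rw [Subgroup.eq_bot_iff_forall]
    intro y hy
    have hyN : y ∈ Subgroup.normalizer (P : Set Y) := by
      have := Sylow.smul_eq_iff_mem_normalizer.1 (hfix y hy P₀)
      rwa [show (P₀ : Set Y) = (P : Set Y) from congrArg SetLike.coe hP₀] at this
    have hKP : K ⊓ P = ⊥ := by
      rw [Subgroup.eq_bot_iff_forall]
      rintro b ⟨hbK, hbP⟩
      by_contra hb1
      have hall : ∀ Q : Sylow 5 Y, Q = P₀ := by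
        intro Q
        have hbN : b ∈ Subgroup.normalizer ((Q : Subgroup Y) : Set Y) :=
          Sylow.smul_eq_iff_mem_normalizer.1 (hfix b hbK Q)
        have hb : b ∈ (P₀ : Subgroup Y) ⊓ (Q : Subgroup Y) := by
          rw [← P₀.2.inf_normalizer_sylow Q]
          exact ⟨hP₀.symm ▸ hbP, hbN⟩
        have hPQ : (P₀ : Subgroup Y) ≤ Q := by
          have hb' : b ∈ (P₀ : Subgroup Y) := hb.1
          have : Subgroup.zpowers b = (P₀ : Subgroup Y) := by
            refine Subgroup.eq_of_le_of_card_ge (Subgroup.zpowers_le.2 hb') ?_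
            have hd := Subgroup.orderOf_dvd_natCard _ hb'
            rw [hP₀, hP] at hd
            rcases (Nat.dvd_prime (by norm_num)).1 hd with e' | e'
            · exact absurd (orderOf_eq_one_iff.1 e') hb1
            · rw [hP₀, hP, Nat.card_zpowers, e']
          rw [← this]
          exact Subgroup.zpowers_le.2 hb.2
        exact Sylow.ext ((P₀.3 Q.2 hPQ))
      haveI : Subsingleton (Sylow 5 Y) := ⟨fun a b => (hall a).trans (hall b).symm⟩
      rw [Nat.card_of_subsingleton P₀] at h6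
      omega
    have hycent : y ∈ Subgroup.centralizer (P : Set Y) := by
      refine Subgroup.mem_centralizer_iff.2 fun a ha => ?_
      have h : y * a * y⁻¹ * a⁻¹ ∈ K ⊓ P := by
        refine ⟨?_, P.mul_mem ((Subgroup.mem_normalizer_iff.1 hyN a).1 ha) (P.inv_mem ha)⟩
        have hnK : a * y⁻¹ * a⁻¹ ∈ K := (MonoidHom.normal_ker (Φ.comp Y.subtype)).conj_mem _ (K.inv_mem hy) a
        have := mul_mem hy hnK
        rwa [show y * (a * y⁻¹ * a⁻¹) = y * a * y⁻¹ * a⁻¹ by group] at this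
      rw [hKP, Subgroup.mem_bot, mul_inv_eq_one, mul_inv_eq_iff_eq_mul] at h
      exact h.symm
    rw [hC] at hycent
    exact Subgroup.mem_bot.1 (hKP ▸ (⟨hy, hycent⟩ : y ∈ K ⊓ P))
  set R0 := (Φ.comp Y.subtype).range with hR0
  have hR0c : Nat.card R0 = 120 := by
    rw [← hY]; exact (Nat.card_congr (MonoidHom.ofInjective hinj).toEquiv).symm
  have hidx : R0.index = 6 := by
    have := Subgroup.card_mul_index R0
    rw [hR0c, Nat.card_perm, Nat.card_fin, show Nat.factorial 6 = 720 from rfl] at this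
    omega
  obtain ⟨φ, hφ⟩ := exists_auto R0 hidx
  let Ψ : W →* G6 := φ.toMonoidHom.comp Φ
  have hYs : ∀ y : Y, Ψ (y : W) ∈ MulAction.stabilizer G6 (0 : Fin 6) := fun y => by
    have : Φ (y : W) ∈ R0 := ⟨y, rfl⟩
    rw [hφ] at this
    exact this
  have hmem : ∀ s ∈ MulAction.stabilizer G6 (0 : Fin 6), ∃ y : Y, Ψ (y : W) = s := fun s hs => by
    obtain ⟨r, rfl⟩ := φ.surjective s
    have : r ∈ R0 := by rw [hφ]; exact hs
    obtain ⟨y, hy⟩ := this
    exact ⟨y, congrArg φ hy⟩
  have hall : ∀ w : W, Ψ w ∈ MulAction.stabilizer G6 (0 : Fin 6) := by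
    intro w
    rw [MulAction.mem_stabilizer_iff]
    by_contra hne
    obtain ⟨b, hb0, hbw⟩ : ∃ b : Fin 6, b ≠ 0 ∧ b ≠ Ψ w • (0 : Fin 6) :=
      (show ∀ c : Fin 6, ∃ b : Fin 6, b ≠ 0 ∧ b ≠ c by decide) _
    obtain ⟨c, hc0, hcb, hcw⟩ : ∃ c : Fin 6, c ≠ 0 ∧ c ≠ b ∧ c ≠ Ψ w • (0 : Fin 6) :=
      (show ∀ b d : Fin 6, ∃ c : Fin 6, c ≠ 0 ∧ c ≠ b ∧ c ≠ d by decide) _ _
    -- a transposition moving the image point would be conjugated into the stabiliser
    set s : G6 := Equiv.swap (Ψ w • (0 : Fin 6)) b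
    have hs : s ∈ MulAction.stabilizer G6 (0 : Fin 6) := by
      rw [MulAction.mem_stabilizer_iff]
      exact Equiv.swap_apply_of_ne_of_ne (Ne.symm hne) hb0.symm
    obtain ⟨y, hy⟩ := hmem s hs
    have hy' := hYs ⟨w⁻¹ * y * w⁻¹⁻¹, (inferInstance : Y.Normal).conj_mem _ y.2 w⁻¹⟩
    rw [MulAction.mem_stabilizer_iff] at hy'
    have e1 : Ψ (w⁻¹ * y * w⁻¹⁻¹) = (Ψ w)⁻¹ * s * Ψ w := by
      rw [inv_inv, map_mul, map_mul, map_inv, hy]
    change Ψ (w⁻¹ * y * w⁻¹⁻¹) • (0 : Fin 6) = 0 at hy'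
    rw [e1, mul_smul, mul_smul, inv_smul_eq_iff] at hy'
    refine hbw ?_
    rw [← hy']
    exact (Equiv.swap_apply_left _ _).symm
  obtain ⟨ι⟩ := stab_six_iso
  refine ⟨ι.toMonoidHom.comp (Ψ.codRestrict _ hall), ?_, ?_⟩
  · intro a b h
    exact hinj (φ.injective (congrArg Subtype.val (ι.injective h)))
  · intro s
    obtain ⟨y, hy⟩ := hmem _ (ι.symm s).2
    refine ⟨y, ?_⟩
    have h2 : (Ψ.codRestrict _ hall) (y : W) = ι.symm s := Subtype.ext hy
    show ι ((Ψ.codRestrict _ hall) (y : W)) = s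
    rw [h2, ι.apply_symm_apply]

end Cfsg.Agent.Spor.JFour.Pent
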