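import Cfsg.Agent.Lib.Spor.JFourLoc.PentCore
import Cfsg.Agent.Lib.Spor.JFourLoc.PentSym

/-!
The quotient of the normaliser by the largest normal 2-subgroup, and the element of order seven.
-/

set_option autoImplicit false
set_option maxRecDepth 100000
set_option linter.unusedSectionVars false

namespace Cfsg.Agent.Spor.JFour

open Cfsg.Agent.Spor.SUSix (V6)

attribute [local irreducible] wd gP Gam Kp Chk.app

universe u

variable {G : Type u} [Group G] [Finite G] {z : G} {Q N : Subgroup G} {x : G}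

/-- facts about an element of order seven of the complement part and about the quotient -/
structure PQuot (E J L : Subgroup G) (p σ : G) : Prop where
  memJ : σ ∈ J
  ord : orderOf σ = 7
  comp : Commute σ p
  free : ∀ e ∈ E, Commute σ e → e = 1
  normE : σ ∈ Subgroup.normalizer (E : Set G)
  normL : ∀ n ∈ Subgroup.normalizer (E : Set G), ∀ l ∈ L, n * l * n⁻¹ ∈ L
  fix : ∀ c ∈ Subgroup.centralizer (E : Set G), ∃ n ∈ L, Commute (n * c) σ
  n49 : ¬ 49 ∣ Nat.card G
  c840 : Nat.card (Subgroup.centralizer ({σ} : Set G)) = 840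
  n2520 : Nat.card (Subgroup.normalizer (Subgroup.zpowers σ : Set G)) = 2520
  cardN : Nat.card (Subgroup.normalizer (E : Set G)) = 2 ^ 15 * 120 * 168
  three : ∃ a ∈ Subgroup.centralizer (E : Set G), orderOf a = 3 ∧ Commute a σ
  hom : ∃ Φ : ↥(Subgroup.normalizer (E : Set G)) →* Equiv.Perm (Fin 5) × Matrix.SpecialLinearGroup (Fin 3) (ZMod 2),
    Function.Surjective Φ ∧ (∀ n, Φ n = 1 ↔ (n : G) ∈ L) ∧
      ∀ n, (Φ n).2 = 1 ↔ (n : G) ∈ Subgroup.centralizer (E : Set G)

variable (S : Big z Q N x) (f : Frame z Q x)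

include S f

theorem Big.pent_quot {p : G} {E J L : Subgroup G} {d : G} (hp : orderOf p = 5) (T : FiveTop z Q p E J d)
    (C : Core z Q p E L) : ∃ σ, PQuot E J L p σ := by
  classical
  haveI : Fact (Nat.Prime 5) := ⟨by norm_num⟩
  haveI : Fact (Nat.Prime 7) := ⟨by norm_num⟩
  haveI : Fact (Nat.Prime 3) := ⟨Nat.prime_three⟩
  have hC := T.loc.ctx
  set NE := Subgroup.normalizer (E : Set G) with hNE
  set CE := Subgroup.centralizer (E : Set G) with hCE
  have hCEN : CE ≤ NE := Subgroup.centralizer_le_normalizer _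
  have hce : ∀ {c}, c ∈ CE ↔ ∀ e ∈ E, Commute c e := fun {c} => by
    rw [hCE, Subgroup.mem_centralizer_iff]
    exact ⟨fun h e he => (h e he).symm, fun h e he => (h e he).eq.symm⟩
  have hmemNE : ∀ {n}, (∀ e ∈ E, n * e * n⁻¹ ∈ E) → n ∈ NE := fun {n} h =>
    Subgroup.mem_normalizer_fintype fun e he => h e he
  have hact : ∀ n ∈ NE, ∀ e ∈ E, n * e * n⁻¹ ∈ E := fun n hn e he => (Subgroup.mem_normalizer_iff.1 hn e).1 he
  have hconjCE : ∀ n ∈ NE, ∀ c ∈ CE, n * c * n⁻¹ ∈ CE := fun n hn c hc => hce.2 fun e he => by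
    have h1 := hact n⁻¹ (inv_mem hn) e he
    have := (Commute.conj_iff n).2 ((hce.1 hc) _ h1)
    rwa [show n * (n⁻¹ * e * n⁻¹⁻¹) * n⁻¹ = e by group] at this
  have hnormL : ∀ n ∈ NE, ∀ l ∈ L, n * l * n⁻¹ ∈ L := by
    intro n hn l hl
    refine C.max (L.map (MulAut.conj n).toMonoidHom) ?_ ?_ ?_ ⟨l, hl, rfl⟩
    · rintro _ ⟨a, ha, rfl⟩; exact hconjCE n hn a (C.le ha)
    · exact (IsPGroup.of_card C.cardL).map _
    · intro c hc w hw
      rw [Subgroup.mem_map_equiv, MulAut.conj_symm_apply] at hw ⊢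
      have h1 : n⁻¹ * c * n ∈ CE := by
        have := hconjCE n⁻¹ (inv_mem hn) c hc
        rwa [inv_inv] at this
      have := C.norm _ h1 _ hw
      rwa [show n⁻¹ * c * n * (n⁻¹ * w * n) * (n⁻¹ * c * n)⁻¹ = n⁻¹ * (c * w * c⁻¹) * n by group] at this
  have hJN : J ≤ NE := fun j hj => hmemNE (T.loc.normal j (T.JC j hj))
  obtain ⟨s₀, hs₀⟩ := exists_prime_orderOf_dvd_card' (G := J) 7 (by rw [T.cardJ]; norm_num)
  set σ : G := (s₀ : G) with hσ
  have hσo : orderOf σ = 7 := by rw [hσ, Subgroup.orderOf_coe, hs₀]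
  have hσp : Commute σ p := T.JC σ s₀.2
  have hfree : ∀ e ∈ E, Commute σ e → e = 1 := by
    intro e he hse
    by_contra e1
    obtain ⟨c, hc, hce'⟩ := T.loc.transE e he e1
    have h1' : Commute (c⁻¹ * σ * c) z := by
      have := (Commute.conj_iff c⁻¹).2 hse
      rwa [inv_inv, ← hce', show c⁻¹ * (c * z * c⁻¹) * c = z by group] at this
    have h2' : Commute (c⁻¹ * σ * c) p := (hc.inv_left.mul_left hσp).mul_left hc
    have := Subgroup.orderOf_dvd_natCard _ (show c⁻¹ * σ * c ∈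
        Subgroup.centralizer ({z} : Set G) ⊓ Subgroup.centralizer ({p} : Set G) from
      ⟨Subgroup.mem_centralizer_singleton_iff.2 h1'.eq, Subgroup.mem_centralizer_singleton_iff.2 h2'.eq⟩)
    rw [hC.cardH, show c⁻¹ * σ * c = MulAut.conj c⁻¹ σ by simp [mul_assoc], MulEquiv.orderOf_eq, hσo] at this
    norm_num at this
  -- the representation on the group of order eight
  obtain ⟨ρ, hρ⟩ := ElemEight.exists_rep hC.card hC.sq hact
  have hρker : ∀ n : NE, ρ n = 1 ↔ (n : G) ∈ CE := fun n => (hρ n).trans hce.symm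
  have hρsur : Function.Surjective ρ := by
    set ψ := ρ.comp (Subgroup.inclusion hJN) with hψ
    have hk : Nat.card ψ.ker = 8 := by
      have e : ψ.ker = E.subgroupOf J := by
        ext j
        rw [MonoidHom.mem_ker, Subgroup.mem_subgroupOf]
        refine (hρker (Subgroup.inclusion hJN j)).trans ?_
        refine ⟨fun h => T.ker j j.2 (hce.1 h), fun h => hce.2 fun e he => ?_⟩
        have hinv : ∀ e ∈ E, e⁻¹ = e := fun e he => inv_eq_of_mul_eq_one_right (hC.sq e he)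
        show (j : G) * e = e * j
        rw [← hinv _ (mul_mem h he), mul_inv_rev, hinv _ h, hinv e he]
      rw [e, Nat.card_congr (Subgroup.subgroupOfEquivOfLe T.EJ).toEquiv, hC.card]
    have h := Subgroup.card_eq_card_quotient_mul_card_subgroup ψ.ker
    rw [hk, Nat.card_congr (QuotientGroup.quotientKerEquivRange ψ).toEquiv, T.cardJ] at h
    have htop : ψ.range = ⊤ := Subgroup.eq_top_of_le_card _ (by rw [card_SLthree]; omega)
    intro s
    obtain ⟨j, hj⟩ := MonoidHom.range_eq_top.1 htop s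
    exact ⟨_, hj⟩
  have hcardN : Nat.card NE = 2 ^ 15 * 120 * 168 := by
    have h := Subgroup.card_eq_card_quotient_mul_card_subgroup ρ.ker
    have e : ρ.ker = CE.subgroupOf NE := by
      ext n; rw [MonoidHom.mem_ker, hρker, Subgroup.mem_subgroupOf]
    rw [Nat.card_congr (QuotientGroup.quotientKerEquivOfSurjective ρ hρsur).toEquiv, card_SLthree, e,
      Nat.card_congr (Subgroup.subgroupOfEquivOfLe hCEN).toEquiv, C.cardCE] at h
    rw [h]; ring
  -- the quotient
  set R := L.subgroupOf NE with hR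
  haveI hRn : R.Normal := ⟨fun l hl n => hnormL n n.2 _ hl⟩
  set mk := QuotientGroup.mk' R with hmk
  have hone : ∀ {a : NE}, mk a = 1 ↔ (a : G) ∈ L := fun {a} =>
    (QuotientGroup.eq_one_iff (N := R) a).trans Subgroup.mem_subgroupOf
  set Y := (CE.subgroupOf NE).map mk with hY
  haveI hCn : (CE.subgroupOf NE).Normal := ⟨fun c hc n => hconjCE n n.2 _ hc⟩
  haveI hYn : Y.Normal := hCn.map mk (QuotientGroup.mk'_surjective R)
  have hW : Nat.card (NE ⧸ R) = 120 * 168 := by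
    have h := Subgroup.card_eq_card_quotient_mul_card_subgroup R
    rw [show Nat.card R = 2 ^ 15 from (Nat.card_congr (Subgroup.subgroupOfEquivOfLe (C.le.trans hCEN)).toEquiv).trans C.cardL,
      hcardN] at h
    simp only [Nat.reducePow, Nat.reduceMul] at h ⊢
    omega
  have hYc : Nat.card Y = 120 := by
    set ψ := mk.comp (CE.subgroupOf NE).subtype with hψ
    have hk : Nat.card ψ.ker = 2 ^ 15 := by
      rw [← C.cardL]
      exact Nat.card_congr
        { toFun := fun k => ⟨((k.1 : NE) : G), hone.1 k.2⟩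
          invFun := fun l => ⟨⟨⟨l, hCEN (C.le l.2)⟩, C.le l.2⟩, hone.2 l.2⟩
          left_inv := fun _ => rfl
          right_inv := fun _ => rfl }
    have h := Subgroup.card_eq_card_quotient_mul_card_subgroup ψ.ker
    rw [hk, Nat.card_congr (QuotientGroup.quotientKerEquivRange ψ).toEquiv, MonoidHom.range_comp,
      Subgroup.range_subtype, Nat.card_congr (Subgroup.subgroupOfEquivOfLe hCEN).toEquiv, C.cardCE] at h
    simp only [Nat.reducePow, Nat.reduceMul] at h
    rw [hY]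
    omega
  have hpCE : p ∈ CE := hce.2 fun e he => (hC.com e he).symm
  have hp5 : p ^ 5 = 1 := hp ▸ pow_orderOf_eq_one p
  have hpL : p ∉ L := fun h => by
    have := hp ▸ Subgroup.orderOf_dvd_natCard L h
    rw [C.cardL] at this
    norm_num at this
  set pN : NE := ⟨p, hCEN hpCE⟩ with hpN
  set pb : Y := ⟨mk pN, pN, hpCE, rfl⟩ with hpb
  have hpbo : orderOf pb = 5 := by
    rw [← Subgroup.orderOf_coe]
    exact orderOf_eq_prime (by rw [hpb, ← map_pow, show pN ^ 5 = 1 from Subtype.ext hp5, map_one])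
      fun e => hpL (hone.1 e)
  have hPc : Nat.card (Subgroup.zpowers pb) = 5 := by rw [Nat.card_zpowers, hpbo]
  have hPC : Subgroup.centralizer ((Subgroup.zpowers pb : Subgroup Y) : Set Y) = Subgroup.zpowers pb := by
    rw [Subgroup.zpowers_eq_closure, Subgroup.centralizer_closure, ← Subgroup.zpowers_eq_closure]
    refine le_antisymm ?_ (Subgroup.zpowers_le.2 (Subgroup.mem_centralizer_singleton_iff.2 rfl))
    rintro ⟨_, c, hc, rfl⟩ hy
    have hy' : mk c * mk pN = mk pN * mk c := congrArg Subtype.val (Subgroup.mem_centralizer_singleton_iff.1 hy)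
    have h1 : mk (pN * c * pN⁻¹ * c⁻¹) = 1 := by
      rw [map_mul, map_mul, map_mul, map_inv, map_inv, ← hy']; group
    obtain ⟨i, l, hl, hi⟩ := C.self c hc (hone.1 h1)
    refine (mem_powers_iff_mem_zpowers).1 ⟨i, Subtype.ext ?_⟩
    show (mk pN) ^ i = mk c
    rw [show c = pN ^ i * ⟨l, hCEN (C.le hl)⟩ from Subtype.ext hi, map_mul, map_pow,
      show mk ⟨l, hCEN (C.le hl)⟩ = 1 from hone.2 hl, mul_one]
  obtain ⟨Θ, hΘ⟩ := Pent.sym_five_split Y hYc (Subgroup.zpowers pb) hPc hPC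
  -- the element of order seven centralises the quotient
  have hσN : σ ∈ NE := hJN s₀.2
  have hσ7 : σ ^ 7 = 1 := hσo ▸ pow_orderOf_eq_one σ
  have hΘσ : Θ (mk ⟨σ, hσN⟩) = 1 := by
    have h7 : (Θ (mk ⟨σ, hσN⟩)) ^ 7 = 1 := by
      rw [← map_pow, ← map_pow, show (⟨σ, hσN⟩ : NE) ^ 7 = 1 from Subtype.ext hσ7, map_one, map_one]
    have h := pow_gcd_eq_one.2 ⟨h7, pow_card_eq_one' (G := Equiv.Perm (Fin 5)) (x := Θ (mk ⟨σ, hσN⟩))⟩
    rwa [Nat.card_perm, Nat.card_fin, show Nat.gcd 7 (Nat.factorial 5) = 1 from rfl, pow_one] at h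
  have hfix : ∀ c ∈ CE, ∃ n ∈ L, Commute (n * c) σ := by
    intro c hc
    refine coset_fixed hσ7 (hnormL σ hσN) (by rw [C.cardL]; norm_num) ?_
    set cN : NE := ⟨c, hCEN hc⟩
    set sN : NE := ⟨σ, hσN⟩
    have hy : mk cN ∈ Y := ⟨cN, hc, rfl⟩
    have hy2 : mk (sN * cN * sN⁻¹) ∈ Y := ⟨_, hconjCE σ hσN c hc, rfl⟩
    have e : (⟨_, hy2⟩ : Y) = ⟨_, hy⟩ := hΘ.1 (by
      show Θ (mk (sN * cN * sN⁻¹)) = Θ (mk cN)
      rw [map_mul, map_mul, map_inv, map_mul, map_mul, map_inv, hΘσ]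
      group)
    have e' : mk (sN * cN * sN⁻¹) = mk cN := congrArg Subtype.val e
    have : mk (sN * cN * sN⁻¹ * cN⁻¹) = 1 := by rw [map_mul, e', map_inv, mul_inv_cancel]
    exact hone.1 this
  -- a commuting element of order three
  obtain ⟨r, hr3, hrE⟩ := hC.three
  obtain ⟨n, hn, hnr⟩ := hfix r (hce.2 hrE)
  set c := n * r with hc'
  have hcCE : c ∈ CE := mul_mem (C.le hn) (hce.2 hrE)
  obtain ⟨a, haC, hao, hac⟩ : ∃ a ∈ CE, orderOf a = 3 ∧ Commute a σ := by
    set cN : NE := ⟨c, hCEN hcCE⟩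
    set rN : NE := ⟨r, hCEN (hce.2 hrE)⟩
    have hcr : mk cN = mk rN := by
      rw [show cN = ⟨n, hCEN (C.le hn)⟩ * rN from Subtype.ext rfl, map_mul,
        show mk ⟨n, hCEN (C.le hn)⟩ = 1 from hone.2 hn, one_mul]
    have hr31 : mk rN ^ 3 = 1 := by
      rw [← map_pow, show rN ^ 3 = 1 from Subtype.ext (hr3 ▸ pow_orderOf_eq_one r), map_one]
    have hcL : c ^ 3 ∈ L := (hone (a := cN ^ 3)).1 (by rw [map_pow, hcr, hr31])
    have hpw : (c ^ 2 ^ 15) ^ 3 = 1 := by
      rw [← pow_mul, mul_comm, pow_mul]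
      exact orderOf_dvd_iff_pow_eq_one.1 (C.cardL ▸ Subgroup.orderOf_dvd_natCard L hcL)
    refine ⟨c ^ 2 ^ 15, pow_mem hcCE _, orderOf_eq_prime hpw fun e => ?_, hnr.pow_left _⟩
    have h1 : mk rN ^ 2 ^ 15 = 1 := by
      rw [← hcr, ← map_pow, show cN ^ 2 ^ 15 = 1 from Subtype.ext e, map_one]
    have h2 := pow_gcd_eq_one.2 ⟨h1, hr31⟩
    rw [show Nat.gcd (2 ^ 15) 3 = 1 by norm_num, pow_one] at h2
    have := hr3 ▸ Subgroup.orderOf_dvd_natCard L ((hone (a := rN)).1 h2)
    rw [C.cardL] at this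
    norm_num at this
  obtain ⟨h, hh⟩ := isConj_iff.1 (S.one_class f hao)
  have hsz : Commute (h * σ * h⁻¹) z := S.cent_x f (hh ▸ (Commute.conj_iff h).2 hac.symm)
  obtain ⟨h49, -, h840, h2520⟩ := S.seven_top f (s := h * σ * h⁻¹)
    (by rw [conj_pow, hσ7, mul_one, mul_inv_cancel])
    (fun e => by rw [conj_eq_one_iff] at e; rw [e, orderOf_one] at hσo; norm_num at hσo) hsz
  refine ⟨σ, ⟨s₀.2, hσo, hσp, hfree, hσN, hnormL, hfix, h49, ?_, ?_, hcardN, ⟨a, haC, hao, hac⟩, ?_⟩⟩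
  · rw [← h840]
    refine Nat.card_congr
      { toFun := fun a => ⟨h * a * h⁻¹, Subgroup.mem_centralizer_singleton_iff.2
          ((Commute.conj_iff h).2 (Subgroup.mem_centralizer_singleton_iff.1 a.2)).eq⟩
        invFun := fun a => ⟨h⁻¹ * a * h, Subgroup.mem_centralizer_singleton_iff.2 ?_⟩
        left_inv := fun a => Subtype.ext (by show h⁻¹ * (h * (a : G) * h⁻¹) * h = a; group)
        right_inv := fun a => Subtype.ext (by show h * (h⁻¹ * (a : G) * h) * h⁻¹ = a; group) }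
    have := (Commute.conj_iff h⁻¹).2
      (show Commute (a : G) (h * σ * h⁻¹) from Subgroup.mem_centralizer_singleton_iff.1 a.2)
    rw [inv_inv, show h⁻¹ * (h * σ * h⁻¹) * h = σ by group] at this
    exact this.eq
  · rw [← h2520]
    refine Nat.card_congr
      { toFun := fun a => ⟨h * a * h⁻¹, mem_norm_zpowers.2 ?_⟩
        invFun := fun a => ⟨h⁻¹ * a * h, mem_norm_zpowers.2 ?_⟩
        left_inv := fun a => Subtype.ext (by show h⁻¹ * (h * (a : G) * h⁻¹) * h = a; group)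
        right_inv := fun a => Subtype.ext (by show h * (h⁻¹ * (a : G) * h) * h⁻¹ = a; group) }
    · obtain ⟨i, hi⟩ := mem_norm_zpowers.1 a.2
      have hi' : σ ^ i = (a : G) * σ * (a : G)⁻¹ := hi
      refine ⟨i, ?_⟩
      show (h * σ * h⁻¹) ^ i = _
      rw [conj_zpow, hi']; group
    · obtain ⟨i, hi⟩ := mem_norm_zpowers.1 a.2
      have hi' : (h * σ * h⁻¹) ^ i = (a : G) * (h * σ * h⁻¹) * (a : G)⁻¹ := hi
      refine ⟨i, ?_⟩
      show σ ^ i = _
      rw [conj_zpow] at hi'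
      calc σ ^ i = h⁻¹ * (h * σ ^ i * h⁻¹) * h := by group
        _ = h⁻¹ * ((a : G) * (h * σ * h⁻¹) * (a : G)⁻¹) * h := by rw [hi']
        _ = _ := by group
  · let ρ' : NE ⧸ R →* Matrix.SpecialLinearGroup (Fin 3) (ZMod 2) :=
      QuotientGroup.lift R ρ fun l hl => (hρker l).2 (C.le hl)
    have hinj : Function.Injective (Θ.prod ρ') := by
      rw [injective_iff_map_eq_one]
      intro w hw
      obtain ⟨a, rfl⟩ : ∃ a, mk a = w := QuotientGroup.mk'_surjective R w
      have h1 : Θ (mk a) = 1 := congrArg Prod.fst hw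
      have h2 : ρ a = 1 := congrArg Prod.snd hw
      have hy : mk a ∈ Y := ⟨a, (hρker a).1 h2, rfl⟩
      have := hΘ.1 (a₁ := ⟨_, hy⟩) (a₂ := 1) (by show Θ (mk a) = Θ 1; rw [h1, map_one])
      exact congrArg Subtype.val this
    have hbij : Function.Bijective (Θ.prod ρ') := (Nat.bijective_iff_injective_and_card _).2 ⟨hinj, by
      rw [hW, Nat.card_prod, Nat.card_perm, Nat.card_fin, card_SLthree]; rfl⟩
    exact ⟨(Θ.prod ρ').comp mk, hbij.2.comp (QuotientGroup.mk'_surjective R),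
      fun n => ⟨fun h => hone.1 (hinj (h.trans (map_one _).symm)),
        fun h => by show (Θ.prod ρ') (mk n) = 1; rw [hone.2 h, map_one]⟩,
      fun n => hρker n⟩

end Cfsg.Agent.Spor.JFour
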