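import Cfsg.Agent.Lib.Spor.JFourLoc.PentQuot
import Cfsg.Agent.Lib.Solv.Extraspecial

/-!
The largest normal 2-subgroup is special with the group of order eight as its centre.
-/

set_option autoImplicit false
set_option maxRecDepth 100000
set_option linter.unusedSectionVars false

namespace Cfsg.Agent.Spor.JFour

open Cfsg.Agent.Spor.SUSix (V6)
open scoped commutatorElement

attribute [local irreducible] wd gP Gam Kp Chk.app

universe u

variable {G : Type u} [Group G] [Finite G]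

/-- commutators with a fixed element landing in an invariant subgroup, on generators -/
theorem comm_sup {A B M : Subgroup G} (hM : ∀ a ∈ A ⊔ B, ∀ n ∈ M, a * n * a⁻¹ ∈ M) {y : G}
    (hA : ∀ a ∈ A, a * y * a⁻¹ * y⁻¹ ∈ M) (hB : ∀ b ∈ B, b * y * b⁻¹ * y⁻¹ ∈ M) :
    ∀ a ∈ A ⊔ B, a * y * a⁻¹ * y⁻¹ ∈ M := by
  let K : Subgroup G :=
    { carrier := {a | a ∈ A ⊔ B ∧ a * y * a⁻¹ * y⁻¹ ∈ M}
      one_mem' := ⟨one_mem _, by simp⟩
      mul_mem' := fun {a b} ha hb => ⟨mul_mem ha.1 hb.1, by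
        rw [show a * b * y * (a * b)⁻¹ * y⁻¹ = a * (b * y * b⁻¹ * y⁻¹) * a⁻¹ * (a * y * a⁻¹ * y⁻¹) by group]
        exact mul_mem (hM a ha.1 _ hb.2) ha.2⟩
      inv_mem' := fun {a} ha => ⟨inv_mem ha.1, by
        have h := hM a⁻¹ (inv_mem ha.1) _ (inv_mem ha.2)
        rwa [show a⁻¹ * (a * y * a⁻¹ * y⁻¹)⁻¹ * a⁻¹⁻¹ = a⁻¹ * y * a⁻¹⁻¹ * y⁻¹ by group] at h⟩ }
  have : A ⊔ B ≤ K := sup_le (fun a ha => ⟨Subgroup.mem_sup_left ha, hA a ha⟩)
    fun b hb => ⟨Subgroup.mem_sup_right hb, hB b hb⟩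
  exact fun a ha => (this ha).2

variable {z : G} {Q N : Subgroup G} {x : G}
variable (S : Big z Q N x) (f : Frame z Q x)

include S f

/-- an invariant subgroup over the group of order eight has order 8 or at least 128 -/
theorem Big.pent_jump {p : G} {E J L : Subgroup G} {d : G} (hp : orderOf p = 5) (T : FiveTop z Q p E J d)
    (C : Core z Q p E L) {W : Subgroup G} (hEW : E ≤ W) (hWL : W ≤ L) (hWp : ∀ w ∈ W, p * w * p⁻¹ ∈ W)
    (hle : Nat.card W ≤ 2 ^ 7) : W = E ∨ Nat.card W = 2 ^ 7 := by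
  haveI : Fact (Nat.Prime 5) := ⟨by norm_num⟩
  have hC := T.loc.ctx
  obtain ⟨k, hk⟩ := IsPGroup.iff_card.1 ((IsPGroup.of_card C.cardL).to_le hWL)
  have h3 : 3 ≤ k := by
    have := Subgroup.card_dvd_of_le hEW
    rw [hC.card, hk, show (8 : ℕ) = 2 ^ 3 from rfl, Nat.pow_dvd_pow_iff_le_right (by norm_num)] at this
    exact this
  have h7 : k ≤ 7 := by
    rw [hk] at hle
    exact (Nat.pow_le_pow_iff_right (by norm_num)).1 hle
  have hne : k = 3 ∨ k = 7 := by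
    by_contra h
    have hp5 : p ^ 5 = 1 := hp ▸ pow_orderOf_eq_one p
    have hc : ((W : Set G) \ (E : Set G)).ncard = 2 ^ k - 8 := by
      rw [Set.ncard_sdiff (SetLike.coe_subset_coe.2 hEW) (Set.toFinite _), ← Nat.card_coe_set_eq,
        ← Nat.card_coe_set_eq]
      show Nat.card W - Nat.card E = _
      rw [hk, hC.card]
    obtain ⟨w, ⟨hw, hwE⟩, hwp⟩ := set_fixed hp5 ((W : Set G) \ (E : Set G))
      (fun w hw => ⟨hWp w hw.1, fun he => hw.2 (by
        have h1 : p⁻¹ * (p * w * p⁻¹) * p = p * w * p⁻¹ := by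
          rw [mul_assoc, (hC.com _ he).eq, inv_mul_cancel_left]
        rw [show p⁻¹ * (p * w * p⁻¹) * p = w by group] at h1
        rw [h1]; exact he)⟩)
      (by
        rw [hc]
        rcases (show k = 4 ∨ k = 5 ∨ k = 6 by omega) with rfl | rfl | rfl <;> norm_num)
    have hwC := Subgroup.mem_centralizer_iff.1 (C.le (hWL hw))
    obtain ⟨i, e, he, rfl⟩ := hC.cent w (hwC z hC.zE).symm hwp fun e he => (hwC e he).symm
    have hpi : p ^ i ∈ L := by
      have := L.mul_mem (hWL hw) (L.inv_mem (C.EL he))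
      rwa [mul_inv_cancel_right] at this
    have hd := Subgroup.orderOf_dvd_natCard L hpi
    rw [C.cardL] at hd
    have hd5 : orderOf (p ^ i) ∣ 5 := hp ▸ orderOf_pow_dvd i
    have h1 : p ^ i = 1 := orderOf_eq_one_iff.1 (Nat.eq_one_of_dvd_coprimes (by norm_num) hd5 hd)
    exact hwE (by rw [h1, one_mul]; exact he)
  rcases hne with rfl | rfl
  · exact Or.inl (Subgroup.eq_of_le_of_card_ge hEW (by rw [hk, hC.card]; norm_num)).symm
  · exact Or.inr hk

/-- nothing invariant under both elements lies properly between -/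
theorem Big.pent_noinv {p σ : G} {E J L : Subgroup G} {d : G} (hp : orderOf p = 5) (T : FiveTop z Q p E J d)
    (C : Core z Q p E L) (P : PQuot E J L p σ) {W : Subgroup G} (hEW : E ≤ W) (hWL : W ≤ L)
    (hWp : ∀ w ∈ W, p * w * p⁻¹ ∈ W) (hWs : ∀ w ∈ W, σ * w * σ⁻¹ ∈ W) (hle : Nat.card W ≤ 2 ^ 7) : W = E := by
  rcases S.pent_jump f hp T C hEW hWL hWp hle with h | h128
  · exact h
  exfalso
  haveI : Fact (Nat.Prime 7) := ⟨by norm_num⟩
  have hC := T.loc.ctx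
  have hs7 : σ ^ 7 = 1 := P.ord ▸ pow_orderOf_eq_one σ
  have hsE : ∀ e ∈ E, σ * e * σ⁻¹ ∈ E := fun e he => (Subgroup.mem_normalizer_iff.1 P.normE e).1 he
  have hsE' : ∀ w, σ * w * σ⁻¹ ∈ E → w ∈ E := fun w h => (Subgroup.mem_normalizer_iff.1 P.normE w).2 h
  have hWC : ∀ w ∈ W, ∀ e ∈ E, w * e * w⁻¹ = e := fun w hw e he => by
    rw [← Subgroup.mem_centralizer_iff.1 (C.le (hWL hw)) e he, mul_inv_cancel_right]
  obtain ⟨w₀, ⟨hw₀, hw₀E⟩, hw₀s⟩ := set_fixed hs7 ((W : Set G) \ (E : Set G))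
    (fun w hw => ⟨hWs w hw.1, fun he => hw.2 (hsE' w he)⟩) (by
      rw [Set.ncard_sdiff (SetLike.coe_subset_coe.2 hEW) (Set.toFinite _), ← Nat.card_coe_set_eq,
        ← Nat.card_coe_set_eq]
      show ¬ 7 ∣ Nat.card W - Nat.card E
      rw [h128, hC.card]; norm_num)
  let T0 : Subgroup G :=
    { carrier := {w | w ∈ W ∧ σ * w * σ⁻¹ * w⁻¹ ∈ E}
      one_mem' := ⟨one_mem _, by simp⟩
      mul_mem' := fun {a b} ha hb => ⟨mul_mem ha.1 hb.1, by
        rw [show σ * (a * b) * σ⁻¹ * (a * b)⁻¹ = (σ * a * σ⁻¹ * a⁻¹) * (a * (σ * b * σ⁻¹ * b⁻¹) * a⁻¹) by group,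
          hWC a ha.1 _ hb.2]
        exact mul_mem ha.2 hb.2⟩
      inv_mem' := fun {a} ha => ⟨inv_mem ha.1, by
        have h := hWC a⁻¹ (inv_mem ha.1) _ (inv_mem ha.2)
        rw [show a⁻¹ * (σ * a * σ⁻¹ * a⁻¹)⁻¹ * a⁻¹⁻¹ = σ * a⁻¹ * σ⁻¹ * a⁻¹⁻¹ by group] at h
        rw [h]; exact inv_mem ha.2⟩ }
  have hT0W : T0 ≤ W := fun w hw => hw.1
  have hET : E ≤ T0 := fun e he => ⟨hEW he, mul_mem (hsE e he) (inv_mem he)⟩
  have hTp : ∀ w ∈ T0, p * w * p⁻¹ ∈ T0 := fun w hw => ⟨hWp w hw.1, by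
    rw [show σ * (p * w * p⁻¹) * σ⁻¹ = p * (σ * w * σ⁻¹) * p⁻¹ by
      calc σ * (p * w * p⁻¹) * σ⁻¹ = (σ * p) * w * (σ * p)⁻¹ := by group
        _ = (p * σ) * w * (p * σ)⁻¹ := by rw [P.comp.eq]
        _ = _ := by group]
    rw [show p * (σ * w * σ⁻¹) * p⁻¹ * (p * w * p⁻¹)⁻¹ = p * (σ * w * σ⁻¹ * w⁻¹) * p⁻¹ by group,
      ← (hC.com _ hw.2).eq, mul_inv_cancel_right]
    exact hw.2⟩
  have hTW : T0 = W := by
    rcases S.pent_jump f hp T C hET (hT0W.trans hWL) hTp ((Subgroup.card_le_of_le hT0W).trans hle) with h | h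
    · exact absurd (h ▸ (⟨hw₀, by rw [← hw₀s.eq, mul_inv_cancel_right, mul_inv_cancel]; exact one_mem E⟩ :
        w₀ ∈ T0)) hw₀E
    · exact Subgroup.eq_of_le_of_card_ge hT0W (by rw [h, h128])
  set D := W ⊓ Subgroup.centralizer ({σ} : Set G) with hD
  have hb : Nat.card (E × D) = Nat.card W := by
    refine Nat.card_eq_of_bijective (fun t => ⟨(t.1 : G) * (t.2 : G), mul_mem (hEW t.1.2) t.2.2.1⟩) ⟨?_, ?_⟩
    · rintro ⟨e, c⟩ ⟨e', c'⟩ h
      have h' : (e : G) * c = e' * c' := congrArg Subtype.val h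
      have h2 : (e' : G)⁻¹ * e = (c' : G) * (c : G)⁻¹ := by
        rw [eq_mul_inv_iff_mul_eq, mul_assoc, h', inv_mul_cancel_left]
      have hcm : Commute σ ((c' : G) * (c : G)⁻¹) :=
        (show Commute σ (c' : G) from (Subgroup.mem_centralizer_singleton_iff.1 c'.2.2).symm).mul_right
          (show Commute σ (c : G) from (Subgroup.mem_centralizer_singleton_iff.1 c.2.2).symm).inv_right
      have h1 := P.free _ (mul_mem (inv_mem e'.2) e.2) (h2 ▸ hcm)
      have he : (e : G) = e' := (inv_mul_eq_one.1 h1).symm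
      rw [he] at h'
      rw [Subtype.ext he, Subtype.ext (mul_left_cancel h')]
    · rintro ⟨w, hw⟩
      have hwT : σ * w * σ⁻¹ * w⁻¹ ∈ E := ((hTW.symm ▸ hw : w ∈ T0)).2
      obtain ⟨n, hn, hnw⟩ := coset_fixed hs7 hsE (by rw [hC.card]; norm_num) hwT
      exact ⟨(⟨n⁻¹, inv_mem hn⟩, ⟨n * w, mul_mem (hEW hn) hw, Subgroup.mem_centralizer_singleton_iff.2 hnw.eq⟩),
        Subtype.ext (inv_mul_cancel_left n w)⟩
  rw [Nat.card_prod, hC.card, h128] at hb
  have hd : Nat.card D ∣ 840 := P.c840 ▸ Subgroup.card_dvd_of_le inf_le_right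
  rw [show Nat.card D = 16 by omega] at hd
  norm_num at hd

theorem Big.pent_special {p σ : G} {E J L : Subgroup G} {d : G} (hp : orderOf p = 5) (T : FiveTop z Q p E J d)
    (C : Core z Q p E L) (P : PQuot E J L p σ) :
    Cfsg.IsSpecial 2 ↥L ∧ Subgroup.center ↥L = E.subgroupOf L := by
  classical
  haveI : Fact (Nat.Prime 2) := ⟨Nat.prime_two⟩
  have hC := T.loc.ctx
  have X := S.base.ord.xt
  set CE := Subgroup.centralizer (E : Set G) with hCE
  have hce : ∀ {c}, c ∈ CE → ∀ e ∈ E, Commute c e := fun {c} h e he => (Subgroup.mem_centralizer_iff.1 h e he).symm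
  have hfixE : ∀ c ∈ CE, ∀ e ∈ E, c * e * c⁻¹ = e := fun c hc e he => by
    rw [(hce hc e he).eq, mul_inv_cancel_right]
  have hpCE : p ∈ CE := Subgroup.mem_centralizer_iff.2 fun e he => (hC.com e he).eq
  have hnormM : ∀ g, g * z * g⁻¹ ∈ E → ∀ c ∈ CE, ∀ a ∈ Mc Q E g, c * a * c⁻¹ ∈ Mc Q E g := by
    intro g hg c hc a ha
    refine ⟨?_, CE.mul_mem (CE.mul_mem hc ha.2) (CE.inv_mem hc)⟩
    rw [Qc_eq_of_center S (g := g) (h := c * g) (by
      rw [show c * g * z * (c * g)⁻¹ = c * (g * z * g⁻¹) * c⁻¹ by group, hfixE c hc _ hg])]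
    exact Qc_conj c ha.1
  have hzz : (1 : G) * z * (1 : G)⁻¹ ∈ E := by simpa using hC.zE
  -- commutators and squares inside one part
  have hone : ∀ g, g * z * g⁻¹ ∈ E → ∀ a ∈ Mc Q E g, ∀ b ∈ Mc Q E g,
      a * b * a⁻¹ * b⁻¹ ∈ E ∧ a * a ∈ E := by
    intro g hg a ha b hb
    have ha' := mem_Qc.1 ha.1
    have hb' := mem_Qc.1 hb.1
    refine ⟨?_, ?_⟩
    · rw [show a * b * a⁻¹ * b⁻¹ = g * ((g⁻¹ * a * g) * (g⁻¹ * b * g) * (g⁻¹ * a * g)⁻¹ * (g⁻¹ * b * g)⁻¹) * g⁻¹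
        by group]
      rcases X.comm_mem ha' hb' with e | e <;> rw [e]
      · simpa using one_mem E
      · exact hg
    · rw [show a * a = g * ((g⁻¹ * a * g) * (g⁻¹ * a * g)) * g⁻¹ by group]
      rcases X.sq_mem ha' with e | e <;> rw [e]
      · simpa using one_mem E
      · exact hg
  -- two different intersections
  have hsep : ∀ g, g * z * g⁻¹ ∈ E → g * z * g⁻¹ ≠ z → ∃ h, h * z * h⁻¹ ∈ E ∧ h * z * h⁻¹ ≠ z ∧
      Mc Q E 1 ⊓ Mc Q E h ≠ Mc Q E 1 ⊓ Mc Q E g := by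
    intro g hg hgz
    by_contra hno
    push Not at hno
    set D := Mc Q E 1 ⊓ Mc Q E g with hD
    have hall : ∀ k, k * z * k⁻¹ ∈ E → D ≤ Mc Q E k := by
      intro k hk
      rcases eq_or_ne (k * z * k⁻¹) z with e | e
      · refine inf_le_left.trans (inf_le_inf ?_ le_rfl)
        rw [Qc_eq_of_center S (g := k) (h := (1 : G)) (by rw [e]; group)]
      · exact (hno k hk e).ge.trans inf_le_right
    have hDL : D ≤ L := inf_le_left.trans (C.part 1 hzz).1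
    have hDc : Nat.card D = 2 ^ 7 := (C.pair 1 g hzz hg (by simpa using hgz.symm)).2
    have hsinv : ∀ k, k * z * k⁻¹ ∈ E → σ⁻¹ * k * z * (σ⁻¹ * k)⁻¹ ∈ E := by
      intro k hk
      rw [show σ⁻¹ * k * z * (σ⁻¹ * k)⁻¹ = σ⁻¹ * (k * z * k⁻¹) * σ by group]
      have := (Subgroup.mem_normalizer_iff.1 (inv_mem P.normE) _).1 hk
      rwa [inv_inv] at this
    have hDs : ∀ w ∈ D, σ * w * σ⁻¹ ∈ D := by
      intro w hw
      have hwC : σ * w * σ⁻¹ ∈ CE := C.le (P.normL σ P.normE w (hDL hw))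
      have key : ∀ k, k * z * k⁻¹ ∈ E → σ * w * σ⁻¹ ∈ Mc Q E k := fun k hk => ⟨by
        have := Qc_conj (Q := Q) σ (hall _ (hsinv k hk) hw).1
        rwa [mul_inv_cancel_left] at this, hwC⟩
      exact ⟨key 1 hzz, key g hg⟩
    have hDE := S.pent_noinv f hp T C P (W := D)
      (le_inf (C.part 1 hzz).2.2 (C.part g hg).2.2) hDL
      (fun w hw => ⟨hnormM 1 hzz p hpCE w hw.1, hnormM g hg p hpCE w hw.2⟩) hDs hDc.le
    rw [hDE, hC.card] at hDc
    norm_num at hDc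
  -- commutators between two parts
  have hcross : ∀ g, g * z * g⁻¹ ∈ E → g * z * g⁻¹ ≠ z → ∀ a ∈ Mc Q E 1, ∀ b ∈ Mc Q E g,
      b * a * b⁻¹ * a⁻¹ ∈ E := by
    intro g hg hgz a ha b hb
    obtain ⟨h, hh, hhz, hne⟩ := hsep g hg hgz
    set D1 := Mc Q E 1 ⊓ Mc Q E g with hD1
    set D2 := Mc Q E 1 ⊓ Mc Q E h with hD2
    have hc1 : Nat.card D1 = 2 ^ 7 := (C.pair 1 g hzz hg (by simpa using hgz.symm)).2
    have hc2 : Nat.card D2 = 2 ^ 7 := (C.pair 1 h hzz hh (by simpa using hhz.symm)).2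
    have hab1 : b * a * b⁻¹ * a⁻¹ ∈ D1 := by
      refine ⟨(Mc Q E 1).mul_mem (hnormM 1 hzz b (C.le ((C.part g hg).1 hb)) a ha) ((Mc Q E 1).inv_mem ha), ?_⟩
      rw [show b * a * b⁻¹ * a⁻¹ = b * (a * b⁻¹ * a⁻¹) by group]
      exact mul_mem hb (hnormM g hg a (C.le ((C.part 1 hzz).1 ha)) _ (inv_mem hb))
    have hab2 : b * a * b⁻¹ * a⁻¹ ∈ D2 := by
      have hLh : Mc Q E 1 ⊔ Mc Q E h = L := (C.pair 1 h hzz hh (by simpa using hhz.symm)).1
      refine comm_sup (A := Mc Q E 1) (B := Mc Q E h) (M := D2) ?_ ?_ ?_ b (hLh.symm ▸ (C.part g hg).1 hb)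
      · intro c hc n hn
        have hcC : c ∈ CE := C.le (hLh ▸ hc)
        exact ⟨hnormM 1 hzz c hcC n hn.1, hnormM h hh c hcC n hn.2⟩
      · intro c hc
        exact (le_inf (C.part 1 hzz).2.2 (C.part h hh).2.2) (hone 1 hzz c hc a ha).1
      · intro c hc
        refine ⟨(Mc Q E 1).mul_mem (hnormM 1 hzz c (C.le ((C.part h hh).1 hc)) a ha) ((Mc Q E 1).inv_mem ha), ?_⟩
        rw [show c * a * c⁻¹ * a⁻¹ = c * (a * c⁻¹ * a⁻¹) by group]
        exact mul_mem hc (hnormM h hh a (C.le ((C.part 1 hzz).1 ha)) _ (inv_mem hc))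
    have hI : D1 ⊓ D2 = E := by
      have hEI : E ≤ D1 ⊓ D2 := le_inf (le_inf (C.part 1 hzz).2.2 (C.part g hg).2.2)
        (le_inf (C.part 1 hzz).2.2 (C.part h hh).2.2)
      rcases S.pent_jump f hp T C hEI (inf_le_left.trans (inf_le_left.trans (C.part 1 hzz).1))
        (fun w hw => ⟨⟨hnormM 1 hzz p hpCE w hw.1.1, hnormM g hg p hpCE w hw.1.2⟩,
          ⟨hnormM 1 hzz p hpCE w hw.2.1, hnormM h hh p hpCE w hw.2.2⟩⟩)
        ((Subgroup.card_le_of_le inf_le_left).trans hc1.le) with r | r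
      · exact r
      · exfalso
        refine hne ?_
        have e1 : D1 ⊓ D2 = D1 := Subgroup.eq_of_le_of_card_ge inf_le_left (by rw [r, hc1])
        have e2 : D1 ⊓ D2 = D2 := Subgroup.eq_of_le_of_card_ge inf_le_right (by rw [r, hc2])
        exact e2.symm.trans e1
    exact hI ▸ (⟨hab1, hab2⟩ : b * a * b⁻¹ * a⁻¹ ∈ D1 ⊓ D2)
  -- a fixed second part
  obtain ⟨e₁, he₁, e₁1, e₁z⟩ : ∃ e ∈ E, e ≠ 1 ∧ e ≠ z := by
    by_contra h
    push Not at h
    have hsub : (E : Set G) ⊆ {1, z} := fun e he => by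
      rcases eq_or_ne e 1 with r | r
      exacts [Or.inl r, Or.inr (h e he r)]
    have := (Set.ncard_le_ncard hsub (Set.toFinite _)).trans (Set.ncard_insert_le _ _)
    rw [← Nat.card_coe_set_eq, Set.ncard_singleton] at this
    exact absurd (hC.card.symm.trans_le this) (by norm_num)
  obtain ⟨g, -, hgz'⟩ := T.loc.transE e₁ he₁ e₁1
  have hg : g * z * g⁻¹ ∈ E := hgz' ▸ he₁
  have hgz : g * z * g⁻¹ ≠ z := hgz' ▸ e₁z
  have hL : Mc Q E 1 ⊔ Mc Q E g = L := (C.pair 1 g hzz hg (by simpa using hgz.symm)).1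
  have hEn : ∀ a ∈ Mc Q E 1 ⊔ Mc Q E g, ∀ n ∈ E, a * n * a⁻¹ ∈ E := fun a ha n hn => by
    rw [hfixE a (C.le (hL ▸ ha)) n hn]; exact hn
  have hflip : ∀ a b : G, a * b * a⁻¹ * b⁻¹ ∈ E → b * a * b⁻¹ * a⁻¹ ∈ E := fun a b h => by
    have := inv_mem h
    rwa [show (a * b * a⁻¹ * b⁻¹)⁻¹ = b * a * b⁻¹ * a⁻¹ by group] at this
  have hcomm : ∀ a ∈ L, ∀ b ∈ L, a * b * a⁻¹ * b⁻¹ ∈ E := by
    have h1 : ∀ y ∈ L, ∀ a ∈ Mc Q E 1, a * y * a⁻¹ * y⁻¹ ∈ E := by
      intro y hy a ha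
      refine hflip _ _ (comm_sup hEn (fun b hb => (hone 1 hzz b hb a ha).1) (fun b hb => hcross g hg hgz a ha b hb)
        y (hL.symm ▸ hy))
    have h2 : ∀ y ∈ L, ∀ a ∈ Mc Q E g, a * y * a⁻¹ * y⁻¹ ∈ E := by
      intro y hy a ha
      refine hflip _ _ (comm_sup hEn (fun b hb => hflip _ _ (hcross g hg hgz b hb a ha))
        (fun b hb => (hone g hg b hb a ha).1) y (hL.symm ▸ hy))
    exact fun a ha b hb => comm_sup hEn (fun c hc => h1 b hb c hc) (fun c hc => h2 b hb c hc) a (hL.symm ▸ ha)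
  have hsq : ∀ a ∈ L, a * a ∈ E := by
    let K : Subgroup G :=
      { carrier := {a | a ∈ L ∧ a * a ∈ E}
        one_mem' := ⟨one_mem _, by simp⟩
        mul_mem' := fun {a b} ha hb => ⟨mul_mem ha.1 hb.1, by
          rw [show a * b * (a * b) = a * a * ((a⁻¹ * b * a⁻¹⁻¹ * b⁻¹) * (b * b)) by group]
          exact mul_mem ha.2 (mul_mem (hcomm _ (inv_mem ha.1) _ hb.1) hb.2)⟩
        inv_mem' := fun {a} ha => ⟨inv_mem ha.1, by
          rw [show a⁻¹ * a⁻¹ = (a * a)⁻¹ by group]; exact inv_mem ha.2⟩ }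
    have : Mc Q E 1 ⊔ Mc Q E g ≤ K := sup_le
      (fun a ha => ⟨(C.part 1 hzz).1 ha, (hone 1 hzz a ha a ha).2⟩)
      (fun a ha => ⟨(C.part g hg).1 ha, (hone g hg a ha a ha).2⟩)
    exact fun a ha => (this (hL.symm ▸ ha)).2
  -- the centre
  set Z := L ⊓ Subgroup.centralizer (L : Set G) with hZ
  have hEZ : E ≤ Z := fun e he => ⟨C.EL he, Subgroup.mem_centralizer_iff.2 fun a ha => (hce (C.le ha) e he).eq⟩
  have hZnorm : ∀ n ∈ Subgroup.normalizer (E : Set G), ∀ w ∈ Z, n * w * n⁻¹ ∈ Z := by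
    intro n hn w hw
    refine ⟨P.normL n hn w hw.1, Subgroup.mem_centralizer_iff.2 fun a ha => ?_⟩
    have h1 := P.normL n⁻¹ (inv_mem hn) a ha
    have h2 : Commute (n⁻¹ * a * n⁻¹⁻¹) w := Subgroup.mem_centralizer_iff.1 hw.2 _ h1
    have h3 := (Commute.conj_iff n).2 h2
    rwa [show n * (n⁻¹ * a * n⁻¹⁻¹) * n⁻¹ = a by group] at h3
  have hpN : p ∈ Subgroup.normalizer (E : Set G) := Subgroup.centralizer_le_normalizer _ hpCE
  have hZE : Z = E := by
    refine S.pent_noinv f hp T C P hEZ inf_le_left (hZnorm p hpN) (hZnorm σ P.normE) ?_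
    have hd := card_sup_of_normalizes (A := Mc Q E 1) (B := Z) fun b hb a ha => by
      exact hnormM 1 hzz b (C.le hb.1) a ha
    have hi : Mc Q E 1 ⊓ Z = E := le_antisymm (fun y hy => C.dual y hy.1 fun w hw =>
      (Subgroup.mem_centralizer_iff.1 hy.2.2 w ((C.part 1 hzz).1 hw)).symm) (le_inf (C.part 1 hzz).2.2 hEZ)
    have hs : Nat.card (Mc Q E 1 ⊔ Z : Subgroup G) ≤ 2 ^ 15 :=
      C.cardL ▸ Subgroup.card_le_of_le (sup_le (C.part 1 hzz).1 inf_le_left)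
    rw [hi, hC.card, (C.part 1 hzz).2.1] at hd
    omega
  have hcen : Subgroup.center ↥L = E.subgroupOf L := by
    ext y
    rw [Subgroup.mem_center_iff, Subgroup.mem_subgroupOf]
    refine ⟨fun h => hZE ▸ (⟨y.2, Subgroup.mem_centralizer_iff.2 fun a ha => congrArg Subtype.val (h ⟨a, ha⟩)⟩ :
      (y : G) ∈ Z), fun h b => Subtype.ext (hce (C.le b.2) _ h).eq⟩
  -- generation of the centre by commutators
  have hpairc : ∃ a ∈ Mc Q E 1, ∃ b ∈ Mc Q E 1, a * b * a⁻¹ * b⁻¹ = z := by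
    by_contra hno
    push Not at hno
    have hle : Mc Q E 1 ≤ E := fun y hy => C.dual y hy fun w hw => by
      rcases X.comm_mem (mem_Qc_one.1 hy.1) (mem_Qc_one.1 hw.1) with e | e
      · exact mul_inv_eq_iff_eq_mul.1 (mul_inv_eq_one.1 e)
      · exact absurd e (hno y hy w hw)
    have := Subgroup.card_le_of_le hle
    rw [hC.card, (C.part 1 hzz).2.1] at this
    norm_num at this
  refine ⟨⟨IsPGroup.of_card C.cardL, ?_, ?_⟩, hcen⟩
  · refine le_antisymm ?_ ?_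
    · rw [hcen]
      haveI : (E.subgroupOf L).Normal := hcen ▸ inferInstance
      exact Solv.frattini_le (p := 2) _ (fun a b => Subgroup.mem_subgroupOf.2 (by
        rw [show ⁅a, b⁆ = a * b * a⁻¹ * b⁻¹ from rfl]
        exact hcomm _ a.2 _ b.2)) fun a => Subgroup.mem_subgroupOf.2 (by
        rw [pow_two]; exact hsq _ a.2)
    · have hcE : Subgroup.center ↥L ≤ commutator ↥L := by
        rw [hcen]
        intro y hy
        rcases eq_or_ne (y : G) 1 with e | e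
        · rw [show y = 1 from Subtype.ext e]; exact one_mem _
        obtain ⟨c, hc, hcz⟩ := T.loc.transE _ hy e
        obtain ⟨a, ha, b, hb, hab⟩ := hpairc
        have hcN : c ∈ Subgroup.normalizer (E : Set G) :=
          Subgroup.mem_normalizer_fintype fun e he => T.loc.normal c hc e he
        have hca := P.normL c hcN a ((C.part 1 hzz).1 ha)
        have hcb := P.normL c hcN b ((C.part 1 hzz).1 hb)
        have : y = ⁅(⟨_, hca⟩ : L), (⟨_, hcb⟩ : L)⁆ := Subtype.ext (by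
          show (y : G) = c * a * c⁻¹ * (c * b * c⁻¹) * (c * a * c⁻¹)⁻¹ * (c * b * c⁻¹)⁻¹
          rw [← (show c * z * c⁻¹ = (y : G) from hcz), ← hab]; group)
        rw [this, commutator_def]
        exact Subgroup.commutator_mem_commutator (Subgroup.mem_top _) (Subgroup.mem_top _)
      exact hcE.trans (Solv.commutator_le_frattini_pgroup (p := 2) (IsPGroup.of_card C.cardL))
  · refine le_antisymm ?_ ?_
    · rw [commutator_def, Subgroup.commutator_le, hcen]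
      intro a _ b _
      rw [Subgroup.mem_subgroupOf, show ⁅a, b⁆ = a * b * a⁻¹ * b⁻¹ from rfl]
      exact hcomm _ a.2 _ b.2
    · rw [hcen]
      intro y hy
      rcases eq_or_ne (y : G) 1 with e | e
      · rw [show y = 1 from Subtype.ext e]; exact one_mem _
      obtain ⟨c, hc, hcz⟩ := T.loc.transE _ hy e
      obtain ⟨a, ha, b, hb, hab⟩ := hpairc
      have hcN : c ∈ Subgroup.normalizer (E : Set G) :=
        Subgroup.mem_normalizer_fintype fun e he => T.loc.normal c hc e he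
      have hca := P.normL c hcN a ((C.part 1 hzz).1 ha)
      have hcb := P.normL c hcN b ((C.part 1 hzz).1 hb)
      have : y = ⁅(⟨_, hca⟩ : L), (⟨_, hcb⟩ : L)⁆ := Subtype.ext (by
        show (y : G) = c * a * c⁻¹ * (c * b * c⁻¹) * (c * a * c⁻¹)⁻¹ * (c * b * c⁻¹)⁻¹
        rw [← (show c * z * c⁻¹ = (y : G) from hcz), ← hab]; group)
      rw [this, commutator_def]
      exact Subgroup.commutator_mem_commutator (Subgroup.mem_top _) (Subgroup.mem_top _)

end Cfsg.Agent.Spor.JFour
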