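import Cfsg.Agent.Lib.Spor.JFourLoc.PentTop
import Cfsg.Agent.Lib.Spor.JFourLoc.PentPerm

/-!
A subgroup of the normaliser isomorphic to the group of order 168: the centraliser of an element of order three
acts on the twenty-four points, and a point with trivial stabiliser in the group of order eight gives a complement.
-/

set_option autoImplicit false
set_option maxRecDepth 100000
set_option linter.unusedSectionVars false

namespace Cfsg.Agent.Spor.JFour

open Cfsg.Agent.Spor.SUSix (V6)

attribute [local irreducible] wd gP Gam Kp Chk.app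

universe u

local notation "SLT" => Matrix.SpecialLinearGroup (Fin 3) (ZMod 2)

/-- a proper subgroup of the group of order 168 has index more than three -/
theorem slthree_index {U : Subgroup SLT} (hU : 56 ≤ Nat.card U) : U = ⊤ := by
  classical
  haveI := Pent.sl_three_two_simple
  by_contra hne
  have hbot : U.normalCore = ⊥ :=
    (Subgroup.normalCore_normal U).eq_bot_or_eq_top.resolve_right fun e => hne (top_le_iff.1 (e ▸ U.normalCore_le))
  have hm := Subgroup.card_mul_index U
  rw [card_SLthree] at hm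
  have hi : U.index ≤ 3 := by nlinarith [Nat.mul_le_mul_right U.index hU]
  haveI : Fintype (SLT ⧸ U) := Fintype.ofFinite _
  have hinj : Function.Injective (MulAction.toPermHom SLT (SLT ⧸ U)) := by
    rw [← MonoidHom.ker_eq_bot_iff, ← Subgroup.normalCore_eq_ker]; exact hbot
  have hd := Subgroup.card_dvd_of_injective _ hinj
  rw [card_SLthree, Nat.card_perm, ← Subgroup.index_eq_card] at hd
  interval_cases hU' : U.index <;> simp [Nat.factorial] at hd

/-- a subgroup of permutations of twenty-four points in which a normal subgroup of order eight has an element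
of order seven moving its involutions freely has a subgroup of order 168 meeting the normal subgroup trivially -/
theorem split_of_points {H : Type u} [Group H] [Finite H] (η : H →* Equiv.Perm Cfsg.GolayPt) (hη : Function.Injective η)
    (hM : ∀ g, η g ∈ Cfsg.M24) (ρ : H →* SLT) (hρ : Function.Surjective ρ) (hk : Nat.card ρ.ker = 8) {σ : H}
    (hσ : σ ^ 7 = 1) (hfree : ∀ e ∈ ρ.ker, Commute σ e → e = 1) :
    ∃ K : Subgroup H, Nonempty (↥K ≃* SLT) := by
  classical
  haveI : Fact (Nat.Prime 7) := ⟨by norm_num⟩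
  letI : MulAction H Cfsg.GolayPt := MulAction.compHom _ η
  have hact : ∀ (g : H) (w : Cfsg.GolayPt), g • w = η g w := fun _ _ => rfl
  set E := ρ.ker with hE
  haveI hEn : E.Normal := MonoidHom.normal_ker ρ
  obtain ⟨w, hw⟩ : ∃ w : Cfsg.GolayPt, ∀ e ∈ E, e • w = w → e = 1 := by
    by_contra hno
    push Not at hno
    -- the element of order seven is transitive on the nontrivial elements
    have htr : ∀ e ∈ E, e ≠ 1 → ∀ e' ∈ E, e' ≠ 1 → ∃ k : Fin 7, σ ^ k.val * e * (σ ^ k.val)⁻¹ = e' := by
      intro e he e1 e' he' e1'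
      let O : Fin 7 → {v : E // v ≠ 1} := fun k => ⟨⟨σ ^ k.val * e * (σ ^ k.val)⁻¹, hEn.conj_mem e he _⟩,
        fun h => e1 (conj_eq_one_iff.1 (congrArg Subtype.val h))⟩
      have hσ1 : σ ≠ 1 := fun h => e1 (hfree e he (by rw [h]; exact Commute.one_left e))
      have ho : orderOf σ = 7 := orderOf_eq_prime hσ hσ1
      have hO : Function.Injective O := by
        intro a b h
        have h' : σ ^ a.val * e * (σ ^ a.val)⁻¹ = σ ^ b.val * e * (σ ^ b.val)⁻¹ :=
          congrArg (fun v => ((v.1 : E) : H)) h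
        have hcm : Commute ((σ ^ b.val)⁻¹ * σ ^ a.val) e := mul_inv_eq_iff_eq_mul.1 (by
          rw [show (σ ^ b.val)⁻¹ * σ ^ a.val * e * ((σ ^ b.val)⁻¹ * σ ^ a.val)⁻¹ =
            (σ ^ b.val)⁻¹ * (σ ^ a.val * e * (σ ^ a.val)⁻¹) * σ ^ b.val by group, h']
          group)
        by_contra hne
        have hd1 : (σ ^ b.val)⁻¹ * σ ^ a.val ≠ 1 := fun e' => hne (by
          rw [inv_mul_eq_one, pow_eq_pow_iff_modEq, ho] at e'
          exact Fin.ext (Nat.ModEq.eq_of_lt_of_lt e'.symm a.2 b.2))
        obtain ⟨l, hl⟩ := zpowers_gen hσ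
          (mul_mem (inv_mem (pow_mem (Subgroup.mem_zpowers σ) _)) (pow_mem (Subgroup.mem_zpowers σ) _)) hd1
        have hl' : ((σ ^ b.val)⁻¹ * σ ^ a.val) ^ l = σ := hl
        exact e1 (hfree e he (hl' ▸ hcm.zpow_left l))
      have hbij : Function.Bijective O := (Nat.bijective_iff_injective_and_card O).2 ⟨hO, by
        haveI := Fintype.ofFinite E
        rw [Nat.card_fin, Nat.card_eq_fintype_card, Fintype.card_subtype_compl, Fintype.card_subtype_eq,
          ← Nat.card_eq_fintype_card, hk]⟩
      obtain ⟨k, hk'⟩ := hbij.2 ⟨⟨e', he'⟩, fun h => e1' (congrArg Subtype.val h)⟩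
      exact ⟨k, congrArg (fun v => ((v.1 : E) : H)) hk'⟩
    haveI : Fintype H := Fintype.ofFinite H
    let Es : Finset H := Finset.univ.filter fun e => e ∈ E ∧ e ≠ 1
    have hEs : ∀ {e}, e ∈ Es ↔ e ∈ E ∧ e ≠ 1 := fun {e} => by simp [Es]
    have hEsc : Es.card = 7 := by
      have h0 : Es = (Finset.univ.filter fun e => e ∈ E).erase 1 := by
        ext e; simp [Es, and_comm]
      rw [h0, Finset.card_erase_of_mem (by simp [one_mem]),
        show (Finset.univ.filter fun e => e ∈ E).card = 8 by
          rw [← Fintype.card_subtype, ← Nat.card_eq_fintype_card]; exact hk]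
    have hall : ∀ a ∈ E, a * a = 1 := by
      intro a ha
      by_contra hne2
      rcases eq_or_ne a 1 with r | r
      · exact hne2 (by rw [r, one_mul])
      obtain ⟨k1, hk1⟩ := htr a ha r (a * a) (mul_mem ha ha) hne2
      have hord : orderOf (a * a) = orderOf a := by
        rw [← hk1, show σ ^ k1.val * a * (σ ^ k1.val)⁻¹ = MulAut.conj (σ ^ k1.val) a from rfl,
          MulEquiv.orderOf_eq]
      have hd : orderOf a ∣ 8 := hk ▸ Subgroup.orderOf_dvd_natCard E ha
      have h2 : 2 ∣ orderOf a := by
        obtain ⟨i, hi, hi'⟩ := (Nat.dvd_prime_pow Nat.prime_two).1 (show orderOf a ∣ 2 ^ 3 from hd)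
        rcases Nat.eq_zero_or_pos i with h0 | h0
        · rw [h0, pow_zero, orderOf_eq_one_iff] at hi'
          exact absurd hi' r
        · rw [hi']; exact dvd_pow_self 2 (by omega)
      rw [← pow_two, orderOf_pow a, Nat.gcd_eq_right h2] at hord
      have := Nat.div_lt_self (orderOf_pos a) (show 1 < 2 by norm_num)
      omega
    have hinv : ∀ a ∈ E, a⁻¹ = a := fun a ha => inv_eq_of_mul_eq_one_right (hall a ha)
    -- each point is fixed by at least three
    have hthree : ∀ w : Cfsg.GolayPt, 3 ≤ (Es.filter fun e => e • w = w).card := by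
      intro w
      obtain ⟨e, he, hew, e1⟩ := hno w
      by_contra hlt
      push Not at hlt
      -- then exactly one
      have hone : ∀ e' ∈ E, e' ≠ 1 → e' • w = w → e' = e := by
        intro e' he' e1' hw'
        by_contra hne
        have hsub : ({e, e', e * e'} : Finset H) ⊆ Es.filter fun a => a • w = w := by
          intro a ha
          simp only [Finset.mem_insert, Finset.mem_singleton] at ha
          rw [Finset.mem_filter, hEs]
          rcases ha with rfl | rfl | rfl
          · exact ⟨⟨he, e1⟩, hew⟩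
          · exact ⟨⟨he', e1'⟩, hw'⟩
          · exact ⟨⟨mul_mem he he', fun h => hne (by rw [eq_inv_of_mul_eq_one_right h, hinv e he])⟩,
              by rw [mul_smul, hw', hew]⟩
        have h3 : ({e, e', e * e'} : Finset H).card = 3 := by
          rw [Finset.card_insert_of_notMem, Finset.card_pair]
          · intro h
            exact e1 (mul_eq_right.1 h.symm)
          · simp only [Finset.mem_insert, Finset.mem_singleton, not_or]
            exact ⟨Ne.symm hne, fun h => e1' (mul_eq_left.1 h.symm)⟩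
        have := Finset.card_le_card hsub
        omega
      -- translates give too many points
      have hEcomm : ∀ b ∈ E, b * e * b⁻¹ = e := by
        intro b hb
        rw [show b * e = e * b by rw [← hinv _ (mul_mem hb he), mul_inv_rev, hinv e he, hinv b hb],
          mul_inv_cancel_right]
      -- the orbit of the point
      let St := MulAction.stabilizer E w
      have hSt : Nat.card St = 2 := by
        rw [Nat.card_eq_two_iff]
        refine ⟨⟨1, one_mem _⟩, ⟨⟨e, he⟩, hew⟩, fun h => e1 (congrArg (fun a : St => ((a : E) : H)) h).symm, ?_⟩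
        refine Set.eq_univ_of_forall fun a => ?_
        rcases eq_or_ne (((a : E) : H)) 1 with r | r
        · exact Or.inl (Subtype.ext (Subtype.ext r))
        · exact Or.inr (Subtype.ext (Subtype.ext (hone _ (a : E).2 r a.2)))
      have horb : (MulAction.orbit E w).ncard = 4 := by
        have h := MulAction.index_stabilizer E w
        have h2 := Subgroup.card_mul_index St
        rw [hSt, hk, h] at h2
        omega
      have hfix : ∀ u ∈ MulAction.orbit E w, ∀ e' ∈ E, e' ≠ 1 → e' • u = u → e' = e := by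
        rintro _ ⟨b, rfl⟩ e' he' e1' hu
        have h1 : (b : H)⁻¹ * e' * (b : H) = e := by
          refine hone _ ?_ (fun h => e1' ?_) ?_
          · have := hEn.conj_mem e' he' (b : H)⁻¹
            rwa [inv_inv] at this
          · calc e' = (b : H) * ((b : H)⁻¹ * e' * b) * (b : H)⁻¹ := by group
              _ = 1 := by rw [h]; group
          · rw [mul_smul, mul_smul, inv_smul_eq_iff]
            exact hu
        calc e' = (b : H) * ((b : H)⁻¹ * e' * b) * (b : H)⁻¹ := by group
          _ = e := by rw [h1, hEcomm _ b.2]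
      have hinj : Function.Injective fun t : Fin 7 × MulAction.orbit E w => σ ^ t.1.val • (t.2 : Cfsg.GolayPt) := by
        rintro ⟨i, u, hu⟩ ⟨j, v, hv⟩ h
        simp only at h
        have hev : e • v = v := by
          obtain ⟨b, rfl⟩ := hv
          show e • ((b : H) • w) = (b : H) • w
          rw [← mul_smul, show e * (b : H) = (b : H) * e by
            calc e * (b : H) = (b : H) * e * (b : H)⁻¹ * b := by rw [hEcomm _ b.2]
              _ = (b : H) * e := by group, mul_smul, hew]
        have hcj : (σ ^ i.val)⁻¹ * σ ^ j.val * e * ((σ ^ i.val)⁻¹ * σ ^ j.val)⁻¹ = e := by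
          refine hfix u hu _ (hEn.conj_mem e he _) (fun h' => e1 (conj_eq_one_iff.1 h')) ?_
          have huv : u = ((σ ^ i.val)⁻¹ * σ ^ j.val) • v := by rw [mul_smul, ← h, inv_smul_smul]
          conv_lhs => rw [huv]
          rw [← mul_smul, inv_mul_cancel_right, mul_smul, hev, ← huv]
        have hcm : Commute ((σ ^ i.val)⁻¹ * σ ^ j.val) e := mul_inv_eq_iff_eq_mul.1 hcj
        have hij : j = i := by
          by_contra hne
          have hσ1 : σ ≠ 1 := fun h => e1 (hfree e he (by rw [h]; exact Commute.one_left e))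
          have ho : orderOf σ = 7 := orderOf_eq_prime hσ hσ1
          have hd1 : (σ ^ i.val)⁻¹ * σ ^ j.val ≠ 1 := fun e' => hne (by
            rw [inv_mul_eq_one, pow_eq_pow_iff_modEq, ho] at e'
            exact Fin.ext (Nat.ModEq.eq_of_lt_of_lt e'.symm j.2 i.2))
          obtain ⟨l, hl⟩ := zpowers_gen hσ
            (mul_mem (inv_mem (pow_mem (Subgroup.mem_zpowers σ) _)) (pow_mem (Subgroup.mem_zpowers σ) _)) hd1
          have hl' : ((σ ^ i.val)⁻¹ * σ ^ j.val) ^ l = σ := hl
          exact e1 (hfree e he (hl' ▸ hcm.zpow_left l))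
        subst hij
        simp only [smul_left_cancel_iff] at h
        subst h
        rfl
      have := Nat.card_le_card_of_injective _ hinj
      rw [Nat.card_prod, Nat.card_fin, Nat.card_coe_set_eq, horb, Nat.card_eq_fintype_card, Fintype.card_option,
        ZMod.card] at this
      omega
    -- double counting
    have hten : ∀ e ∈ Es, (Finset.univ.filter fun w : Cfsg.GolayPt => e • w = w).card ≤ 9 := by
      intro e he
      have h1 : η e ≠ 1 := fun h => (hEs.1 he).2 (hη (h.trans (map_one η).symm))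
      have := MathieuOut.fix_lt_ten (hM e) h1
      have e2 : (Finset.univ.filter fun w : Cfsg.GolayPt => e • w = w) = fixSet (η e) := by
        ext a; simp [hact]
      rw [e2]; omega
    have hlow : 3 * 24 ≤ ∑ w : Cfsg.GolayPt, (Es.filter fun e => e • w = w).card := by
      refine le_trans ?_ (Finset.card_nsmul_le_sum _ _ 3 fun w _ => hthree w)
      rw [Finset.card_univ, Fintype.card_option, ZMod.card, smul_eq_mul]
    have hup : ∑ w : Cfsg.GolayPt, (Es.filter fun e => e • w = w).card ≤ 7 * 9 := by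
      simp only [Finset.card_filter]
      rw [Finset.sum_comm]
      simp only [← Finset.card_filter]
      exact (Finset.sum_le_card_nsmul _ _ 9 hten).trans_eq (by rw [hEsc]; rfl)
    omega
  -- the stabiliser
  set K := MulAction.stabilizer H w with hK
  have hinjK : Function.Injective (ρ.comp K.subtype) := by
    rw [injective_iff_map_eq_one]
    intro a ha
    exact Subtype.ext (hw a (MonoidHom.mem_ker.2 ha) a.2)
  have hcardH : Nat.card H = 1344 := by
    rw [Subgroup.card_eq_card_quotient_mul_card_subgroup E, hk,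
      Nat.card_congr (QuotientGroup.quotientKerEquivOfSurjective ρ hρ).toEquiv, card_SLthree]
  have h56 : 56 ≤ Nat.card (ρ.comp K.subtype).range := by
    rw [← Nat.card_congr (MonoidHom.ofInjective hinjK).toEquiv]
    have h := MulAction.index_stabilizer H w
    have h2 := Subgroup.card_mul_index K
    rw [h, hcardH] at h2
    have h24 : (MulAction.orbit H w).ncard ≤ 24 := by
      refine (Set.ncard_le_card _).trans_eq ?_
      rw [Nat.card_eq_fintype_card, Fintype.card_option, ZMod.card]
    by_contra hlt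
    push Not at hlt
    have := Nat.mul_le_mul (Nat.lt_succ_iff.1 hlt : Nat.card K ≤ 55) h24
    omega
  have hsurj : Function.Surjective (ρ.comp K.subtype) :=
    MonoidHom.range_eq_top.1 (slthree_index h56)
  exact ⟨K, ⟨MulEquiv.ofBijective (ρ.comp K.subtype) ⟨hinjK, hsurj⟩⟩⟩

variable {G : Type u} [Group G] [Finite G] {z : G} {Q N : Subgroup G} {x : G}
variable (S : Big z Q N x) (f : Frame z Q x)

include S f

/-- elements of the normal subgroup commuting with the element of order three -/
theorem Big.N_cent {n : G} (hn : n ∈ N) (hnx : Commute n x) : ∃ i : ℕ, n = x ^ i ∨ n = x ^ i * z := by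
  have hx3 : orderOf x = 3 := by
    haveI : Fact (Nat.Prime 3) := ⟨Nat.prime_three⟩
    exact orderOf_eq_prime S.base.ord.cube S.base.x1
  have hxQ : ∀ j : ℕ, x ^ j ∈ Q → x ^ j = 1 := fun j hj => by
    have hd := Subgroup.orderOf_dvd_natCard Q hj
    rw [S.base.ord.cardQ] at hd
    exact orderOf_eq_one_iff.1 (Nat.eq_one_of_dvd_coprimes (by norm_num) (hx3 ▸ orderOf_pow_dvd j) hd)
  have hbij : Function.Bijective fun t : Fin 3 × Q => (⟨x ^ t.1.val * (t.2 : G),
      mul_mem (pow_mem S.base.xN _) (S.base.QN t.2.2)⟩ : N) := by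
    refine (Nat.bijective_iff_injective_and_card _).2 ⟨?_, by
      rw [Nat.card_prod, Nat.card_fin, S.base.cardN]⟩
    rintro ⟨i, a⟩ ⟨j, b⟩ h
    have h' : x ^ i.val * (a : G) = x ^ j.val * b := congrArg Subtype.val h
    have hij : x ^ i.val = x ^ j.val := by
      rcases le_total i.val j.val with hle | hle
      · have h1 := hxQ (j.val - i.val) (by
          rw [← Nat.add_sub_cancel' hle, pow_add, mul_assoc, mul_left_cancel_iff] at h'
          rw [show x ^ (j.val - i.val) = (a : G) * (b : G)⁻¹ by rw [h', mul_inv_cancel_right]]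
          exact mul_mem a.2 (inv_mem b.2))
        conv_rhs => rw [← Nat.add_sub_cancel' hle, pow_add, h1, mul_one]
      · have h1 := hxQ (i.val - j.val) (by
          rw [← Nat.add_sub_cancel' hle, pow_add, mul_assoc, mul_left_cancel_iff] at h'
          rw [show x ^ (i.val - j.val) = (b : G) * (a : G)⁻¹ by rw [← h', mul_inv_cancel_right]]
          exact mul_mem b.2 (inv_mem a.2))
        conv_lhs => rw [← Nat.add_sub_cancel' hle, pow_add, h1, mul_one]
    rw [hij] at h'
    rw [pow_eq_pow_iff_modEq, hx3] at hij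
    rw [Fin.ext (Nat.ModEq.eq_of_lt_of_lt hij i.2 j.2), Subtype.ext (mul_left_cancel h')]
  obtain ⟨⟨i, q⟩, hq⟩ := hbij.2 ⟨n, hn⟩
  have hq' : x ^ i.val * (q : G) = n := congrArg Subtype.val hq
  have hqx : Commute (q : G) x := by
    have := ((Commute.refl x).pow_left i.val).inv_left.mul_left (hq'.symm ▸ hnx : Commute (x ^ i.val * (q : G)) x)
    rwa [inv_mul_cancel_left] at this
  have := S.base.ord.free q q.2 (Or.inl (by rw [← hqx.eq, mul_inv_cancel_right]))
  refine ⟨i.val, ?_⟩
  rcases this with e | e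
  · exact Or.inl (by rw [← hq', e, mul_one])
  · exact Or.inr (by rw [← hq', e, one_mul])

theorem Big.pent_split {p σ : G} {E J L : Subgroup G} {d : G} (hp : orderOf p = 5) (T : FiveTop z Q p E J d)
    (C : Core z Q p E L) (P : PQuot E J L p σ) :
    ∃ K : Subgroup G, K ≤ Subgroup.normalizer (E : Set G) ∧ Nonempty (↥K ≃* SLT) := by
  classical
  haveI : Fact (Nat.Prime 3) := ⟨Nat.prime_three⟩
  haveI : Fact (Nat.Prime 7) := ⟨by norm_num⟩
  obtain ⟨hfix1, -, -⟩ := S.pent_cent f T C P
  obtain ⟨a, haC, hao, haσ⟩ := P.three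
  set NE := Subgroup.normalizer (E : Set G) with hNE
  obtain ⟨Φ, hsur, hker, hCE2⟩ := P.hom
  have hCEN := Subgroup.centralizer_le_normalizer (E : Set G)
  set aN : NE := ⟨a, hCEN haC⟩ with haN
  have ha2 : (Φ aN).2 = 1 := (hCE2 _).2 haC
  have ha1 : (Φ aN).1 ≠ 1 := fun h => by
    have hL : a ∈ L := (hker aN).1 (Prod.ext h ha2)
    have := hao ▸ Subgroup.orderOf_dvd_natCard L hL
    rw [C.cardL] at this
    norm_num at this
  set H0 := ((MonoidHom.fst _ _).comp Φ).ker ⊓ Subgroup.centralizer ({aN} : Set NE) with hH0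
  -- surjectivity
  set ρ : H0 →* SLT := ((MonoidHom.snd _ _).comp Φ).comp H0.subtype with hρ
  have hρs : Function.Surjective ρ := by
    intro s
    obtain ⟨n, hn⟩ := hsur (1, s)
    have hw : Φ (aN * n * aN⁻¹ * n⁻¹) = 1 := by
      rw [map_mul, map_mul, map_mul, map_inv, map_inv, hn]
      refine Prod.ext ?_ ?_
      · show (Φ aN).1 * 1 * (Φ aN).1⁻¹ * 1⁻¹ = 1; group
      · show (Φ aN).2 * s * (Φ aN).2⁻¹ * s⁻¹ = 1; rw [ha2]; group
    obtain ⟨l, hl, hlc⟩ := coset_fixed (a := a) (c := (n : G)) (hao ▸ pow_orderOf_eq_one a)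
      (P.normL a (hCEN haC)) (by rw [C.cardL]; norm_num) ((hker _).1 hw)
    set lN : NE := ⟨l, hCEN (C.le hl)⟩ with hlN
    have hΦl : Φ (lN * n) = (1, s) := by rw [map_mul, (hker lN).2 hl, one_mul, hn]
    refine ⟨⟨lN * n, ?_, Subgroup.mem_centralizer_singleton_iff.2 (Subtype.ext hlc.eq)⟩, ?_⟩
    · show (Φ (lN * n)).1 = 1
      rw [hΦl]
    · show (Φ (lN * n)).2 = s
      rw [hΦl]
  have hkerρ : ∀ g : H0, g ∈ ρ.ker → ((g : NE) : G) ∈ L := fun g hg =>
    (hker _).1 (Prod.ext g.2.1 (MonoidHom.mem_ker.1 hg))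
  set sN : NE := ⟨σ, P.normE⟩ with hsN
  have hsH : sN ∈ H0 := by
    refine ⟨?_, Subgroup.mem_centralizer_singleton_iff.2 (Subtype.ext haσ.symm.eq)⟩
    show (Φ sN).1 = 1
    have h7 : (Φ sN).1 ^ 7 = 1 := by
      show (Φ sN ^ 7).1 = 1
      rw [← map_pow, show sN ^ 7 = 1 from Subtype.ext (P.ord ▸ pow_orderOf_eq_one σ), map_one]; rfl
    have h := pow_gcd_eq_one.2 ⟨h7, pow_card_eq_one' (G := Equiv.Perm (Fin 5)) (x := (Φ sN).1)⟩
    rwa [Nat.card_perm, Nat.card_fin, show Nat.gcd 7 (Nat.factorial 5) = 1 from rfl, pow_one] at h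
  set σ0 : H0 := ⟨sN, hsH⟩ with hσ0
  have hσ07 : σ0 ^ 7 = 1 := Subtype.ext (Subtype.ext (P.ord ▸ pow_orderOf_eq_one σ))
  have hfree : ∀ g ∈ ρ.ker, Commute σ0 g → g = 1 := fun g hg hc => Subtype.ext (Subtype.ext
    (hfix1 _ (hkerρ g hg) (congrArg (fun t : H0 => ((t : NE) : G)) hc.eq).symm))
  -- the embedding
  obtain ⟨h, hh⟩ := isConj_iff.1 (S.one_class f hao)
  have hmem : ∀ g : H0, Commute (h * ((g : NE) : G) * h⁻¹) x := fun g => by
    have h1 : Commute ((g : NE) : G) a := congrArg Subtype.val (Subgroup.mem_centralizer_singleton_iff.1 g.2.2)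
    exact hh ▸ (Commute.conj_iff h).2 h1
  let c0 : H0 →* Subgroup.centralizer ({z} : Set G) :=
    { toFun := fun g => ⟨h * ((g : NE) : G) * h⁻¹, Subgroup.mem_centralizer_singleton_iff.2 (S.cent_x f (hmem g)).eq⟩
      map_one' := Subtype.ext (by simp)
      map_mul' := fun g g' => Subtype.ext (by simp [mul_assoc]) }
  obtain ⟨q, hqs, hqk⟩ := S.base.quot
  let toA := MulEquiv.ofBijective Pent.toAutM22 Pent.toAutM22_bij
  let η : H0 →* Equiv.Perm Cfsg.GolayPt := Pent.StP.subtype.comp (toA.symm.toMonoidHom.comp (q.comp c0))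
  have hη : Function.Injective η := by
    rw [injective_iff_map_eq_one]
    intro g hg
    have h1 : toA.symm (q (c0 g)) = 1 := Subtype.ext hg
    have h2 : q (c0 g) = 1 := toA.symm.injective (h1.trans (map_one _).symm)
    obtain ⟨i, hi⟩ := S.N_cent f ((hqk _).1 h2) (hmem g)
    have hg1 : (Φ (g : NE)).1 = 1 := g.2.1
    have hxa : ∀ j : ℕ, h⁻¹ * x ^ j * h = a ^ j := fun j => by rw [← hh, conj_pow]; group
    have hi0 : a ^ (2 * i) = 1 := by
      have hsq : ((g : NE) : G) * ((g : NE) : G) = a ^ (2 * i) := by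
        rcases hi with e | e
        · have e' : h * ((g : NE) : G) * h⁻¹ = x ^ i := e
          calc ((g : NE) : G) * (g : NE) = h⁻¹ * ((h * ((g : NE) : G) * h⁻¹) * (h * ((g : NE) : G) * h⁻¹)) * h := by
                group
            _ = h⁻¹ * x ^ (2 * i) * h := by rw [e', two_mul, pow_add]
            _ = a ^ (2 * i) := hxa _
        · have e' : h * ((g : NE) : G) * h⁻¹ = x ^ i * z := e
          have hxz : Commute (x ^ i) z := S.base.ord.xz.pow_left i
          calc ((g : NE) : G) * (g : NE) = h⁻¹ * ((h * ((g : NE) : G) * h⁻¹) * (h * ((g : NE) : G) * h⁻¹)) * h := by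
                group
            _ = h⁻¹ * x ^ (2 * i) * h := by
              rw [e', hxz.symm.mul_mul_mul_comm, S.base.ord.xt.sq, mul_one, ← pow_add, ← two_mul]
            _ = a ^ (2 * i) := hxa _
      have h3 : (Φ (aN ^ (2 * i))).1 = 1 := by
        rw [show aN ^ (2 * i) = (g : NE) * (g : NE) from Subtype.ext hsq.symm, map_mul]
        show (Φ (g : NE)).1 * (Φ (g : NE)).1 = 1
        rw [hg1, one_mul]
      rw [← orderOf_dvd_iff_pow_eq_one, hao]
      by_contra hd
      refine ha1 ?_
      have h4 : (Φ aN).1 ^ (2 * i) = 1 := by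
        rw [map_pow] at h3; exact h3
      have h5 : (Φ aN).1 ^ 3 = 1 := by
        show (Φ aN ^ 3).1 = 1
        rw [← map_pow, show aN ^ 3 = 1 from Subtype.ext (hao ▸ pow_orderOf_eq_one a), map_one]; rfl
      have := pow_gcd_eq_one.2 ⟨h4, h5⟩
      rwa [Nat.Coprime.gcd_eq_one (((Nat.Prime.coprime_iff_not_dvd Nat.prime_three).2 hd).symm), pow_one] at this
    have hai : a ^ i = 1 := by
      rw [← orderOf_dvd_iff_pow_eq_one, hao] at hi0 ⊢
      exact ((Nat.Prime.dvd_mul Nat.prime_three).1 hi0).resolve_left (by norm_num)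
    have hxi : x ^ i = 1 := by
      have := hxa i
      rw [hai] at this
      calc x ^ i = h * (h⁻¹ * x ^ i * h) * h⁻¹ := by group
        _ = 1 := by rw [this]; group
    rcases hi with e | e
    · have e' : h * ((g : NE) : G) * h⁻¹ = 1 := e.trans hxi
      exact Subtype.ext (Subtype.ext (conj_eq_one_iff.1 e'))
    · exfalso
      have e' : h * ((g : NE) : G) * h⁻¹ = z := by
        have : h * ((g : NE) : G) * h⁻¹ = x ^ i * z := e
        rw [this, hxi, one_mul]
      have hgz : ((g : NE) : G) = h⁻¹ * z * h := by rw [← e']; group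
      have hcomm : ∀ b, Commute b a → Commute b ((g : NE) : G) := fun b hb => by
        have h1 : Commute (h * b * h⁻¹) z := S.cent_x f (hh ▸ (Commute.conj_iff h).2 hb)
        rw [← e'] at h1
        exact (Commute.conj_iff h).1 h1
      have hgC : ((g : NE) : G) ∈ Subgroup.centralizer (E : Set G) := Subgroup.mem_centralizer_iff.2 fun e he =>
        (hcomm e (Subgroup.mem_centralizer_iff.1 haC e he)).eq
      have hgL : ((g : NE) : G) ∈ L := (hker _).1 (Prod.ext hg1 ((hCE2 _).2 hgC))
      have := hfix1 _ hgL (hcomm σ haσ.symm).symm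
      rw [this, mul_one, mul_inv_cancel] at e'
      exact S.base.ord.xt.ne e'.symm
  have hM : ∀ g, η g ∈ Cfsg.M24 := fun g => (toA.symm (q (c0 g))).2.1
  -- the kernel
  have hk : Nat.card ρ.ker = 8 := by
    obtain ⟨k, hk⟩ := IsPGroup.iff_card.1 (show IsPGroup 2 ρ.ker from
      (IsPGroup.of_card C.cardL).of_injective
        ({ toFun := fun g => ⟨((g : H0) : NE), hkerρ g g.2⟩, map_one' := rfl, map_mul' := fun _ _ => rfl } : ρ.ker →* L)
        (fun g g' hgg => Subtype.ext (Subtype.ext (Subtype.ext (congrArg (fun t : L => (t : G)) hgg)))))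
    have h8 : 8 ≤ Nat.card ρ.ker := by
      rw [← T.loc.ctx.card]
      refine Nat.card_le_card_of_injective (fun e : E => (⟨⟨⟨(e : G), hCEN (C.le (C.EL e.2))⟩, ?_, ?_⟩, ?_⟩ : ρ.ker))
        fun e e' hee => Subtype.ext (congrArg (fun t : ρ.ker => (((t : H0) : NE) : G)) hee)
      · show (Φ _).1 = 1
        rw [(hker _).2 (show (e : G) ∈ L from C.EL e.2)]; rfl
      · exact Subgroup.mem_centralizer_singleton_iff.2
          (Subtype.ext (Subgroup.mem_centralizer_iff.1 haC e e.2))
      · show (Φ _).2 = 1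
        rw [(hker _).2 (show (e : G) ∈ L from C.EL e.2)]; rfl
    have hA : Nat.card (MulAut ↥Cfsg.Spor.M22) = 887040 := by
      have h1 := Subgroup.card_eq_card_quotient_mul_card_subgroup q.ker
      have hkN : Nat.card q.ker = 3 * 2 ^ 13 := by
        rw [← S.base.ord.cardQ, ← S.base.cardN]
        exact Nat.card_congr
          { toFun := fun c => ⟨((c : Subgroup.centralizer ({z} : Set G)) : G), (hqk _).1 c.2⟩
            invFun := fun n => ⟨⟨(n : G), Subgroup.mem_centralizer_singleton_iff.2 (S.base.le _ n.2).eq⟩, (hqk _).2 n.2⟩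
            left_inv := fun _ => rfl
            right_inv := fun _ => rfl }
      rw [S.card_C f, hkN, Nat.card_congr (QuotientGroup.quotientKerEquivOfSurjective q hqs).toEquiv] at h1
      simp only [Nat.reducePow, Nat.reduceMul] at h1
      omega
    have hdvd : Nat.card H0 ∣ 887040 := by
      rw [← hA]
      exact Subgroup.card_dvd_of_injective (q.comp c0) fun g g' hgg => hη (by
        show Pent.StP.subtype (toA.symm (q (c0 g))) = Pent.StP.subtype (toA.symm (q (c0 g')))
        rw [show q (c0 g) = q (c0 g') from hgg])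
    rw [Subgroup.card_eq_card_quotient_mul_card_subgroup ρ.ker,
      Nat.card_congr (QuotientGroup.quotientKerEquivOfSurjective ρ hρs).toEquiv, card_SLthree, hk] at hdvd
    rw [hk] at h8
    have hk3 : 3 ≤ k := (Nat.pow_le_pow_iff_right (by norm_num)).1 (show 2 ^ 3 ≤ 2 ^ k from h8)
    have hk5 : k ≤ 5 := by
      by_contra hlt
      push Not at hlt
      have : 168 * 2 ^ 6 ∣ 887040 := (Nat.mul_dvd_mul_left 168 (pow_dvd_pow 2 hlt)).trans hdvd
      norm_num at this
    rw [hk]
    by_contra hne
    have hc : ((ρ.ker : Set H0) \ {1}).ncard + 1 = 2 ^ k := by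
      rw [Set.ncard_diff_singleton_add_one (one_mem ρ.ker) (Set.toFinite _), ← hk, ← Nat.card_coe_set_eq]
      rfl
    obtain ⟨g, ⟨hg, hg1⟩, hgs⟩ := set_fixed hσ07 ((ρ.ker : Set H0) \ {1})
      (fun g hg => ⟨(MonoidHom.normal_ker ρ).conj_mem g hg.1 σ0, fun e => hg.2 (conj_eq_one_iff.1 e)⟩)
      (by
        rcases (show k = 3 ∨ k = 4 ∨ k = 5 by omega) with rfl | rfl | rfl
        · exact absurd rfl hne
        all_goals (simp only [Nat.reducePow] at hc; omega))
    exact hg1 (hfree g hg hgs.symm)
  obtain ⟨K, ⟨e⟩⟩ := split_of_points η hη hM ρ hρs hk hσ07 hfree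
  refine ⟨(K.map H0.subtype).map NE.subtype, Subgroup.map_subtype_le _, ⟨?_⟩⟩
  exact ((Subgroup.equivMapOfInjective _ NE.subtype NE.subtype_injective).symm.trans
    (Subgroup.equivMapOfInjective _ H0.subtype H0.subtype_injective).symm).trans e

end Cfsg.Agent.Spor.JFour
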