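import Cfsg.Agent.Lib.Spor.JFourLoc.PentSpecial

/-!
The normaliser of the special group: complements, Sylow normalisers and a symmetric subgroup.
-/

set_option autoImplicit false
set_option maxRecDepth 100000
set_option linter.unusedSectionVars false

namespace Cfsg.Agent.Spor.JFour

open Cfsg.Agent.Spor.SUSix (V6)

attribute [local irreducible] wd gP Gam Kp Chk.app

universe u

variable {G : Type u} [Group G] [Finite G] {z : G} {Q N : Subgroup G} {x : G}
variable (S : Big z Q N x) (f : Frame z Q x)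

include S f

/-- nothing in the special group commutes with the element of order seven -/
theorem Big.pent_cent {p σ : G} {E J L : Subgroup G} {d : G} (T : FiveTop z Q p E J d)
    (C : Core z Q p E L) (P : PQuot E J L p σ) :
    (∀ l ∈ L, Commute l σ → l = 1) ∧
      Nat.card (Subgroup.centralizer ({σ} : Set G) ⊓ Subgroup.centralizer (E : Set G) : Subgroup G) = 120 ∧
      ∃ I : Subgroup G, I ≤ Subgroup.normalizer (E : Set G) ∧ Nonempty (↥I ≃* Equiv.Perm (Fin 5)) := by
  classical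
  set CE := Subgroup.centralizer (E : Set G) with hCE
  set NE := Subgroup.normalizer (E : Set G) with hNE
  obtain ⟨Φ, hsur, hker, hCE2⟩ := P.hom
  have hCEN : CE ≤ NE := Subgroup.centralizer_le_normalizer _
  set I := Subgroup.centralizer ({σ} : Set G) ⊓ CE with hI
  set ψ : I →* Equiv.Perm (Fin 5) :=
    ((MonoidHom.fst _ _).comp Φ).comp (Subgroup.inclusion (inf_le_right.trans hCEN)) with hψ
  have hψs : Function.Surjective ψ := by
    intro s
    obtain ⟨c, hc⟩ := hsur (s, 1)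
    have hcC : (c : G) ∈ CE := (hCE2 c).1 (by rw [hc])
    obtain ⟨n, hn, hnc⟩ := P.fix _ hcC
    refine ⟨⟨n * c, Subgroup.mem_centralizer_singleton_iff.2 hnc.eq, mul_mem (C.le hn) hcC⟩, ?_⟩
    show (Φ ⟨n * c, _⟩).1 = s
    rw [show (⟨n * (c : G), hCEN (mul_mem (C.le hn) hcC)⟩ : NE) = ⟨n, hCEN (C.le hn)⟩ * c from rfl, map_mul,
      (hker _).2 (show ((⟨n, hCEN (C.le hn)⟩ : NE) : G) ∈ L from hn), one_mul, hc]
  have hk : ∀ a : I, ψ a = 1 → (a : G) ∈ L := fun a ha =>
    (hker (Subgroup.inclusion (inf_le_right.trans hCEN) a)).1 (Prod.ext ha ((hCE2 _).2 a.2.2))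
  have hcard := Subgroup.card_eq_card_quotient_mul_card_subgroup ψ.ker
  rw [Nat.card_congr (QuotientGroup.quotientKerEquivOfSurjective ψ hψs).toEquiv, Nat.card_perm, Nat.card_fin] at hcard
  have hk1 : Nat.card ψ.ker = 1 := by
    have h1 : Nat.card ψ.ker ∣ 2 ^ 15 := by
      rw [← C.cardL]
      let φ : ψ.ker →* L :=
        { toFun := fun k => ⟨((k : I) : G), hk k.1 k.2⟩
          map_one' := rfl
          map_mul' := fun _ _ => rfl }
      exact Subgroup.card_dvd_of_injective φ fun a b h =>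
        Subtype.ext (Subtype.ext (congrArg (fun t : L => (t : G)) h))
    have h2 : Nat.card I ∣ 840 := P.c840 ▸ Subgroup.card_dvd_of_le inf_le_left
    rw [hcard, show Nat.factorial 5 = 120 from rfl, show (840 : ℕ) = 120 * 7 from rfl] at h2
    exact Nat.eq_one_of_dvd_coprimes (by norm_num) h1 ((Nat.mul_dvd_mul_iff_left (by norm_num)).1 h2)
  rw [hk1, mul_one] at hcard
  refine ⟨fun l hl hls => ?_, hcard, I, inf_le_right.trans hCEN, ?_⟩
  · have hm : (⟨l, Subgroup.mem_centralizer_singleton_iff.2 hls.eq, C.le hl⟩ : I) ∈ ψ.ker := by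
      rw [MonoidHom.mem_ker]
      show (Φ ⟨l, _⟩).1 = 1
      rw [(hker _).2 (show ((⟨l, hCEN (C.le hl)⟩ : NE) : G) ∈ L from hl)]
      rfl
    rw [Subgroup.eq_bot_of_card_eq _ hk1, Subgroup.mem_bot] at hm
    exact congrArg Subtype.val hm
  · exact ⟨MulEquiv.ofBijective ψ ((Nat.bijective_iff_surjective_and_card ψ).2
      ⟨hψs, by rw [hcard, Nat.card_perm, Nat.card_fin]⟩)⟩

theorem Big.pent_norm_five {p : G} {E J : Subgroup G} {d : G} (T : FiveTop z Q p E J d) :
    Subgroup.normalizer (Subgroup.zpowers p : Set G) ≤ Subgroup.normalizer (E : Set G) := by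
  intro n hn
  refine Subgroup.mem_normalizer_fintype fun e he => (T.loc.iff _).2 ?_
  rcases (T.loc.iff e).1 he with rfl | ⟨hez, hep⟩
  · exact Or.inl (by group)
  refine Or.inr ⟨hez.trans (isConj_iff.2 ⟨n, rfl⟩), ?_⟩
  obtain ⟨k, hk⟩ := mem_norm_zpowers.1 (inv_mem hn)
  have hk' : p ^ k = n⁻¹ * p * n⁻¹⁻¹ := hk
  have := (Commute.conj_iff n).2 (hep.zpow_right k)
  rwa [hk', show n * (n⁻¹ * p * n⁻¹⁻¹) * n⁻¹ = p by group] at this

theorem Big.pent_norm_seven {p σ : G} {E J L : Subgroup G} {d : G} (T : FiveTop z Q p E J d)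
    (C : Core z Q p E L) (P : PQuot E J L p σ) :
    Subgroup.normalizer (Subgroup.zpowers σ : Set G) ≤ Subgroup.normalizer (E : Set G) := by
  classical
  haveI : Fact (Nat.Prime 7) := ⟨by norm_num⟩
  obtain ⟨-, h120, -⟩ := S.pent_cent f T C P
  set NE := Subgroup.normalizer (E : Set G) with hNE
  set CS := Subgroup.centralizer ({σ} : Set G) with hCS
  set I := CS ⊓ Subgroup.centralizer (E : Set G) with hI
  have hσC : σ ∈ CS := Subgroup.mem_centralizer_singleton_iff.2 rfl
  have hz1 : σ ∉ Subgroup.centralizer (E : Set G) := fun h =>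
    S.base.ord.xt.ne (P.free z T.loc.ctx.zE (Subgroup.mem_centralizer_iff.1 h z T.loc.ctx.zE).symm)
  have hdisj : ∀ a, a ∈ Subgroup.zpowers σ → a ∈ Subgroup.centralizer (E : Set G) → a = 1 := fun a ha hb => by
    by_contra h1
    exact hz1 ((Subgroup.zpowers_le.2 hb) (zpowers_gen (P.ord ▸ pow_orderOf_eq_one σ) ha h1))
  -- every centralising element
  have hsplit : ∀ c ∈ CS, ∃ i : ℕ, ∃ a ∈ I, c = σ ^ i * a := by
    have hbij : Function.Bijective fun t : Fin 7 × I => (⟨σ ^ t.1.val * (t.2 : G),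
        mul_mem (pow_mem hσC _) t.2.2.1⟩ : CS) := by
      refine (Nat.bijective_iff_injective_and_card _).2 ⟨?_, by
        rw [Nat.card_prod, Nat.card_fin, h120, P.c840]⟩
      rintro ⟨i, a⟩ ⟨j, b⟩ h
      have h' : σ ^ i.val * (a : G) = σ ^ j.val * b := congrArg Subtype.val h
      have h2 : (σ ^ j.val)⁻¹ * σ ^ i.val = (b : G) * (a : G)⁻¹ := by
        rw [eq_mul_inv_iff_mul_eq, mul_assoc, h', inv_mul_cancel_left]
      have h3 := hdisj _ (mul_mem (inv_mem (pow_mem (Subgroup.mem_zpowers σ) _)) (pow_mem (Subgroup.mem_zpowers σ) _))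
        (h2 ▸ (Subgroup.centralizer (E : Set G)).mul_mem b.2.2 ((Subgroup.centralizer (E : Set G)).inv_mem a.2.2))
      rw [inv_mul_eq_one, pow_eq_pow_iff_modEq, P.ord] at h3
      have hij : i = j := (Fin.ext (Nat.ModEq.eq_of_lt_of_lt h3 j.2 i.2)).symm
      rw [hij] at h'
      rw [hij, Subtype.ext (mul_left_cancel h')]
    intro c hc
    obtain ⟨⟨i, a⟩, h⟩ := hbij.2 ⟨c, hc⟩
    exact ⟨i, a, a.2, (congrArg Subtype.val h).symm⟩
  have hCN : CS ≤ NE := fun c hc => by
    obtain ⟨i, a, ha, rfl⟩ := hsplit c hc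
    exact mul_mem (pow_mem P.normE i) (Subgroup.centralizer_le_normalizer _ ha.2)
  have hCle : CS ≤ Subgroup.normalizer (Subgroup.zpowers σ : Set G) := fun c hc => mem_norm_zpowers.2 (by
    rw [Subgroup.mem_centralizer_singleton_iff.1 hc, mul_inv_cancel_right]; exact Subgroup.mem_zpowers σ)
  have hJN : J ≤ NE := fun j hj => Subgroup.mem_normalizer_fintype fun e he => T.loc.normal j (T.JC j hj) e he
  -- an element outside the centraliser
  obtain ⟨n, hnJ, hnN, hnC⟩ : ∃ n ∈ J, n ∈ Subgroup.normalizer (Subgroup.zpowers σ : Set G) ∧ n ∉ CS := by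
    set sJ : J := ⟨σ, P.memJ⟩ with hsJ
    have hsc : Nat.card (Subgroup.zpowers sJ) = 7 := by rw [Nat.card_zpowers, hsJ, Subgroup.orderOf_mk, P.ord]
    obtain ⟨m, k, hm, hk, hN, hc⟩ := M22U.PrimeCount.card_normalizer (G := J) (p := 7) (by norm_num)
      (by rw [T.cardJ]; norm_num) (by rw [T.cardJ]; norm_num) hsc
    have hC7 : Subgroup.centralizer ((Subgroup.zpowers sJ : Subgroup J) : Set J) = Subgroup.zpowers sJ := by
      rw [Subgroup.zpowers_eq_closure, Subgroup.centralizer_closure, ← Subgroup.zpowers_eq_closure]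
      refine le_antisymm ?_ (Subgroup.zpowers_le.2 (Subgroup.mem_centralizer_singleton_iff.2 rfl))
      rintro ⟨c, hcJ⟩ hc
      have hc' : c ∈ CS := Subgroup.mem_centralizer_singleton_iff.2
        (congrArg Subtype.val (Subgroup.mem_centralizer_singleton_iff.1 hc))
      obtain ⟨i, a, ha, rfl⟩ := hsplit c hc'
      have haJ : a ∈ J := (Subgroup.mul_mem_cancel_left J (pow_mem P.memJ i)).1 hcJ
      have haE : a ∈ E := T.ker a haJ fun e he => (Subgroup.mem_centralizer_iff.1 ha.2 e he).symm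
      have ha1 : a = 1 := P.free a haE (Subgroup.mem_centralizer_singleton_iff.1 ha.1).symm
      refine mem_powers_iff_mem_zpowers.1 ⟨i, Subtype.ext ?_⟩
      show σ ^ i = σ ^ i * a
      rw [ha1, mul_one]
    rw [hC7, hsc] at hN hc
    rw [T.cardJ] at hc
    have hm6 : m ≤ 6 := Nat.le_of_dvd (by norm_num) hm
    have hm3 : m = 3 := by interval_cases m <;> omega
    subst hm3
    obtain ⟨n, hn, hnn⟩ : ∃ n ∈ Subgroup.normalizer (Subgroup.zpowers sJ : Set J), n ∉ Subgroup.zpowers sJ := by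
      by_contra h
      push Not at h
      have := Subgroup.card_le_of_le h
      rw [hN, hsc] at this
      norm_num at this
    refine ⟨(n : G), n.2, mem_norm_zpowers.2 ?_, fun h => hnn ?_⟩
    · obtain ⟨i, hi⟩ := mem_norm_zpowers.1 hn
      exact ⟨i, congrArg Subtype.val hi⟩
    · rw [← hC7, Subgroup.zpowers_eq_closure, Subgroup.centralizer_closure]
      exact Subgroup.mem_centralizer_singleton_iff.2 (Subtype.ext (Subgroup.mem_centralizer_singleton_iff.1 h))
  set K := Subgroup.normalizer (Subgroup.zpowers σ : Set G) ⊓ NE with hK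
  have hKc : Nat.card K = 2520 := by
    have h1 : 840 ∣ Nat.card K := P.c840 ▸ Subgroup.card_dvd_of_le (le_inf hCle hCN)
    have h2 : Nat.card K ∣ 2520 := P.n2520 ▸ Subgroup.card_dvd_of_le inf_le_left
    obtain ⟨t, ht⟩ := h1
    rw [ht, show (2520 : ℕ) = 840 * 3 from rfl, Nat.mul_dvd_mul_iff_left (by norm_num), Nat.dvd_prime Nat.prime_three] at h2
    rcases h2 with rfl | rfl
    · exact absurd ((Subgroup.eq_of_le_of_card_ge (le_inf hCle hCN) (by rw [ht, P.c840])).symm ▸
        (⟨hnN, hJN hnJ⟩ : n ∈ K)) hnC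
    · exact ht
  intro a ha
  have e : K = Subgroup.normalizer (Subgroup.zpowers σ : Set G) :=
    Subgroup.eq_of_le_of_card_ge inf_le_left (by rw [hKc, P.n2520])
  exact (e ▸ ha : a ∈ K).2

theorem Big.pent_nonsplit {p σ : G} {E J L : Subgroup G} {d : G} (hp : orderOf p = 5) (T : FiveTop z Q p E J d)
    (C : Core z Q p E L) (P : PQuot E J L p σ) :
    ∀ K : Subgroup ↥(Subgroup.normalizer (E : Set G)),
      ¬ (L.subgroupOf (Subgroup.normalizer (E : Set G))).IsComplement' K := by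
  set NE := Subgroup.normalizer (E : Set G) with hNE
  intro K hK
  haveI : Fact (Nat.Prime 5) := ⟨by norm_num⟩
  have hC := T.loc.ctx
  have hpCE : p ∈ Subgroup.centralizer (E : Set G) := Subgroup.mem_centralizer_iff.2 fun e he => (hC.com e he).eq
  set pN : NE := ⟨p, Subgroup.centralizer_le_normalizer _ hpCE⟩ with hpN
  set L' := L.subgroupOf NE with hL'
  have hL'c : Nat.card L' = 2 ^ 15 :=
    (Nat.card_congr (Subgroup.subgroupOfEquivOfLe (C.le.trans (Subgroup.centralizer_le_normalizer _))).toEquiv).trans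
      C.cardL
  have hKc : Nat.card K = 120 * 168 := by
    have := hK.card_mul
    rw [hL'c, P.cardN] at this
    refine Nat.eq_of_mul_eq_mul_left (show 0 < 2 ^ 15 by norm_num) (this.trans ?_)
    ring
  obtain ⟨y, hy⟩ := exists_prime_orderOf_dvd_card' (G := K) 5 (by rw [hKc]; norm_num)
  have h25 : ¬ 5 * 5 ∣ Nat.card NE := fun h => T.n25 (h.trans NE.card_subgroup_dvd_card)
  have hpNo : orderOf pN = 5 := by rw [hpN, Subgroup.orderOf_mk, hp]
  obtain ⟨g, hg⟩ := M22U.PrimeCount.conj_of_card (G := NE) (p := 5) (by norm_num)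
    (hpNo ▸ orderOf_dvd_natCard pN) h25 (X := Subgroup.zpowers (y : NE)) (Y := Subgroup.zpowers pN)
    (by rw [Nat.card_zpowers, Subgroup.orderOf_coe, hy]) (by rw [Nat.card_zpowers, hpNo])
  set K' := K.map (MulAut.conj g).toMonoidHom with hK'
  have hpK : pN ∈ K' := by
    have : pN ∈ (Subgroup.zpowers (y : NE)).map (MulAut.conj g).toMonoidHom := hg ▸ Subgroup.mem_zpowers pN
    exact Subgroup.map_mono (Subgroup.zpowers_le.2 y.2) this
  haveI hn : L'.Normal := ⟨fun l hl n => P.normL n n.2 _ hl⟩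
  have hdis : ∀ k ∈ K', k ∈ L' → k = 1 := by
    rintro _ ⟨k, hk, rfl⟩ hl
    have hl' : k ∈ L' := by
      have := hn.conj_mem _ hl g⁻¹
      rwa [show g⁻¹ * (MulAut.conj g).toMonoidHom k * g⁻¹⁻¹ = k by
        show g⁻¹ * (g * k * g⁻¹) * g⁻¹⁻¹ = k; group] at this
    rw [Subgroup.disjoint_def.1 hK.disjoint hl' hk, map_one]
  have hdec : ∀ n : NE, ∃ l ∈ L', ∃ k ∈ K', n = l * k := by
    intro n
    obtain ⟨⟨l, k⟩, h⟩ := hK.2 (g⁻¹ * n * g)
    have h' : (l : NE) * k = g⁻¹ * n * g := h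
    refine ⟨g * l * g⁻¹, hn.conj_mem _ l.2 g, g * k * g⁻¹, ⟨k, k.2, rfl⟩, ?_⟩
    rw [show g * (l : NE) * g⁻¹ * (g * k * g⁻¹) = g * ((l : NE) * k) * g⁻¹ by group, h']; group
  have hJN : J ≤ NE := fun j hj => Subgroup.mem_normalizer_fintype fun e he => T.loc.normal j (T.JC j hj) e he
  have hEL : ∀ e ∈ E, e ∈ L := fun e he => C.EL he
  have hdecJ : ∀ j : J, ∃ e ∈ E, ∃ k ∈ K', (j : G) = e * (k : G) ∧ (k : G) ∈ J := by
    intro j
    obtain ⟨l, hl, k, hk, h⟩ := hdec (Subgroup.inclusion hJN j)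
    have hjp : pN * (Subgroup.inclusion hJN j) = (Subgroup.inclusion hJN j) * pN := Subtype.ext (T.JC j j.2).eq.symm
    have hw : pN * k * pN⁻¹ * k⁻¹ ∈ L' := by
      have e : pN * k * pN⁻¹ * k⁻¹ = pN * l⁻¹ * pN⁻¹ * l := by
        calc pN * k * pN⁻¹ * k⁻¹ = pN * l⁻¹ * (l * k) * pN⁻¹ * k⁻¹ := by group
          _ = pN * l⁻¹ * (pN⁻¹ * (pN * (l * k))) * pN⁻¹ * k⁻¹ := by rw [inv_mul_cancel_left]
          _ = pN * l⁻¹ * (pN⁻¹ * ((l * k) * pN)) * pN⁻¹ * k⁻¹ := by rw [← h, hjp]
          _ = _ := by group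
      rw [e]
      exact mul_mem (hn.conj_mem _ (inv_mem hl) pN) hl
    have hkp : Commute (k : G) p := by
      have := hdis _ (mul_mem (mul_mem (mul_mem hpK hk) (inv_mem hpK)) (inv_mem hk)) hw
      have e' : pN * k = k * pN := mul_inv_eq_iff_eq_mul.1 (mul_inv_eq_one.1 this)
      exact (congrArg Subtype.val e').symm
    have hjl : (j : G) = (l : G) * (k : G) := congrArg Subtype.val h
    have hlp : Commute (l : G) p := by
      have := (T.JC j j.2).mul_left hkp.inv_left
      rwa [hjl, mul_inv_cancel_right] at this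
    have hlL : (l : G) ∈ L := hl
    have hlC := Subgroup.mem_centralizer_iff.1 (C.le hlL)
    obtain ⟨i, e, he, hie⟩ := hC.cent _ (hlC z hC.zE).symm hlp fun e he => (hlC e he).symm
    have hpi : p ^ i = 1 := by
      have h1 : p ^ i ∈ L := by
        have := mul_mem hlL (inv_mem (hEL e he))
        rwa [hie, mul_inv_cancel_right] at this
      have hd := Subgroup.orderOf_dvd_natCard L h1
      rw [C.cardL] at hd
      exact orderOf_eq_one_iff.1 (Nat.eq_one_of_dvd_coprimes (by norm_num) (hp ▸ orderOf_pow_dvd i) hd)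
    rw [hpi, one_mul] at hie
    refine ⟨e, he, k, hk, by rw [hjl, hie], ?_⟩
    have : e⁻¹ * (j : G) ∈ J := mul_mem (inv_mem (T.EJ he)) j.2
    rwa [hjl, hie, inv_mul_cancel_left] at this
  refine T.nonsplit (((K'.map NE.subtype)).subgroupOf J) (Subgroup.isComplement'_of_disjoint_and_mul_eq_univ ?_ ?_)
  · rw [Subgroup.disjoint_def]
    intro a ha hb
    obtain ⟨k, hk, hka⟩ := hb
    refine Subtype.ext ?_
    have hkL : k ∈ L' := show (k : G) ∈ L by
      rw [show (k : G) = (a : G) from hka]; exact hEL _ ha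
    rw [← show (k : G) = (a : G) from hka, hdis k hk hkL]; rfl
  · refine Set.eq_univ_of_forall fun j => ?_
    obtain ⟨e, he, k, hk, hjk, hkJ⟩ := hdecJ j
    exact ⟨⟨e, T.EJ he⟩, he, ⟨k, hkJ⟩, ⟨k, hk, rfl⟩, Subtype.ext hjk.symm⟩

theorem Big.pent_normalizer {p σ : G} {E J L : Subgroup G} {d : G} (hp : orderOf p = 5) (T : FiveTop z Q p E J d)
    (C : Core z Q p E L) (P : PQuot E J L p σ) :
    Subgroup.normalizer (L : Set G) = Subgroup.normalizer (E : Set G) := by
  obtain ⟨-, hcen⟩ := S.pent_special f hp T C P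
  refine le_antisymm (fun n hn => Subgroup.mem_normalizer_fintype fun e he => ?_) fun n hn =>
    Subgroup.mem_normalizer_fintype fun l hl => P.normL n hn l hl
  have heL : n * e * n⁻¹ ∈ L := (Subgroup.mem_normalizer_iff.1 hn e).1 (C.EL he)
  have hc : (⟨n * e * n⁻¹, heL⟩ : L) ∈ Subgroup.center ↥L := Subgroup.mem_center_iff.2 fun b => Subtype.ext (by
    show (b : G) * (n * e * n⁻¹) = n * e * n⁻¹ * b
    have hb : n⁻¹ * (b : G) * n ∈ L := by
      have := (Subgroup.mem_normalizer_iff.1 (inv_mem hn) (b : G)).1 b.2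
      rwa [inv_inv] at this
    have hcm : Commute (n⁻¹ * (b : G) * n) e :=
      (Subgroup.mem_centralizer_iff.1 (C.le hb) e he).symm
    have := (Commute.conj_iff n).2 hcm
    rw [show n * (n⁻¹ * (b : G) * n) * n⁻¹ = b by group] at this
    exact this.eq)
  rw [hcen] at hc
  exact hc

end Cfsg.Agent.Spor.JFour
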