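import Cfsg.Agent.Lib.Spor.JFourLoc.FiveTop

/-!
Elements of order seven: centralisers inside the centraliser of the involution, and a commuting element of order
five.
-/

set_option autoImplicit false
set_option maxRecDepth 100000
set_option linter.unusedSectionVars false

namespace Cfsg.Agent.Spor.JFour

open Cfsg.Agent.Spor.SUSix (V6)

attribute [local irreducible] wd gP Gam Kp Chk.app

universe u

variable {G : Type u} [Group G] [Finite G] {z : G} {Q N : Subgroup G} {x : G}
variable (S : Big z Q N x) (f : Frame z Q x)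

include S f

/-- an element of order seven of the centraliser of the involution -/
theorem Big.seven_cent {s : G} (h7 : s ^ 7 = 1) (h1 : s ≠ 1) (hsz : Commute s z) :
    Nat.card (Q ⊓ Subgroup.centralizer ({s} : Set G) : Subgroup G) = 2 ∧
    Nat.card (Subgroup.centralizer ({z} : Set G) ⊓ Subgroup.centralizer ({s} : Set G) : Subgroup G) = 84 := by
  haveI : Fact (Nat.Prime 7) := ⟨by norm_num⟩
  set c : Subgroup.centralizer ({z} : Set G) := ⟨s, Subgroup.mem_centralizer_singleton_iff.2 hsz.eq⟩ with hc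
  have hc7 : c ^ 7 = 1 := Subtype.ext (by rw [SubmonoidClass.coe_pow]; exact h7)
  obtain ⟨hS, hS7, hS1, hT, hTS, -, hTK, hfix⟩ := seven_facts
  obtain ⟨f', hfm, hf1⟩ := f.standard S.base (Or.inr rfl) hS hS7 hS1 hc7 fun e => h1 (congrArg Subtype.val e)
  obtain ⟨k, hk⟩ := hfm
  obtain ⟨l, hl⟩ := zpowers_gen hS7 ⟨k, hk⟩ hf1
  have hFx : (Fx (f'.π c)).ncard = 1 := by
    rw [show Fx (f'.π c) = {(0 : V6)} from Set.ext fun v => ?_, Set.ncard_singleton]
    constructor
    · intro hv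
      refine hfix v ?_
      have := (Subgroup.zpowers_le.2 (MulAction.mem_stabilizer_iff.2 hv : f'.π c ∈ MulAction.stabilizer PV v))
        ⟨l, hl⟩
      exact this
    · intro hv
      rw [Set.mem_singleton_iff] at hv
      subst hv
      show f'.π c 0 = 0
      simpa using (Gam_addP ((f'.range _).2 ⟨c, rfl⟩)) 0 0
  have hl' : f'.π c ^ l = gS := hl
  have hk' : gS ^ k = f'.π c := hk
  have hcen : Subgroup.centralizer ({f'.π c} : Set PV) = Subgroup.centralizer ({gS} : Set PV) :=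
    Subgroup.ext fun t =>
      ⟨fun h => Subgroup.mem_centralizer_singleton_iff.2
          (hl' ▸ Commute.zpow_right (show Commute t (f'.π c) from Subgroup.mem_centralizer_singleton_iff.1 h) l).eq,
        fun h => Subgroup.mem_centralizer_singleton_iff.2
          (hk' ▸ Commute.zpow_right (show Commute t gS from Subgroup.mem_centralizer_singleton_iff.1 h) k).eq⟩
  refine ⟨?_, ?_⟩
  · rw [show ({s} : Set G) = {(c : G)} from rfl, f'.card_fix S.base hc7 (by decide), hFx]
  · rw [show ({s} : Set G) = {(c : G)} from rfl, f'.card_cent S.base (q := 7) (by norm_num) hc7, hFx, hcen,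
      cent_Gam f'.mdl (Or.inr rfl) hS hS7 hS1 hT hTK hTS]

/-- the centraliser of commuting elements of order three and seven -/
theorem Big.seven_three {a s : G} (ha : orderOf a = 3) (h7 : s ^ 7 = 1) (h1 : s ≠ 1) (has : Commute a s) :
    Nat.card (Subgroup.centralizer ({s} : Set G) ⊓ Subgroup.centralizer ({a} : Set G) : Subgroup G) = 42 ∧
    ∃ u, IsConj z u ∧ Commute u s ∧ Commute u a := by
  haveI : Fact (Nat.Prime 7) := ⟨by norm_num⟩
  obtain ⟨h, hh⟩ := isConj_iff.1 (S.one_class f ha)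
  set s' := h * s * h⁻¹ with hs'
  have hxs : Commute s' x := hh ▸ (Commute.conj_iff h).2 has.symm
  have hs'z : Commute s' z := S.cent_x f hxs
  have h7' : s' ^ 7 = 1 := by rw [hs', conj_pow, h7, mul_one, mul_inv_cancel]
  have h1' : s' ≠ 1 := fun e => h1 (conj_eq_one_iff.1 e)
  set sC : Subgroup.centralizer ({z} : Set G) := ⟨s', Subgroup.mem_centralizer_singleton_iff.2 hs'z.eq⟩ with hsC
  have hsC7 : sC ^ 7 = 1 := Subtype.ext (by rw [SubmonoidClass.coe_pow]; exact h7')
  obtain ⟨hQ2, -⟩ := S.seven_cent f h7' h1' hs'z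
  have hsK : f.π sC ∈ Kp := S.Kp_of_comm f (Subtype.ext hxs.eq)
  have hs1 : f.π sC ≠ 1 := fun e => h1' (congrArg Subtype.val (f.eq_one_of_pow S.base hsC7 (by decide) e))
  have hcard : Nat.card (Kp ⊓ Subgroup.centralizer ({f.π sC} : Set PV) : Subgroup PV) = 21 :=
    cent_Kp f.mdl (Or.inr rfl) hsK (by rw [← map_pow, hsC7, map_one]) hs1
  set xC := S.base.xC with hxC
  have hxv : (xC : G) = x := rfl
  set L : Subgroup (Subgroup.centralizer ({z} : Set G)) := Subgroup.centralizer ({xC} : Set _) ⊓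
    Subgroup.centralizer ({sC} : Set _) with hL
  have hrange : (f.π.comp L.subtype).range = Kp ⊓ Subgroup.centralizer ({f.π sC} : Set PV) := by
    ext q
    constructor
    · rintro ⟨c, rfl⟩
      refine ⟨S.Kp_of_comm f (Subgroup.mem_centralizer_singleton_iff.1 c.2.1), Subgroup.mem_centralizer_singleton_iff.2 ?_⟩
      exact (Commute.map (show Commute (c : Subgroup.centralizer ({z} : Set G)) sC from
        Subgroup.mem_centralizer_singleton_iff.1 c.2.2) f.π).eq
    · rintro ⟨hq, hqs⟩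
      obtain ⟨c, hc, e⟩ := f.norm_lift S.base (q := 7) (by norm_num) hsC7 (Kp_le hq) (k := 1)
        (by rw [pow_one]; exact mul_inv_eq_iff_eq_mul.2 (Subgroup.mem_centralizer_singleton_iff.1 hqs))
      rw [pow_one] at e
      have hcs : Commute c sC := mul_inv_eq_iff_eq_mul.1 e
      have hcx : c * xC * c⁻¹ = xC := by
        set w := c * xC * c⁻¹ * xC⁻¹ with hw
        have hπ : f.π w = 1 := by
          rw [hw, map_mul, map_mul, map_mul, map_inv, map_inv, hc, f.pi_x xC rfl,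
            (gW_comm (Kp_le_LinG hq)).symm.eq, mul_inv_cancel_right, mul_inv_cancel]
        have hwQ : (w : G) ∈ Q := (f.ker w).1 hπ
        have hsx : Commute sC xC := Subtype.ext hxs.eq
        have hws : Commute (w : G) s' := by
          have h : Commute w sC :=
            ((hcs.mul_left hsx.symm).mul_left hcs.inv_left).mul_left hsx.symm.inv_left
          exact congrArg Subtype.val h.eq
        have hmem : ∀ b ∈ Q ⊓ Subgroup.centralizer ({s'} : Set G), b = 1 ∨ b = z := by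
          intro b hb
          by_contra hno
          push Not at hno
          have hsub : ({1, z, b} : Set G) ⊆ (Q ⊓ Subgroup.centralizer ({s'} : Set G) : Subgroup G) := by
            rintro y (rfl | rfl | rfl)
            exacts [one_mem _, ⟨S.base.ord.xt.mem, Subgroup.mem_centralizer_singleton_iff.2 hs'z.symm.eq⟩, hb]
          have h' := Set.ncard_le_ncard hsub (Set.toFinite _)
          rw [Set.ncard_insert_of_notMem (by simp [S.base.ord.xt.ne.symm, hno.1.symm]), Set.ncard_pair hno.2.symm,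
            ← Nat.card_coe_set_eq] at h'
          exact absurd (h'.trans_eq hQ2) (by norm_num)
        rcases hmem _ ⟨hwQ, Subgroup.mem_centralizer_singleton_iff.2 hws.eq⟩ with r | r
        · rw [← mul_inv_eq_one]; exact Subtype.ext r
        · exfalso
          have hx3 : (x : G) ^ 3 = 1 := S.base.ord.cube
          have e1 : (c : G) * x * (c : G)⁻¹ = z * x := by
            have r' : (c : G) * x * (c : G)⁻¹ * x⁻¹ = z := r
            calc (c : G) * x * (c : G)⁻¹ = (c : G) * x * (c : G)⁻¹ * x⁻¹ * x := by group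
              _ = z * x := by rw [r']
          have e2 : ((c : G) * x * (c : G)⁻¹) ^ 3 = 1 := by rw [conj_pow, hx3, mul_one, mul_inv_cancel]
          rw [e1, (S.base.ord.xz.symm).mul_pow, hx3, mul_one, pow_succ, pow_two, S.base.ord.xt.sq, one_mul] at e2
          exact S.base.ord.xt.ne e2
      exact ⟨⟨c, Subgroup.mem_centralizer_singleton_iff.2 (mul_inv_eq_iff_eq_mul.1 hcx),
        Subgroup.mem_centralizer_singleton_iff.2 hcs.eq⟩, hc⟩
  have hker : Nat.card (f.π.comp L.subtype).ker = 2 := by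
    rw [← hQ2]
    refine Nat.card_congr
      { toFun := fun k => ⟨((k.1.1 : Subgroup.centralizer ({z} : Set G)) : G), (f.ker k.1.1).1 k.2, Subgroup.mem_centralizer_singleton_iff.2
          (congrArg Subtype.val (Subgroup.mem_centralizer_singleton_iff.1 k.1.2.2))⟩
        invFun := fun r => ⟨⟨⟨r, S.base.mem_C r.2.1⟩, Subgroup.mem_centralizer_singleton_iff.2 (Subtype.ext ?_),
          Subgroup.mem_centralizer_singleton_iff.2
            (Subtype.ext (Subgroup.mem_centralizer_singleton_iff.1 r.2.2))⟩,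
          (f.ker ⟨(r : G), S.base.mem_C r.2.1⟩).2 r.2.1⟩
        left_inv := fun _ => rfl
        right_inv := fun _ => rfl }
    show (r : G) * x = x * r
    have hsub : (Q ⊓ Subgroup.centralizer ({s'} : Set G) : Subgroup G) = Subgroup.zpowers z :=
      (Subgroup.eq_of_le_of_card_ge (Subgroup.zpowers_le.2
        (show z ∈ Q ⊓ Subgroup.centralizer ({s'} : Set G) from
          ⟨S.base.ord.xt.mem, Subgroup.mem_centralizer_singleton_iff.2 hs'z.symm.eq⟩))
        (by rw [hQ2, Nat.card_zpowers, S.base.zord])).symm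
    obtain ⟨i, hi⟩ : (r : G) ∈ Subgroup.zpowers z := hsub ▸ r.2
    rw [← hi]
    exact (S.base.ord.xz.symm.zpow_left i).eq
  have hL42 : Nat.card L = 42 := by
    rw [Subgroup.card_eq_card_quotient_mul_card_subgroup (f.π.comp L.subtype).ker,
      Nat.card_congr (QuotientGroup.quotientKerEquivRange _).toEquiv, hrange, hcard, hker]
  refine ⟨?_, h⁻¹ * z * h, isConj_iff.2 ⟨h⁻¹, by group⟩, ?_, ?_⟩
  · rw [← hL42]
    have hmv : ∀ g : G, g ∈ Subgroup.centralizer ({s} : Set G) ⊓ Subgroup.centralizer ({a} : Set G) →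
        Commute (h * g * h⁻¹) s' ∧ Commute (h * g * h⁻¹) x := fun g hg =>
      ⟨(Commute.conj_iff h).2 (Subgroup.mem_centralizer_singleton_iff.1 hg.1),
        hh ▸ (Commute.conj_iff h).2 (Subgroup.mem_centralizer_singleton_iff.1 hg.2)⟩
    refine Nat.card_congr
      { toFun := fun g => ⟨⟨h * g * h⁻¹, Subgroup.mem_centralizer_singleton_iff.2 (S.cent_x f (hmv g g.2).2).eq⟩,
          Subgroup.mem_centralizer_singleton_iff.2 (Subtype.ext (hmv g g.2).2.eq),
          Subgroup.mem_centralizer_singleton_iff.2 (Subtype.ext (hmv g g.2).1.eq)⟩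
        invFun := fun c => ⟨h⁻¹ * ((c : Subgroup.centralizer ({z} : Set G)) : G) * h, ?_, ?_⟩
        left_inv := fun g => Subtype.ext (by show h⁻¹ * (h * (g : G) * h⁻¹) * h = g; group)
        right_inv := fun c => Subtype.ext (Subtype.ext (by show h * (h⁻¹ * ((c : Subgroup.centralizer ({z} : Set G)) : G) * h) * h⁻¹ = _; group)) }
    · have h2 : Commute ((c : Subgroup.centralizer ({z} : Set G)) : G) s' := congrArg Subtype.val (Subgroup.mem_centralizer_singleton_iff.1 c.2.2)
      have h3 := (Commute.conj_iff h⁻¹).2 h2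
      rw [inv_inv, hs', show h⁻¹ * (h * s * h⁻¹) * h = s by group] at h3
      exact Subgroup.mem_centralizer_singleton_iff.2 h3.eq
    · have h2 : Commute ((c : Subgroup.centralizer ({z} : Set G)) : G) x := congrArg Subtype.val (Subgroup.mem_centralizer_singleton_iff.1 c.2.1)
      have h3 := (Commute.conj_iff h⁻¹).2 h2
      rw [inv_inv, ← hh, show h⁻¹ * (h * a * h⁻¹) * h = a by group] at h3
      exact Subgroup.mem_centralizer_singleton_iff.2 h3.eq
  · have h3 := (Commute.conj_iff h⁻¹).2 hs'z.symm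
    rwa [inv_inv, hs', show h⁻¹ * (h * s * h⁻¹) * h = s by group] at h3
  · have h3 := (Commute.conj_iff h⁻¹).2 S.base.ord.xz.symm
    rwa [inv_inv, ← hh, show h⁻¹ * (h * a * h⁻¹) * h = a by group] at h3

theorem Big.card_C : Nat.card (Subgroup.centralizer ({z} : Set G)) = 2 ^ 13 * 2661120 := by
  rw [Subgroup.card_eq_card_quotient_mul_card_subgroup f.π.ker,
    Nat.card_congr (QuotientGroup.quotientKerEquivRange f.π).toEquiv,
    show f.π.range = Gam from Subgroup.ext fun p => (f.range p).symm, card_Gam f.mdl, mul_comm,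
    ← S.base.ord.cardQ]
  congr 1
  exact Nat.card_congr
    { toFun := fun k => ⟨(k.1 : G), (f.ker k.1).1 k.2⟩
      invFun := fun r => ⟨⟨r, S.base.mem_C r.2⟩, (f.ker ⟨(r : G), S.base.mem_C r.2⟩).2 r.2⟩
      left_inv := fun _ => rfl
      right_inv := fun _ => rfl }

/-- an element of order five and one acting on it, commuting with a given element of order seven -/
theorem Big.seven_five {s : G} (h7 : s ^ 7 = 1) (h1 : s ≠ 1) (hsz : Commute s z) :
    ∃ p d : G, orderOf p = 5 ∧ Commute p s ∧ Commute d s ∧ d * p * d⁻¹ = p ^ 2 ∧ d ^ 4 = 1 ∧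
      Nat.card (Subgroup.centralizer ({s} : Set G) ⊓ Subgroup.centralizer ({p} : Set G) : Subgroup G) = 35 ∧
      ¬ 25 ∣ Nat.card G := by
  classical
  haveI : Fact (Nat.Prime 7) := ⟨by norm_num⟩
  haveI : Fact (Nat.Prime 5) := ⟨by norm_num⟩
  haveI : Fact (Nat.Prime 3) := ⟨Nat.prime_three⟩
  obtain ⟨p₀, hp₀⟩ := exists_prime_orderOf_dvd_card' (G := Subgroup.centralizer ({z} : Set G)) 5
    (by rw [S.card_C f]; norm_num)
  set p : G := (p₀ : G) with hp
  have hpo : orderOf p = 5 := by rw [hp, Subgroup.orderOf_coe, hp₀]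
  have hp5 : p ^ 5 = 1 := hpo ▸ pow_orderOf_eq_one p
  have hp1 : p ≠ 1 := fun e => by rw [e, orderOf_one] at hpo; norm_num at hpo
  obtain ⟨E, J, d, T⟩ := S.five_top f hp5 hp1 (Subgroup.mem_centralizer_singleton_iff.1 p₀.2)
  have C := T.loc.ctx
  obtain ⟨s₀, hs₀⟩ := exists_prime_orderOf_dvd_card' (G := J) 7 (by rw [T.cardJ]; norm_num)
  set σ : G := (s₀ : G) with hσ
  have hσo : orderOf σ = 7 := by rw [hσ, Subgroup.orderOf_coe, hs₀]
  have hσp : Commute σ p := T.JC σ s₀.2
  have hEcomm : ∀ a ∈ E, ∀ b ∈ E, Commute a b := fun a ha b hb => by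
    have hi : ∀ e ∈ E, e⁻¹ = e := fun e he => inv_eq_of_mul_eq_one_right (C.sq e he)
    show a * b = b * a
    rw [← hi _ (mul_mem ha hb), mul_inv_rev, hi a ha, hi b hb]
  have hfree : ∀ e ∈ E, Commute σ e → e = 1 := by
    intro e he hse
    by_contra e1
    obtain ⟨c, hc, hce⟩ := T.loc.transE e he e1
    have h1' : Commute (c⁻¹ * σ * c) z := by
      have := (Commute.conj_iff c⁻¹).2 hse
      rwa [inv_inv, ← hce, show c⁻¹ * (c * z * c⁻¹) * c = z by group] at this
    have h2' : Commute (c⁻¹ * σ * c) p := (hc.inv_left.mul_left hσp).mul_left hc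
    have := Subgroup.orderOf_dvd_natCard _ (show c⁻¹ * σ * c ∈
        Subgroup.centralizer ({z} : Set G) ⊓ Subgroup.centralizer ({p} : Set G) from
      ⟨Subgroup.mem_centralizer_singleton_iff.2 h1'.eq, Subgroup.mem_centralizer_singleton_iff.2 h2'.eq⟩)
    rw [C.cardH, show c⁻¹ * σ * c = MulAut.conj c⁻¹ σ by simp [mul_assoc], MulEquiv.orderOf_eq, hσo] at this
    norm_num at this
  have hnE : ∀ g, Commute g p → ∀ e ∈ E, g * e * g⁻¹ ∈ E := T.loc.normal
  have hσE : ∀ e ∈ E, σ * e * σ⁻¹ ∈ E := hnE σ hσp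
  have hconj1 : ∀ a b c : G, a * b * a⁻¹ = c → a⁻¹ * c * a = b := fun a b c e => by rw [← e]; group
  -- adjust the element acting on the subgroup of order five
  have hd : ∃ e ∈ E, Commute (e * d) σ := by
    have hdσ : Commute (d * σ * d⁻¹) p := by
      have := (Commute.conj_iff d).2 (hσp.pow_right 3)
      rwa [← conj_pow, T.dp, ← pow_mul, show 2 * 3 = 5 + 1 from rfl, pow_succ, hp5, one_mul] at this
    have hdJ : d * σ * d⁻¹ ∈ J := by
      obtain ⟨i, j, hj, hij⟩ := T.split _ hdσ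
      have h7' : (d * σ * d⁻¹) ^ 7 = 1 := by rw [conj_pow, ← hσo, pow_orderOf_eq_one, mul_one, mul_inv_cancel]
      rw [hij, ((T.JC j hj).symm.pow_left i).mul_pow] at h7'
      have h0 := T.disj (i * 7) (by rw [pow_mul, eq_inv_of_mul_eq_one_left h7']; exact inv_mem (pow_mem hj 7))
      rw [pow_mul] at h0
      have h0' := pow_gcd_eq_one.2 ⟨(show (p ^ i) ^ 5 = 1 by rw [← pow_mul, mul_comm, pow_mul, hp5, one_pow]), h0⟩
      rw [show Nat.gcd 5 7 = 1 from rfl, pow_one] at h0'
      rw [hij, h0', one_mul]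
      exact hj
    set w := d * σ * d⁻¹ * σ⁻¹ with hw
    have hwE : w ∈ E := by
      refine T.ker w (mul_mem hdJ (inv_mem s₀.2)) fun e he => mul_inv_eq_iff_eq_mul.1 ?_
      have h1' : σ⁻¹ * e * σ ∈ E := by
        have := hnE σ⁻¹ hσp.inv_left e he
        rwa [inv_inv] at this
      have h2' : d⁻¹ * e * d = e := by rw [mul_assoc, ← (T.dE e he).eq, inv_mul_cancel_left]
      calc w * e * w⁻¹ = d * (σ * (d⁻¹ * (σ⁻¹ * e * σ) * d) * σ⁻¹) * d⁻¹ := by rw [hw]; group
        _ = d * (σ * (σ⁻¹ * e * σ) * σ⁻¹) * d⁻¹ := by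
          rw [show d⁻¹ * (σ⁻¹ * e * σ) * d = σ⁻¹ * e * σ by rw [mul_assoc, ← (T.dE _ h1').eq, inv_mul_cancel_left]]
        _ = d * e * d⁻¹ := by group
        _ = e := by rw [(T.dE e he).eq, mul_inv_cancel_right]
    let φ : E → E := fun e => ⟨(e : G) * (σ * e * σ⁻¹), mul_mem e.2 (hσE e e.2)⟩
    have hφ : Function.Injective φ := by
      intro a b e
      have e' : (a : G) * (σ * a * σ⁻¹) = b * (σ * b * σ⁻¹) := congrArg Subtype.val e
      have hab : (a : G) * b ∈ E := mul_mem a.2 b.2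
      have h : σ * ((a : G) * b) * σ⁻¹ = a * b := by
        have ha := C.sq (a : G) a.2
        calc σ * ((a : G) * b) * σ⁻¹ = ((a : G) * a) * (σ * a * σ⁻¹) * (σ * b * σ⁻¹) := by rw [ha]; group
          _ = a * ((a : G) * (σ * a * σ⁻¹)) * (σ * b * σ⁻¹) := by group
          _ = a * b * ((σ * b * σ⁻¹) * (σ * b * σ⁻¹)) := by rw [e']; group
          _ = a * b := by rw [conj_mul, C.sq (b : G) b.2]; group
      have h0 := hfree _ hab (mul_inv_eq_iff_eq_mul.1 h)
      exact Subtype.ext ((eq_inv_of_mul_eq_one_left h0).trans (inv_eq_of_mul_eq_one_right (C.sq (b : G) b.2)))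
    obtain ⟨e, he⟩ := (Finite.injective_iff_surjective.1 hφ) ⟨w, hwE⟩
    have he' : (e : G) * (σ * e * σ⁻¹) = w := congrArg Subtype.val he
    refine ⟨e, e.2, mul_inv_eq_iff_eq_mul.1 ?_⟩
    have he2 : (e : G)⁻¹ = e := inv_eq_of_mul_eq_one_right (C.sq _ e.2)
    calc (e : G) * d * σ * ((e : G) * d)⁻¹ = e * (d * σ * d⁻¹ * σ⁻¹) * σ * (e : G)⁻¹ := by group
      _ = e * ((e : G) * (σ * e * σ⁻¹)) * σ * (e : G)⁻¹ := by rw [← hw, ← he']
      _ = (e * e) * σ * ((e : G) * (e : G)⁻¹) := by group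
      _ = σ := by rw [C.sq _ e.2, one_mul, mul_inv_cancel, mul_one]
  obtain ⟨e₀, he₀, hd'⟩ := hd
  set d' := e₀ * d with hd'def
  have hd'p : d' * p * d'⁻¹ = p ^ 2 := by
    rw [hd'def, show e₀ * d * p * (e₀ * d)⁻¹ = e₀ * (d * p * d⁻¹) * e₀⁻¹ by group, T.dp,
      ((C.com e₀ he₀).pow_right 2).eq, mul_inv_cancel_right]
  have hd'4 : d' ^ 4 = 1 := by
    rw [hd'def, (T.dE e₀ he₀).symm.mul_pow, T.d4, mul_one, show (4 : ℕ) = 2 * 2 from rfl, pow_mul,
      show e₀ ^ 2 = 1 from (pow_two e₀).trans (C.sq e₀ he₀), one_pow]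
  -- the common centraliser
  have h35 : Nat.card (Subgroup.centralizer ({σ} : Set G) ⊓ Subgroup.centralizer ({p} : Set G) : Subgroup G) = 35 := by
    have hps : orderOf (p * σ) = 35 := by
      rw [hσp.symm.orderOf_mul_eq_mul_orderOf_of_coprime (by rw [hpo, hσo]; norm_num), hpo, hσo]
    rw [← hps, ← Nat.card_zpowers]
    congr 2
    refine le_antisymm ?_ (Subgroup.zpowers_le.2 ⟨Subgroup.mem_centralizer_singleton_iff.2
      (hσp.symm.mul_left (Commute.refl σ)).eq,
      Subgroup.mem_centralizer_singleton_iff.2 ((Commute.refl p).mul_left hσp).eq⟩)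
    rintro c ⟨hcσ, hcp⟩
    obtain ⟨i, j, hj, rfl⟩ := T.split c (Subgroup.mem_centralizer_singleton_iff.1 hcp)
    have hjσ : Commute j σ := by
      have := ((hσp.symm.pow_left i).inv_left).mul_left
        (show Commute (p ^ i * j) σ from Subgroup.mem_centralizer_singleton_iff.1 hcσ)
      rwa [inv_mul_cancel_left] at this
    have hpm : ∀ k : ℕ, p ^ k ∈ Subgroup.zpowers (p * σ) := fun k => by
      refine ⟨(21 * k : ℕ), ?_⟩
      show (p * σ) ^ ((21 * k : ℕ) : ℤ) = p ^ k
      rw [zpow_natCast, hσp.symm.mul_pow, show 21 * k = 7 * (3 * k) by ring, pow_mul σ, ← hσo, pow_orderOf_eq_one,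
        one_pow, mul_one, hσo, ← pow_mod_orderOf, hpo, show 7 * (3 * k) = k + 5 * (4 * k) by ring,
        Nat.add_mul_mod_self_left, ← hpo, pow_mod_orderOf]
    have hsm : σ ∈ Subgroup.zpowers (p * σ) := by
      refine ⟨(15 : ℕ), ?_⟩
      show (p * σ) ^ ((15 : ℕ) : ℤ) = σ
      rw [zpow_natCast, hσp.symm.mul_pow, show (15 : ℕ) = 5 * 3 from rfl, pow_mul, hp5, one_pow, one_mul,
        show 5 * 3 = 7 * 2 + 1 from rfl, pow_succ, pow_mul, ← hσo, pow_orderOf_eq_one, one_pow, one_mul]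
    refine mul_mem (hpm i) ?_
    -- the element acts on the block as a power
    obtain ⟨e, he, e1⟩ : ∃ e ∈ E, e ≠ 1 := ⟨z, C.zE, S.base.ord.xt.ne⟩
    let O : Fin 7 → {v : E // v ≠ 1} := fun k => ⟨⟨σ ^ k.val * e * (σ ^ k.val)⁻¹, hnE _ (hσp.pow_left _) e he⟩,
      fun h => e1 (conj_eq_one_iff.1 (congrArg Subtype.val h))⟩
    have hO : Function.Injective O := by
      intro a b h
      have h' : σ ^ a.val * e * (σ ^ a.val)⁻¹ = σ ^ b.val * e * (σ ^ b.val)⁻¹ :=
        congrArg (fun v => ((v.1 : E) : G)) h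
      have hcm : Commute ((σ ^ b.val)⁻¹ * σ ^ a.val) e := mul_inv_eq_iff_eq_mul.1 (by
        rw [show (σ ^ b.val)⁻¹ * σ ^ a.val * e * ((σ ^ b.val)⁻¹ * σ ^ a.val)⁻¹ =
          (σ ^ b.val)⁻¹ * (σ ^ a.val * e * (σ ^ a.val)⁻¹) * σ ^ b.val by group, h']
        group)
      by_contra hne
      have hd1 : (σ ^ b.val)⁻¹ * σ ^ a.val ≠ 1 := fun e' => hne (by
        rw [inv_mul_eq_one, pow_eq_pow_iff_modEq, hσo] at e'
        exact Fin.ext (Nat.ModEq.eq_of_lt_of_lt e'.symm a.2 b.2))
      obtain ⟨l, hl⟩ := zpowers_gen (hσo ▸ pow_orderOf_eq_one σ)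
        (mul_mem (inv_mem (pow_mem (Subgroup.mem_zpowers σ) _)) (pow_mem (Subgroup.mem_zpowers σ) _)) hd1
      have hl' : ((σ ^ b.val)⁻¹ * σ ^ a.val) ^ l = σ := hl
      exact e1 (hfree e he (hl' ▸ hcm.zpow_left l))
    have hbij : Function.Bijective O := (Nat.bijective_iff_injective_and_card O).2 ⟨hO, by
      haveI := Fintype.ofFinite E
      rw [Nat.card_fin, Nat.card_eq_fintype_card, Fintype.card_subtype_compl, Fintype.card_subtype_eq,
        ← Nat.card_eq_fintype_card, C.card]⟩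
    obtain ⟨k, hk⟩ := hbij.2 ⟨⟨j * e * j⁻¹, hnE j (T.JC j hj) e he⟩,
      fun h => e1 (conj_eq_one_iff.1 (congrArg Subtype.val h))⟩
    have hk' : σ ^ k.val * e * (σ ^ k.val)⁻¹ = j * e * j⁻¹ := congrArg (fun v => ((v.1 : E) : G)) hk
    have hjJ : (σ ^ k.val)⁻¹ * j ∈ J := mul_mem (inv_mem (pow_mem s₀.2 _)) hj
    have hfixall : ∀ v ∈ E, Commute ((σ ^ k.val)⁻¹ * j) v := by
      intro v hv
      rcases eq_or_ne v 1 with rfl | v1
      · exact Commute.one_right _
      obtain ⟨l, hl⟩ := hbij.2 ⟨⟨v, hv⟩, fun h => v1 (congrArg Subtype.val h)⟩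
      have hl' : σ ^ l.val * e * (σ ^ l.val)⁻¹ = v := congrArg (fun w => ((w.1 : E) : G)) hl
      have h0 : Commute ((σ ^ k.val)⁻¹ * j) e := mul_inv_eq_iff_eq_mul.1 (by
        rw [show (σ ^ k.val)⁻¹ * j * e * ((σ ^ k.val)⁻¹ * j)⁻¹ = (σ ^ k.val)⁻¹ * (j * e * j⁻¹) * σ ^ k.val by group,
          ← hk']
        group)
      have hcσ' : Commute ((σ ^ k.val)⁻¹ * j) (σ ^ l.val) :=
        ((((Commute.refl σ).pow_left _).inv_left).mul_left hjσ).pow_right _
      rw [← hl']
      exact (hcσ'.mul_right h0).mul_right hcσ'.inv_right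
    have hmE := T.ker _ hjJ hfixall
    have hcm : Commute σ ((σ ^ k.val)⁻¹ * j) :=
      ((((Commute.refl σ).pow_left k.val).inv_left).mul_left hjσ).symm
    have hj' : j = σ ^ k.val := (inv_mul_eq_one.1 (hfree _ hmE hcm)).symm
    rw [hj']
    exact pow_mem hsm _
  -- conjugating into the centraliser of the involution
  set NE := Subgroup.normalizer (E : Set G) with hNE
  have hmemNE : ∀ n, n ∈ NE → ∀ e ∈ E, n * e * n⁻¹ ∈ E := fun n hn e he => (Subgroup.mem_normalizer_iff.1 hn e).1 he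
  set CE := Subgroup.centralizer (E : Set G) with hCE
  have hCEz : CE ≤ Subgroup.centralizer ({z} : Set G) := fun c hc =>
    Subgroup.mem_centralizer_singleton_iff.2 (Subgroup.mem_centralizer_iff.1 hc z C.zE).symm
  have h7CE : ¬ 7 ∣ Nat.card CE := fun h => by
    obtain ⟨c, hc⟩ := exists_prime_orderOf_dvd_card' (G := CE) 7 h
    have hco : orderOf (c : G) = 7 := by rw [Subgroup.orderOf_coe, hc]
    obtain ⟨h2, -⟩ := S.seven_cent f (s := (c : G)) (hco ▸ pow_orderOf_eq_one _)
      (fun e => by rw [e, orderOf_one] at hco; norm_num at hco) (Subgroup.mem_centralizer_singleton_iff.1 (hCEz c.2))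
    have := Subgroup.card_le_of_le (show E ≤ Q ⊓ Subgroup.centralizer ({(c : G)} : Set G) from fun e he =>
      ⟨C.EQ he, Subgroup.mem_centralizer_singleton_iff.2 (Subgroup.mem_centralizer_iff.1 c.2 e he)⟩)
    rw [C.card, h2] at this
    norm_num at this
  obtain ⟨ρ, hρ⟩ := ElemEight.exists_rep C.card C.sq hmemNE
  have hρk : ρ.ker = CE.subgroupOf NE := by
    ext n
    rw [MonoidHom.mem_ker, hρ, Subgroup.mem_subgroupOf, Subgroup.mem_centralizer_iff]
    exact ⟨fun h e he => (h e he).eq.symm, fun h e he => (h e he).symm⟩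
  have hCEN : CE ≤ NE := Subgroup.centralizer_le_normalizer _
  have h49NE : ¬ 49 ∣ Nat.card NE := fun h => by
    rw [Subgroup.card_eq_card_quotient_mul_card_subgroup ρ.ker,
      Nat.card_congr (QuotientGroup.quotientKerEquivRange ρ).toEquiv, hρk,
      Nat.card_congr (Subgroup.subgroupOfEquivOfLe hCEN).toEquiv] at h
    have h168 : Nat.card ρ.range ∣ 168 := card_SLthree ▸ ρ.range.card_subgroup_dvd_card
    have hcop : Nat.Coprime 49 (Nat.card CE) := by
      rw [show (49 : ℕ) = 7 ^ 2 from rfl]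
      exact ((Nat.Prime.coprime_iff_not_dvd (by norm_num)).2 h7CE).pow_left 2
    have := (hcop.dvd_mul_right.1 h).trans h168
    norm_num at this
  have hσN : σ ∈ NE := Subgroup.mem_normalizer_iff.2 fun e => ⟨hσE e, fun h => by
    have := hnE σ⁻¹ hσp.inv_left _ h
    rwa [inv_inv, show σ⁻¹ * (σ * e * σ⁻¹) * σ = e by group] at this⟩
  obtain ⟨c7, hc7o, hc7a⟩ : ∃ c ∈ NE, orderOf c = 7 ∧ ∃ a, orderOf a = 3 ∧ Commute a c := by
    obtain ⟨r, hr3, hrE⟩ := C.three
    have hrC : r ∈ CE := Subgroup.mem_centralizer_iff.2 fun e he => (hrE e he).symm.eq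
    haveI : (CE.subgroupOf NE).Normal := hρk ▸ MonoidHom.normal_ker ρ
    let R : Sylow 3 (CE.subgroupOf NE) := default
    have htop := R.normalizer_sup_eq_top
    set RN := (R : Subgroup (CE.subgroupOf NE)).map (CE.subgroupOf NE).subtype with hRN
    set M := Subgroup.normalizer (RN : Set NE) with hM
    have h7N : 7 ∣ Nat.card NE := hσo ▸ Subgroup.orderOf_dvd_natCard NE hσN
    have hcards := Solv.card_sup_mul_card_inf (CE.subgroupOf NE) M
    rw [sup_comm, htop, Subgroup.card_top, Nat.card_congr (Subgroup.subgroupOfEquivOfLe hCEN).toEquiv] at hcards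
    have h7M : 7 ∣ Nat.card M :=
      (((by norm_num : Nat.Prime 7).dvd_mul).1 (hcards ▸ Dvd.dvd.mul_right h7N _)).resolve_left h7CE
    obtain ⟨c, hc⟩ := exists_prime_orderOf_dvd_card' (G := M) 7 h7M
    have hco : orderOf ((c : NE) : G) = 7 := by rw [Subgroup.orderOf_coe, Subgroup.orderOf_coe, hc]
    refine ⟨((c : NE) : G), (c : NE).2, hco, ?_⟩
    letI : MulAction (Subgroup.zpowers (c : NE)) RN :=
      { smul := fun a r => ⟨a * (r : NE) * (a : NE)⁻¹,
          (Subgroup.mem_normalizer_iff.1 (Subgroup.zpowers_le.2 c.2 a.2) r).1 r.2⟩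
        one_smul := fun r => Subtype.ext (by show (1 : NE) * r * (1 : NE)⁻¹ = r; group)
        mul_smul := fun a b r => Subtype.ext (by
          show (a : NE) * b * r * ((a : NE) * b)⁻¹ = a * (b * r * (b : NE)⁻¹) * (a : NE)⁻¹; group) }
    have hpR : IsPGroup 3 RN := R.isPGroup'.map _
    obtain ⟨k, hk⟩ := IsPGroup.iff_card.1 hpR
    have hmod := (IsPGroup.of_card (n := 1) (by rw [Nat.card_zpowers, Subgroup.orderOf_coe, hc, pow_one]) :
      IsPGroup 7 (Subgroup.zpowers (c : NE))).card_modEq_card_fixedPoints RN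
    have hk0 : k ≠ 0 := fun e => by
      rw [e, pow_zero, hRN, Subgroup.card_subtype] at hk
      have h3 : 3 ∣ Nat.card (R : Subgroup (CE.subgroupOf NE)) := by
        refine R.dvd_card_of_dvd_card ?_
        rw [Nat.card_congr (Subgroup.subgroupOfEquivOfLe hCEN).toEquiv]
        exact hr3 ▸ Subgroup.orderOf_dvd_natCard CE hrC
      rw [hk] at h3; norm_num at h3
    have hk3 : k ≤ 3 := by
      by_contra h
      push Not at h
      have hd : Nat.card RN ∣ Nat.card CE := by
        rw [hRN, Subgroup.card_subtype, ← Nat.card_congr (Subgroup.subgroupOfEquivOfLe hCEN).toEquiv]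
        exact (R : Subgroup (CE.subgroupOf NE)).card_subgroup_dvd_card
      have h81 : 3 ^ 4 ∣ 2 ^ 13 * 2661120 :=
        ((pow_dvd_pow 3 h).trans (hk ▸ hd)).trans ((Subgroup.card_dvd_of_le hCEz).trans (dvd_of_eq (S.card_C f)))
      norm_num at h81
    obtain ⟨a, ha, ha1⟩ : ∃ a : RN, a ∈ MulAction.fixedPoints (Subgroup.zpowers (c : NE)) RN ∧ a ≠ 1 := by
      by_contra hno
      push Not at hno
      have h1' : Nat.card (MulAction.fixedPoints (Subgroup.zpowers (c : NE)) RN) = 1 := by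
        rw [Nat.card_eq_one_iff_unique]
        exact ⟨⟨fun a b => Subtype.ext ((hno a a.2).trans (hno b b.2).symm)⟩,
          ⟨⟨1, fun a => Subtype.ext (by show (a : NE) * 1 * (a : NE)⁻¹ = 1; group)⟩⟩⟩
      rw [h1', hk] at hmod
      interval_cases k <;> first | exact hk0 rfl | (revert hmod; decide)
    obtain ⟨m, hm⟩ := hpR a
    have hao : orderOf ((a : NE) : G) ∣ 3 ^ m := orderOf_dvd_of_pow_eq_one (by
      have := congrArg (fun r : RN => ((r : NE) : G)) hm
      simpa using this)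
    obtain ⟨i, -, hi⟩ := (Nat.dvd_prime_pow Nat.prime_three).1 hao
    have hi0 : i ≠ 0 := fun e => ha1 (by
      rw [e, pow_zero, orderOf_eq_one_iff] at hi
      exact Subtype.ext (Subtype.ext hi))
    refine ⟨((a : NE) : G) ^ 3 ^ (i - 1), ?_, Commute.pow_left ?_ _⟩
    · rw [orderOf_pow' _ (pow_ne_zero _ (by norm_num)), hi,
        Nat.gcd_eq_right (pow_dvd_pow 3 (Nat.sub_le i 1)),
        Nat.pow_div (Nat.sub_le i 1) (by norm_num), show i - (i - 1) = 1 by omega, pow_one]
    · have h := congrArg (fun r : RN => ((r : NE) : G)) (ha ⟨(c : NE), Subgroup.mem_zpowers _⟩)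
      exact (mul_inv_eq_iff_eq_mul.1 h : ((c : NE) : G) * (a : NE) = (a : NE) * (c : NE)).symm
  obtain ⟨hc7, a, ha, hac⟩ := hc7a
  obtain ⟨h, hh⟩ := isConj_iff.1 (S.one_class f ha)
  have hc7z : Commute (h * c7 * h⁻¹) z := S.cent_x f ((Commute.conj_iff h).2 hac.symm |> fun e => hh ▸ e)
  obtain ⟨k, hk⟩ := M22U.PrimeCount.conj_of_card (G := NE) (p := 7) (by norm_num)
    (hσo ▸ Subgroup.orderOf_dvd_natCard NE hσN) (fun h => h49NE (by norm_num at h ⊢; exact h))
    (X := Subgroup.zpowers (⟨σ, hσN⟩ : NE)) (Y := Subgroup.zpowers (⟨c7, hc7o⟩ : NE))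
    (by rw [Nat.card_zpowers, Subgroup.orderOf_mk, hσo]) (by rw [Nat.card_zpowers, Subgroup.orderOf_mk, hc7])
  have hσ2 : ∃ g : G, Commute (g * σ * g⁻¹) z := by
    have hm : k * ⟨σ, hσN⟩ * k⁻¹ ∈ Subgroup.zpowers (⟨c7, hc7o⟩ : NE) := hk ▸ ⟨_, Subgroup.mem_zpowers _, rfl⟩
    obtain ⟨i, hi⟩ := hm
    have hi' : c7 ^ i = (k : G) * σ * (k : G)⁻¹ := congrArg Subtype.val hi
    refine ⟨h * k, ?_⟩
    rw [show h * (k : G) * σ * (h * (k : G))⁻¹ = h * ((k : G) * σ * (k : G)⁻¹) * h⁻¹ by group, ← hi', ← conj_zpow]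
    exact hc7z.zpow_left i
  obtain ⟨g, hgz⟩ := hσ2
  -- conjugation inside the centraliser of the involution
  set CZ := Subgroup.centralizer ({z} : Set G) with hCZ
  have hgo : orderOf (g * σ * g⁻¹) = 7 := by
    rw [show g * σ * g⁻¹ = MulAut.conj g σ by simp, MulEquiv.orderOf_eq, hσo]
  have hso : orderOf s = 7 := orderOf_eq_prime h7 h1
  obtain ⟨k', hk'⟩ := M22U.PrimeCount.conj_of_card (G := CZ) (p := 7) (by norm_num)
    (by rw [S.card_C f]; norm_num) (by rw [S.card_C f]; norm_num)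
    (X := Subgroup.zpowers (⟨g * σ * g⁻¹, Subgroup.mem_centralizer_singleton_iff.2 hgz.eq⟩ : CZ))
    (Y := Subgroup.zpowers (⟨s, Subgroup.mem_centralizer_singleton_iff.2 hsz.eq⟩ : CZ))
    (by rw [Nat.card_zpowers, Subgroup.orderOf_mk, hgo]) (by rw [Nat.card_zpowers, Subgroup.orderOf_mk, hso])
  set m := (k' : G) * g with hmdef
  have hms : m * σ * m⁻¹ ∈ Subgroup.zpowers s := by
    have hm : k' * ⟨g * σ * g⁻¹, Subgroup.mem_centralizer_singleton_iff.2 hgz.eq⟩ * k'⁻¹ ∈
        Subgroup.zpowers (⟨s, Subgroup.mem_centralizer_singleton_iff.2 hsz.eq⟩ : CZ) :=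
      hk' ▸ ⟨_, Subgroup.mem_zpowers _, rfl⟩
    obtain ⟨i, hi⟩ := hm
    refine ⟨i, ?_⟩
    have hi' : s ^ i = (k' : G) * (g * σ * g⁻¹) * (k' : G)⁻¹ := congrArg Subtype.val hi
    show s ^ i = m * σ * m⁻¹
    rw [hi', hmdef]; group
  obtain ⟨l, hl⟩ := zpowers_gen h7 hms (fun e => by
    have hm : σ = 1 := conj_eq_one_iff.1 e
    rw [hm, orderOf_one] at hσo; norm_num at hσo)
  have hl' : (m * σ * m⁻¹) ^ l = s := hl
  have hmc : ∀ {v : G}, Commute v σ → Commute (m * v * m⁻¹) s := fun {v} hv =>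
    hl' ▸ ((Commute.conj_iff m).2 hv).zpow_right l
  refine ⟨m * p * m⁻¹, m * d' * m⁻¹, ?_, hmc hσp.symm, hmc hd', ?_, ?_, ?_, T.n25⟩
  · rw [show m * p * m⁻¹ = MulAut.conj m p by simp, MulEquiv.orderOf_eq, hpo]
  · rw [show m * d' * m⁻¹ * (m * p * m⁻¹) * (m * d' * m⁻¹)⁻¹ = m * (d' * p * d'⁻¹) * m⁻¹ by group, hd'p, conj_pow]
  · rw [conj_pow, hd'4, mul_one, mul_inv_cancel]
  · rw [← h35]
    obtain ⟨i, hi⟩ := hms
    have hi' : s ^ i = m * σ * m⁻¹ := hi
    refine Nat.card_congr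
      { toFun := fun c => ⟨m⁻¹ * c * m, ?_, ?_⟩
        invFun := fun c => ⟨m * c * m⁻¹,
          Subgroup.mem_centralizer_singleton_iff.2 (hmc (Subgroup.mem_centralizer_singleton_iff.1 c.2.1)).eq,
          Subgroup.mem_centralizer_singleton_iff.2
            ((Commute.conj_iff m).2 (Subgroup.mem_centralizer_singleton_iff.1 c.2.2)).eq⟩
        left_inv := fun c => Subtype.ext (by show m * (m⁻¹ * (c : G) * m) * m⁻¹ = c; group)
        right_inv := fun c => Subtype.ext (by show m⁻¹ * (m * (c : G) * m⁻¹) * m = c; group) }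
    · have h2 := (Commute.conj_iff m⁻¹).2
        (Commute.zpow_right (show Commute (c : G) s from Subgroup.mem_centralizer_singleton_iff.1 c.2.1) i)
      rw [inv_inv, hi', show m⁻¹ * (m * σ * m⁻¹) * m = σ by group] at h2
      exact Subgroup.mem_centralizer_singleton_iff.2 h2.eq
    · have h2 := (Commute.conj_iff m⁻¹).2
        (show Commute (c : G) (m * p * m⁻¹) from Subgroup.mem_centralizer_singleton_iff.1 c.2.2)
      rw [inv_inv, show m⁻¹ * (m * p * m⁻¹) * m = p by group] at h2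
      exact Subgroup.mem_centralizer_singleton_iff.2 h2.eq

end Cfsg.Agent.Spor.JFour
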